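import Cfsg.Agent.Grp.Baer
import Cfsg.Agent.FT.Base.Chief

/-! Distinguishing colourings of solvable primitive groups (for the base size two theorem). -/

set_option autoImplicit false

namespace Cfsg.B2

open Equiv Function

section Frame

variable {k V : Type*} [Field k] [AddCommGroup V] [Module k V] {m : ℕ}

/-- the affine frame `0, e 0, …, e (m-1)` -/
noncomputable def fr (e : Module.Basis (Fin m) k V) : Fin (m + 1) → V := Fin.cons 0 e

/-- the point with barycentric coordinates `c` -/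
noncomputable def pt (e : Module.Basis (Fin m) k V) (c : Fin (m + 1) → k) : V := ∑ j, c j • fr e j

theorem pt_eq (e : Module.Basis (Fin m) k V) (c : Fin (m + 1) → k) :
    pt e c = ∑ i : Fin m, c i.succ • e i := by
  simp [pt, fr, Fin.sum_univ_succ]

theorem pt_inj (e : Module.Basis (Fin m) k V) {c c' : Fin (m + 1) → k} (h : ∑ j, c j = 1)
    (h' : ∑ j, c' j = 1) (hp : pt e c = pt e c') : c = c' := by
  have h1 : ∀ i : Fin m, c i.succ = c' i.succ := fun i => by
    have := congrArg (fun v => e.repr v i) hp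
    simpa [pt_eq, Finsupp.single_apply] using this
  funext j
  refine Fin.cases ?_ h1 j
  rw [Fin.sum_univ_succ] at h h'
  simp only [h1] at h
  linear_combination h - h'

theorem pt_single (e : Module.Basis (Fin m) k V) (j : Fin (m + 1)) :
    pt e (Pi.single j 1) = fr e j := by
  simp [pt, Pi.single_apply]

theorem fr_inj (e : Module.Basis (Fin m) k V) : Injective (fr e) := fun i j h => by
  have := pt_inj e (c := Pi.single i 1) (c' := Pi.single j 1) (by simp) (by simp)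
    (by rwa [pt_single, pt_single])
  by_contra hne
  have := congrFun this i
  simp [Pi.single_apply, hne] at this

theorem pt_surj (e : Module.Basis (Fin m) k V) (v : V) : ∃ c, ∑ j, c j = 1 ∧ pt e c = v :=
  ⟨Fin.cons (1 - ∑ i, e.repr v i) (e.repr v), by simp [Fin.sum_univ_succ], by simp [pt_eq]⟩

theorem map_pt (e : Module.Basis (Fin m) k V) {φ : V →ₗ[k] V} {τ : V} {σ : Fin (m + 1) → Fin (m + 1)}
    (h : ∀ j, φ (fr e j) + τ = fr e (σ j)) {c : Fin (m + 1) → k} (hc : ∑ j, c j = 1) :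
    φ (pt e c) + τ = ∑ j, c j • fr e (σ j) := by
  simp only [← h, smul_add, Finset.sum_add_distrib, ← Finset.sum_smul, hc, one_smul, pt, map_sum,
    map_smul]

theorem frame_perm (e : Module.Basis (Fin m) k V) {κ : Type*} (a : Fin (m + 1) → κ)
    {F : Set (Fin (m + 1) → k)} (h1 : ∀ c ∈ F, ∑ j, c j = 1) {φ : V →ₗ[k] V} {τ : V}
    (hφ : Injective φ) (hA : ∀ j, ∃ j', φ (fr e j) + τ = fr e j' ∧ a j' = a j)
    (hB : ∀ v ∈ pt e '' F, φ v + τ ∈ pt e '' F) :
    ∃ σ : Perm (Fin (m + 1)), (∀ j, φ (fr e j) + τ = fr e (σ j)) ∧ (∀ j, a (σ j) = a j) ∧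
      ∀ c ∈ F, c ∘ σ.symm ∈ F := by
  choose s hs ha using hA
  have hi : Injective s := fun i j h =>
    fr_inj e (hφ (add_right_cancel (b := τ) (by rw [hs, hs, h])))
  refine ⟨Equiv.ofBijective s (Finite.injective_iff_bijective.1 hi), hs, ha, fun c hc => ?_⟩
  set σ := Equiv.ofBijective s (Finite.injective_iff_bijective.1 hi)
  obtain ⟨c', hc', he⟩ := hB _ ⟨c, hc, rfl⟩
  have h2 : ∑ j, (c ∘ σ.symm) j = 1 := by
    rw [← h1 c hc]; exact Equiv.sum_comp σ.symm c
  have : c ∘ σ.symm = c' := pt_inj e h2 (h1 _ hc') (by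
    rw [he, map_pt e hs (h1 c hc), pt, ← Equiv.sum_comp σ]; simp [σ])
  rwa [this]

theorem frame_id (e : Module.Basis (Fin m) k V) {φ : V →ₗ[k] V} {τ : V}
    (h : ∀ j, φ (fr e j) + τ = fr e j) (v : V) : φ v + τ = v := by
  obtain ⟨c, hc, rfl⟩ := pt_surj e v
  exact map_pt e (σ := id) h hc

theorem frame_col (e : Module.Basis (Fin m) k V) {κ : Type} (a : Fin (m + 1) → κ)
    {F : Set (Fin (m + 1) → k)} (h1 : ∀ c ∈ F, ∑ j, c j = 1) (hδ : ∀ j, Pi.single j 1 ∉ F) :
    ∃ col : V → κ ⊕ Prop, ∀ (φ : V →ₗ[k] V) (τ : V), Injective φ →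
      (∀ v, col (φ v + τ) = col v) →
      ∃ σ : Perm (Fin (m + 1)), (∀ j, φ (fr e j) + τ = fr e (σ j)) ∧ (∀ j, a (σ j) = a j) ∧
        ∀ c ∈ F, c ∘ σ.symm ∈ F := by
  classical
  let col : V → κ ⊕ Prop := fun v =>
    if h : ∃ j, fr e j = v then Sum.inl (a h.choose) else Sum.inr (v ∈ pt e '' F)
  have hc : ∀ j, col (fr e j) = Sum.inl (a j) := fun j => by
    have h : ∃ i, fr e i = fr e j := ⟨j, rfl⟩
    simp only [col, dif_pos h, fr_inj e h.choose_spec]
  refine ⟨col, fun φ τ hφ h => frame_perm e a h1 hφ (fun j => ?_) fun v hv => ?_⟩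
  · have := h (fr e j)
    by_cases h2 : ∃ i, fr e i = φ (fr e j) + τ
    · obtain ⟨i, hi⟩ := h2
      rw [← hi, hc, hc] at this
      exact ⟨i, hi.symm, Sum.inl_injective this⟩
    · rw [hc] at this
      simp [col, dif_neg h2] at this
  · have h3 : ¬ ∃ j, fr e j = v := by
      rintro ⟨j, rfl⟩
      obtain ⟨c, hc, he⟩ := hv
      exact hδ j (pt_inj e (h1 c hc) (by simp) (he.trans (pt_single e j).symm) ▸ hc)
    have := h v
    by_cases h2 : ∃ i, fr e i = φ v + τ
    · simp [col, dif_neg h3, dif_pos h2] at this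
    · simp only [col, dif_neg h3, dif_neg h2, Sum.inr.injEq] at this
      exact this ▸ hv

end Frame

theorem perm_eq_one_of_le {n : ℕ} {σ : Perm (Fin n)} (h : ∀ i : Fin n, (i : ℕ) ≤ σ i) : σ = 1 := by
  have := (Finset.sum_eq_sum_iff_of_le (s := Finset.univ) fun i _ => h i).1
    (Equiv.sum_comp σ (fun i => (i : ℕ))).symm
  ext i
  exact (this i (Finset.mem_univ _)).symm

theorem perm_eq_one_of_path {n s : ℕ} {σ : Perm (Fin n)} (h0 : ∀ i : Fin n, (i : ℕ) < s → σ i = i)
    (h : ∀ i j : Fin n, s ≤ (i : ℕ) → (j : ℕ) = i + 1 → (σ j : ℕ) = σ i + 1) : σ = 1 := by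
  refine perm_eq_one_of_le fun ⟨i, hi⟩ => ?_
  induction i with
  | zero => simp
  | succ i ih =>
    rcases lt_trichotomy (i + 1) s with h1 | h1 | h1
    · rw [h0 _ h1]
    · by_contra h2
      have := h0 (σ ⟨i + 1, hi⟩) (by simp only at h2; omega)
      have := congrArg Fin.val (σ.injective this)
      simp only at this h2; omega
    · have := h ⟨i, by omega⟩ ⟨i + 1, hi⟩ (by simp only; omega) rfl
      have := ih (by omega)
      simp only at *; omega

section Path

variable {k : Type*} [Field k] {n : ℕ}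

/-- coordinates `b + α δ_i + β δ_{i+1}` with `s ≤ i` -/
def pathFam (s : ℕ) (b : Fin n → k) (α β : k) : Set (Fin n → k) :=
  {c | ∃ i j : Fin n, s ≤ (i : ℕ) ∧ (j : ℕ) = i + 1 ∧ c = b + Pi.single i α + Pi.single j β}

theorem pathFam_sum {s : ℕ} {b : Fin n → k} {α β : k} (h : ∑ j, b j + α + β = 1) :
    ∀ c ∈ pathFam s b α β, ∑ j, c j = 1 := by
  rintro _ ⟨i, j, -, -, rfl⟩
  simpa [Finset.sum_add_distrib] using h

theorem pathFam_single {s : ℕ} {b : Fin n → k} {α β : k} (hb : ∀ i : Fin n, s ≤ (i : ℕ) → b i = 0)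
    (hα : α ≠ 0) (hβ : β ≠ 0) (l : Fin n) : Pi.single l 1 ∉ pathFam s b α β := by
  rintro ⟨i, j, hi, hj, h⟩
  have hne : i ≠ j := fun e => by rw [e] at hj; omega
  have h1 := congrFun h i
  have h2 := congrFun h j
  simp only [Pi.add_apply, hb i hi, hb j (by omega), Pi.single_apply, hne, hne.symm, if_true,
    if_false, zero_add, add_zero] at h1 h2
  by_cases e : i = l
  · rw [if_neg (e ▸ hne.symm)] at h2; exact hβ h2.symm
  · rw [if_neg e] at h1; exact hα h1.symm

theorem pathFam_perm {s : ℕ} {b : Fin n → k} {α β : k} (hα : α ≠ 0) (hβ : β ≠ 0) (hαβ : α ≠ β)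
    {σ : Perm (Fin n)} (h0 : ∀ i : Fin n, (i : ℕ) < s → σ i = i) (hb : b ∘ σ.symm = b)
    (h : ∀ c ∈ pathFam s b α β, c ∘ σ.symm ∈ pathFam s b α β) : σ = 1 := by
  refine perm_eq_one_of_path h0 fun i j hi hj => ?_
  obtain ⟨i', j', -, hj', he⟩ := h _ ⟨i, j, hi, hj, rfl⟩
  have hne : i ≠ j := fun e => by rw [e] at hj; omega
  have hne' : i' ≠ j' := fun e => by rw [e] at hj'; omega
  have h1 := congrFun he (σ i)
  have h2 := congrFun he (σ j)
  have h3 := congrFun hb (σ i)
  have h4 := congrFun hb (σ j)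
  simp only [Pi.add_apply, comp_apply, symm_apply_apply, Pi.single_apply, hne, hne.symm, if_true,
    if_false, add_zero, add_assoc] at h1 h2 h3 h4
  rw [← h3, add_right_inj] at h1
  rw [← h4, add_right_inj, zero_add] at h2
  have e1 : σ i = i' := by
    by_contra e
    rw [if_neg e, zero_add] at h1
    split_ifs at h1
    exacts [hαβ h1, hα h1]
  have e2 : σ j = j' := by
    by_contra e
    rw [if_neg e, add_zero] at h2
    split_ifs at h2
    exacts [hαβ h2.symm, hβ h2]
  rw [e1, e2, hj']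

theorem pathFam_ncard (b : Fin (n + 1) → k) (α β : k) : (pathFam 1 b α β).ncard ≤ n - 1 := by
  have : pathFam 1 b α β ⊆ Set.range fun i : Fin (n - 1) =>
      b + Pi.single (⟨i + 1, by omega⟩ : Fin (n + 1)) α +
        Pi.single (⟨i + 2, by omega⟩ : Fin (n + 1)) β := by
    rintro _ ⟨⟨i, hi⟩, ⟨j, hj⟩, h1, h2, rfl⟩
    simp only at h1 h2
    obtain ⟨i, rfl⟩ : ∃ t, i = t + 1 := ⟨i - 1, by omega⟩
    subst h2
    exact ⟨⟨i, by omega⟩, rfl⟩
  refine (Set.ncard_le_ncard this (Set.finite_range _)).trans ?_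
  rw [← Set.image_univ]
  exact (Set.ncard_image_le Set.finite_univ).trans (by simp)

end Path

/-- systems of odd subsets of size `≥ 3` whose automorphisms fix all points `≥ 3` -/
theorem exists_odd_family (n : ℕ) : ∃ S : Set (Finset (Fin n)), (∀ s ∈ S, Odd s.card ∧ s.card ≠ 1) ∧
    ∀ σ : Perm (Fin n), (∀ s ∈ S, s.map σ.toEmbedding ∈ S) → ∀ i : Fin n, 3 ≤ (i : ℕ) → σ i = i := by
  by_cases h3 : n ≤ 3
  · exact ⟨∅, by simp, fun σ _ i hi => by omega⟩
  by_cases h4 : n = 4
  · subst h4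
    refine ⟨↑({{0, 1, 2}} : Finset (Finset (Fin 4))), ?_, ?_⟩
    · simp only [Finset.mem_coe]; decide
    · simp only [Finset.mem_coe]; decide
  by_cases h5 : n = 5
  · subst h5
    refine ⟨↑({{1, 3, 4}, {0, 3, 4}, {0, 1, 4}, {0, 1, 2}} : Finset (Finset (Fin 5))), ?_, ?_⟩
    · simp only [Finset.mem_coe]; decide
    · simp only [Finset.mem_coe]; decide +kernel
  let I : ℕ → ℕ → Finset (Fin n) := fun a j => Finset.univ.filter fun i => a ≤ (i : ℕ) ∧ i ≤ a + 2 * j
  have hI : ∀ a j, a + 2 * j < n → (I a j).card = 2 * j + 1 := fun a j h => by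
    have : I a j = Finset.Icc ⟨a, by omega⟩ ⟨a + 2 * j, h⟩ := by
      ext i; simp [I, Fin.le_def]
    rw [this, Fin.card_Icc]; simp only; omega
  refine ⟨{s | ∃ a j, a ≤ 1 ∧ 1 ≤ j ∧ a + 2 * j < n ∧ s = I a j}, ?_, fun σ hσ => ?_⟩
  · rintro _ ⟨a, j, -, h1, h2, rfl⟩
    rw [hI a j h2]
    exact ⟨⟨j, rfl⟩, by omega⟩
  have key : ∀ a j, a ≤ 1 → 1 ≤ j → a + 2 * j < n → ∃ b, b ≤ 1 ∧ ∀ i : Fin n,
      (a ≤ (i : ℕ) ∧ i ≤ a + 2 * j) ↔ (b ≤ (σ i : ℕ) ∧ σ i ≤ b + 2 * j) := fun a j h0 h1 h2 => by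
    obtain ⟨b, l, h3, -, h4, h5⟩ := hσ _ ⟨a, j, h0, h1, h2, rfl⟩
    have h6 := congrArg Finset.card h5
    rw [Finset.card_map, hI a j h2, hI b l h4] at h6
    obtain rfl : j = l := by omega
    refine ⟨b, h3, fun i => ?_⟩
    have := Finset.ext_iff.1 h5 (σ i)
    simpa [I] using this
  let z : Fin n := ⟨0, by omega⟩
  have hz : σ z = z := by
    obtain ⟨i, hi⟩ := σ.surjective z
    obtain ⟨b1, h1, h1'⟩ := key 0 1 (by omega) le_rfl (by omega)
    obtain ⟨b2, h2, h2'⟩ := key 1 1 le_rfl le_rfl (by omega)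
    obtain ⟨b3, h3, h3'⟩ := key 0 2 (by omega) (by omega) (by omega)
    obtain ⟨b4, h4, h4'⟩ := key 1 2 le_rfl (by omega) (by omega)
    have a1 := h1' z; have a2 := h2' z; have a3 := h3' z; have a4 := h4' z
    have c1 := h1' i; have c2 := h2' i; have c3 := h3' i; have c4 := h4' i
    rw [hi] at c1 c2 c3 c4
    have : i = z := Fin.ext (by simp only [z] at *; omega)
    rwa [this] at hi
  have hle : ∀ t, 2 ≤ t → t < n → ∀ i : Fin n, (i : ℕ) ≤ t ↔ (σ i : ℕ) ≤ t := fun t h2 ht i => by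
    have hi : (i : ℕ) = 0 ↔ (σ i : ℕ) = 0 :=
      ⟨fun e => by rw [show i = z from Fin.ext e, hz],
        fun e => congrArg Fin.val (σ.injective (show σ i = σ z by rw [hz]; exact Fin.ext e))⟩
    rcases Nat.even_or_odd' t with ⟨j, rfl | rfl⟩
    · obtain ⟨b, h1, h⟩ := key 0 j (by omega) (by omega) (by omega)
      have a := h z; have c := h i
      rw [hz] at a
      simp only [z] at a; omega
    · obtain ⟨b, h1, h⟩ := key 1 j le_rfl (by omega) (by omega)
      have a := h z; have c := h i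
      rw [hz] at a
      simp only [z] at a; omega
  intro i hi
  have a := hle i (by omega) i.2 i
  have b := hle (i - 1) (by omega) (by omega) i
  exact Fin.ext (by omega)

theorem exists_odd_family' (n : ℕ) : ∃ F : Set (Fin n → ZMod 2), (∀ c ∈ F, ∑ j, c j = 1) ∧
    (∀ j, Pi.single j 1 ∉ F) ∧
    ∀ σ : Perm (Fin n), (∀ c ∈ F, c ∘ σ.symm ∈ F) → ∀ i : Fin n, 3 ≤ (i : ℕ) → σ i = i := by
  obtain ⟨S, h1, h2⟩ := exists_odd_family n
  let χ : Finset (Fin n) → Fin n → ZMod 2 := fun s i => if i ∈ s then 1 else 0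
  have hχ : Injective χ := fun s t h => by
    ext i
    have := congrFun h i
    simp only [χ] at this
    by_cases a : i ∈ s <;> by_cases b : i ∈ t <;> simp_all
  refine ⟨χ '' S, ?_, ?_, fun σ h => h2 σ fun s hs => ?_⟩
  · rintro _ ⟨s, hs, rfl⟩
    simpa [χ] using (ZMod.natCast_eq_one_iff_odd.2 (h1 s hs).1)
  · rintro j ⟨s, hs, h⟩
    have : s = {j} := hχ (by rw [h]; ext i; simp [χ, Pi.single_apply])
    exact (h1 s hs).2 (by simp [this])
  · obtain ⟨t, ht, he⟩ := h _ ⟨s, hs, rfl⟩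
    have : s.map σ.toEmbedding = t := hχ (by rw [he]; ext i; simp [χ])
    rwa [this]

theorem exists_finBasis (r : ℕ) [Fact r.Prime] (V : Type*) [AddCommGroup V] [Module (ZMod r) V]
    [Finite V] : ∃ m, Nat.card V = r ^ m ∧ Nonempty (Module.Basis (Fin m) (ZMod r) V) := by
  haveI : Module.Finite (ZMod r) V := Module.Finite.of_finite
  refine ⟨_, ?_, ⟨Module.finBasis (ZMod r) V⟩⟩
  have := Module.natCard_eq_pow_finrank (K := ZMod r) (V := V)
  rwa [Nat.card_zmod] at this

theorem lin_coloring_aux {V : Type} [AddCommGroup V] [Finite V] {r : ℕ} [hr : Fact r.Prime]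
    [Module (ZMod r) V] (h2 : r ≠ 2) :
    ∃ B₁ B₂ : Set V, Disjoint B₁ B₂ ∧ 4 * B₂.ncard < Nat.card V ∧
      ∀ φ : V →+ V, Injective φ → (∀ x ∈ B₁, φ x ∈ B₁) → (∀ x ∈ B₂, φ x ∈ B₂) → ∀ x, φ x = x := by
  obtain ⟨m, h3, ⟨e⟩⟩ := exists_finBasis r V
  let b : Fin (m + 1) → ZMod r := Pi.single 0 1
  have h1 := pathFam_sum (s := 1) (b := b) (α := 1) (β := -1) (by simp [b])
  have hδ := pathFam_single (s := 1) (b := b) (α := 1) (β := -1)
    (fun i hi => Pi.single_eq_of_ne (fun h => by simp [h] at hi) _) one_ne_zero (by simp)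
  refine ⟨Set.range e, pt e '' pathFam 1 b 1 (-1), ?_, ?_, fun φ hφ hφ1 hφ2 x => ?_⟩
  · rw [Set.disjoint_left]
    rintro _ ⟨i, rfl⟩ ⟨c, hc, h⟩
    exact hδ i.succ (pt_inj e (h1 c hc) (by simp) (h.trans (pt_single e i.succ).symm) ▸ hc)
  · have h4 : 3 ≤ r := by have := hr.out.two_le; omega
    have h5 : ∀ n : ℕ, 4 * (n - 1) < 3 ^ n := fun n => by
      induction n with
      | zero => simp
      | succ n ih => have := Nat.lt_pow_self (n := n) (show 1 < 3 by norm_num); rw [pow_succ]; omega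
    have h6 := (Set.ncard_image_le (f := pt e) (Set.toFinite _)).trans (pathFam_ncard b 1 (-1))
    have h7 := Nat.pow_le_pow_left h4 m
    have := h5 m
    omega
  · obtain ⟨σ, hσ, ha, hF⟩ := frame_perm e (fun j => j = 0) h1 (φ := φ.toZModLinearMap r) (τ := 0)
      hφ (fun j => by
        refine Fin.cases ⟨0, by simp [fr], rfl⟩ (fun i => ?_) j
        obtain ⟨l, hl⟩ := hφ1 (e i) ⟨i, rfl⟩
        exact ⟨l.succ, by rw [add_zero]; exact hl.symm, by simp⟩)
      fun v hv => by rw [add_zero]; exact hφ2 v hv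
    have h0 : σ 0 = 0 := (ha 0).symm ▸ rfl
    have := pathFam_perm one_ne_zero (by simp) (fun h => h2 <| by
        have h3 : ((2 : ℕ) : ZMod r) = 0 := by linear_combination h
        exact (Nat.prime_dvd_prime_iff_eq hr.out Nat.prime_two).1
          ((ZMod.natCast_eq_zero_iff _ _).1 h3))
      (fun i hi => by rw [show i = 0 from Fin.ext (by simpa using hi), h0]) (by
        ext i; simp [b, Pi.single_apply, symm_apply_eq, h0]) hF
    subst this
    simpa using frame_id e hσ x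

theorem exists_lin_coloring {Λ : Type} [CommGroup Λ] [Finite Λ] {r : ℕ} (hr : r.Prime)
    (h2 : r ≠ 2) (he : ∀ x : Λ, x ^ r = 1) :
    ∃ B₁ B₂ : Set Λ, Disjoint B₁ B₂ ∧ 4 * B₂.ncard < Nat.card Λ ∧
      ∀ φ : Λ ≃* Λ, (∀ x, φ x ∈ B₁ ↔ x ∈ B₁) → (∀ x, φ x ∈ B₂ ↔ x ∈ B₂) → ∀ x, φ x = x := by
  obtain ⟨B₁, B₂, h1, h3, h⟩ := @lin_coloring_aux (Additive Λ) _ _ r ⟨hr⟩
    (AddCommGroup.zmodModule fun x => he x.toMul) h2
  exact ⟨B₁, B₂, h1, h3, fun φ a b => h (MonoidHom.toAdditive φ.toMonoidHom) φ.injective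
    (fun x hx => (a x).2 hx) fun x hx => (b x).2 hx⟩

open Cfsg.FT in
/-- a `3'`-group with a self-centralizing minimal normal `2`-subgroup induces no transvection -/
theorem mem_of_transvection {S : Type*} [Group S] [Finite S] (h3 : ¬ 3 ∣ Nat.card S)
    {W : Subgroup S} (hW : MinNormalIn W ⊤) (hE : IsElementaryAbelian 2 W) (hC : 𝐂[W] ≤ W)
    {g d : S} (hd : d ∈ W) (h : ∀ w ∈ W, g * w * g⁻¹ * w⁻¹ = 1 ∨ g * w * g⁻¹ * w⁻¹ = d) :
    g ∈ W := by
  haveI : W.Normal := Subgroup.normalizer_eq_top_iff.1 (top_le_iff.1 hW.norm)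
  have hc : ∀ a ∈ W, ∀ b ∈ W, a * b = b * a := fun a ha b hb =>
    congrArg Subtype.val (hE.1.1.1 ⟨a, ha⟩ ⟨b, hb⟩)
  have h2 : ∀ a ∈ W, a * a = 1 := fun a ha => by rw [← sq, hE.2 a ha]
  refine hC (hW.pgroup_cents hE.isPGroup (isPGroup_pCore 2 S)
    (Subgroup.normalizer_eq_top _).ge (le_top.trans hW.norm)
    (mem_pCore_of_forall_conj fun k => ?_))
  set d' := k * d * k⁻¹
  have hd' : d' ∈ W := Subgroup.Normal.conj_mem inferInstance d hd k
  have e1 := h2 d hd
  have e2 := h2 d' hd'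
  have e3 := hc d' hd' d hd
  have e4 : ∀ x, d * (d * x) = x := fun x => by rw [← mul_assoc, e1, one_mul]
  have e5 : ∀ x, d' * (d * x) = d * (d' * x) := fun x => by rw [← mul_assoc, e3, mul_assoc]
  have hsub : ∀ a ∈ ({1, d, d', d * d'} : Set S), a ∈ W := by
    rintro a (rfl | rfl | rfl | rfl)
    exacts [one_mem _, hd, hd', mul_mem hd hd']
  let R : Subgroup S :=
    { carrier := {1, d, d', d * d'}
      one_mem' := by simp
      mul_mem' := by
        rintro a b (rfl | rfl | rfl | rfl) (rfl | rfl | rfl | rfl) <;>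
          simp [mul_assoc, e1, e2, e3, e4, e5]
      inv_mem' := fun {a} ha => by rwa [inv_eq_of_mul_eq_one_left (h2 a (hsub a ha))] }
  have hR : Nat.card R ≤ 4 := by
    have a1 := Set.ncard_insert_le 1 ({d, d', d * d'} : Set S)
    have a2 := Set.ncard_insert_le d ({d', d * d'} : Set S)
    have a3 := Set.ncard_insert_le d' ({d * d'} : Set S)
    rw [Set.ncard_singleton] at a3
    change ({1, d, d', d * d'} : Set S).ncard ≤ 4
    omega
  let X : Subgroup S :=
    { carrier := {x | ∀ w ∈ W, x * w * x⁻¹ * w⁻¹ ∈ R}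
      one_mem' := fun w _ => by simp
      mul_mem' := fun {x y} hx hy w hw => by
        have := mul_mem (hx _ (Subgroup.Normal.conj_mem inferInstance w hw y)) (hy w hw)
        convert this using 1; group
      inv_mem' := fun {x} hx w hw => by
        have := inv_mem (hx _ (Subgroup.Normal.conj_mem inferInstance w hw x⁻¹))
        convert this using 1; group }
  refine ⟨X, ?_, fun w hw => ?_, fun w hw => ?_⟩
  · refine IsPGroup.iff_card.2 ⟨_, Nat.eq_prime_pow_of_unique_prime_dvd Nat.card_pos.ne'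
      fun {l} hl hd => ?_⟩
    obtain ⟨y, hy, ho⟩ := Cauchy hl hd
    by_contra hl2
    have hl3 : l ≠ 3 := fun e => h3 (e ▸ hd.trans (Subgroup.card_subgroup_dvd_card X))
    have hn : y ∈ 𝐍[R] := Subgroup.mem_normalizer_fintype fun r hr => by
      have := mul_mem (hy r (hsub r hr)) hr
      rwa [inv_mul_cancel_right] at this
    let π : Perm R := MulAut.toPerm R (R.normalizerMonoidHom ⟨y, hn⟩)
    have hπ : π = 1 := by
      have a1 : orderOf π ∣ l := orderOf_dvd_of_pow_eq_one (by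
        rw [← map_pow, ← map_pow, show (⟨y, hn⟩ : 𝐍[R]) ^ l = 1 from
          Subtype.ext (ho ▸ pow_orderOf_eq_one y), map_one, map_one])
      have a2 : orderOf π ∣ 24 := (orderOf_dvd_natCard π).trans
        (by rw [Nat.card_perm]; exact Nat.factorial_dvd_factorial hR)
      refine orderOf_eq_one_iff.1 (((Nat.dvd_prime hl).1 a1).resolve_right fun e => ?_)
      rw [e, show 24 = 2 ^ 3 * 3 from rfl, hl.dvd_mul] at a2
      exact a2.elim (fun a => hl2 ((Nat.prime_dvd_prime_iff_eq hl Nat.prime_two).1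
        (hl.dvd_of_dvd_pow a))) fun a => hl3 ((Nat.prime_dvd_prime_iff_eq hl Nat.prime_three).1 a)
    have hy2 : y * y ∈ W := hC fun w hw => by
      have a1 := hy w hw
      have a2 : y * (y * w * y⁻¹ * w⁻¹) * y⁻¹ = y * w * y⁻¹ * w⁻¹ :=
        congrArg Subtype.val (DFunLike.congr_fun hπ (⟨_, a1⟩ : R) :)
      have a3 := h2 _ (hsub _ a1)
      calc w * (y * y) = (y * w * y⁻¹ * w⁻¹) * (y * w * y⁻¹ * w⁻¹) * w * (y * y) := by
            rw [a3, one_mul]
        _ = y * (y * w * y⁻¹ * w⁻¹) * y⁻¹ * (y * w * y⁻¹ * w⁻¹) * w * (y * y) := by rw [a2]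
        _ = y * y * w := by group
    have : l ∣ 2 ^ 2 := ho ▸ orderOf_dvd_of_pow_eq_one (by
      rw [← h2 _ hy2]; simp [pow_succ, mul_assoc])
    exact hl2 ((Nat.prime_dvd_prime_iff_eq hl Nat.prime_two).1 (hl.dvd_of_dvd_pow this))
  · rcases h w hw with e | e <;> rw [e] <;> simp [R]
  · have := h _ (Subgroup.Normal.conj_mem inferInstance w hw k⁻¹)
    have e0 : k * g * k⁻¹ * w * (k * g * k⁻¹)⁻¹ * w⁻¹ =
      k * (g * (k⁻¹ * w * k⁻¹⁻¹) * g⁻¹ * (k⁻¹ * w * k⁻¹⁻¹)⁻¹) * k⁻¹ := by group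
    rcases this with e | e <;> rw [e0, e] <;> simp [R, d']

theorem aff_coloring {S Ω V : Type} [Group S] [Finite S] [MulAction S Ω] [AddCommGroup V] [Finite V]
    {r p : ℕ} [hr : Fact r.Prime] [Module (ZMod r) V] (hp : p.Prime) (h2 : p ≠ 2) (hrp : r ≠ p)
    (hc : ¬ p ∣ Nat.card S) (hV : p < Nat.card V) (θ : V ≃ Ω) (φ : S → V →+ V) (τ : S → V)
    (hφ : ∀ g, Injective (φ g)) (hθ : ∀ g v, g • θ v = θ (φ g v + τ g))
    (htr : r = 2 → p = 3 → ∀ g d, (∀ v, φ g v - v = 0 ∨ φ g v - v = d) → ∀ v, φ g v = v) :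
    ∃ (κ : Type) (_ : Finite κ), Nat.card κ ≤ p ∧
      ∃ c : Ω → κ, ∀ g : S, (∀ x, c (g • x) = c x) → ∀ x : Ω, g • x = x := by
  have hp3 : 3 ≤ p := by have := hp.two_le; omega
  obtain ⟨m, hm, ⟨e⟩⟩ := exists_finBasis r V
  have main : ∀ (κ : Type) [Finite κ] (a : Fin (m + 1) → κ) (F : Set (Fin (m + 1) → ZMod r)),
      Nat.card κ + 2 ≤ p → (∀ c ∈ F, ∑ j, c j = 1) → (∀ j, Pi.single j 1 ∉ F) →
      (∀ (g : S) (σ : Perm (Fin (m + 1))),
        (∀ j, (φ g).toZModLinearMap r (fr e j) + τ g = fr e (σ j)) →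
        (∀ j, a (σ j) = a j) → (∀ c ∈ F, c ∘ σ.symm ∈ F) → σ = 1) →
      ∃ (κ : Type) (_ : Finite κ), Nat.card κ ≤ p ∧ ∃ c : Ω → κ,
        ∀ g : S, (∀ x, c (g • x) = c x) → ∀ x : Ω, g • x = x := fun κ _ a F h0 h1 hδ h => by
    obtain ⟨col, hcol⟩ := frame_col e a h1 hδ
    refine ⟨κ ⊕ Prop, inferInstance, by simpa using h0, col ∘ θ.symm, fun g hg x => ?_⟩
    obtain ⟨σ, a1, a2, a3⟩ := hcol ((φ g).toZModLinearMap r) (τ g) (hφ g) fun v => by
      simpa [hθ] using hg (θ v)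
    obtain rfl := h g σ a1 a2 a3
    obtain ⟨v, rfl⟩ := θ.surjective x
    rw [hθ]
    exact congrArg θ (frame_id e a1 v)
  have hcast : ∀ n : ℕ, n.Prime → r ≠ n → ((n : ℕ) : ZMod r) ≠ 0 := fun n hn h e =>
    h ((Nat.prime_dvd_prime_iff_eq hr.out hn).1 ((ZMod.natCast_eq_zero_iff _ _).1 e))
  have hp5 : p ≠ 3 → 5 ≤ p := fun h => hp.five_le_of_ne_two_of_ne_three h2 h
  by_cases hr2 : r = 2
  · have h5 : ∀ u : ZMod 2, u = 0 ∨ u = 1 := by decide
    subst hr2
    obtain ⟨F, h1, hδ, hF⟩ := exists_odd_family' (m + 1)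
    by_cases h3 : p = 3
    · subst h3
      refine main Unit (fun _ => ()) F (by simp) h1 hδ fun g σ a1 _ a3 => ?_
      have hm2 : 2 ≤ m := by
        rw [hm] at hV
        by_contra h; interval_cases m <;> simp at hV
      have b1 : σ.support.card ≤ 3 := by
        refine (Finset.card_le_card (t := Finset.Iic ⟨2, by omega⟩) fun i hi => ?_).trans (by simp)
        by_contra h
        exact Perm.mem_support.1 hi (hF σ a3 i (by simpa [Fin.lt_def, Nat.succ_le_iff] using h))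
      have b2 : ∀ n j, g ^ n • θ (fr e j) = θ (fr e ((σ ^ n) j)) := fun n j => by
        induction n with
        | zero => simp
        | succ n ih => rw [pow_succ', mul_smul, ih, hθ, pow_succ', Perm.mul_apply, ← a1]; rfl
      have b3 : σ.support.card ≠ 3 := fun h => hc <|
        (card_support_eq_three_iff.1 h).orderOf ▸ orderOf_dvd_of_pow_eq_one (Equiv.ext fun j =>
          fr_inj e (θ.injective (by rw [← b2, pow_card_eq_one', one_smul]; rfl)))
      by_contra hσ
      obtain ⟨x, y, hxy, rfl⟩ := Perm.card_support_eq_two.1 (show σ.support.card = 2 by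
        have := mt Perm.card_support_le_one.1 hσ; omega)
      have b4 : ∀ v, ∃ t : ZMod 2, φ g v + τ g = v + t • (fr e y - fr e x) := fun v => by
        obtain ⟨c, hc, rfl⟩ := pt_surj e v
        refine ⟨c x - c y, (map_pt e a1 hc).trans ?_⟩
        rw [pt, ← sub_eq_iff_eq_add', ← Finset.sum_sub_distrib,
          Finset.sum_eq_add_of_mem x y (Finset.mem_univ _) (Finset.mem_univ _) hxy
            fun j _ hj => by rw [swap_apply_of_ne_of_ne hj.1 hj.2, sub_self]]
        rw [swap_apply_left, swap_apply_right]; module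
      have b6 := htr rfl rfl g (fr e y - fr e x) fun v => by
        obtain ⟨t, ht⟩ := b4 v
        obtain ⟨s, hs⟩ := b4 0
        have : φ g v - v = (t - s) • (fr e y - fr e x) := by
          rw [map_zero, zero_add, zero_add] at hs
          rw [hs] at ht
          rw [sub_smul, eq_sub_of_add_eq ht]; abel
        rcases h5 (t - s) with u | u <;> simp [this, u]
      obtain ⟨z, hz⟩ : ∃ z, z ∉ ({x, y} : Finset (Fin (m + 1))) := by
        by_contra h
        push Not at h
        have := (Finset.card_le_card (s := Finset.univ) fun i _ => h i).trans Finset.card_le_two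
        simp at this; omega
      simp only [Finset.mem_insert, Finset.mem_singleton, not_or] at hz
      have c1 : φ g _ + _ = _ := a1 z
      have c2 : φ g _ + _ = _ := a1 x
      rw [b6, swap_apply_of_ne_of_ne hz.1 hz.2, add_eq_left] at c1
      rw [b6, c1, add_zero, swap_apply_left] at c2
      exact hxy (fr_inj e c2)
    · refine main (Fin 3) (fun j => ⟨min j 2, by omega⟩) F (by simpa using hp5 h3) h1 hδ
        fun g σ _ a2 a3 => perm_eq_one_of_le fun i => ?_
      have b1 := hF σ a3 i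
      have b2 := congrArg Fin.val (a2 i)
      simp only at b2
      by_cases h : 3 ≤ (i : ℕ)
      · rw [b1 h]
      · omega
  have h12 : (1 : ZMod r) ≠ -1 := fun h => hcast 2 Nat.prime_two hr2 (by
    push_cast; linear_combination h)
  by_cases hr3 : r = 3
  · refine main Prop (fun j => j = 0) (pathFam 1 (Pi.single 0 1) 1 (-1))
      (by have := hp5 (hr3 ▸ hrp.symm); simp; omega) (pathFam_sum (by simp))
      (pathFam_single (fun i hi => Pi.single_eq_of_ne (fun h => by simp [h] at hi) _) one_ne_zero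
        (by simp)) fun g σ _ a2 a3 => ?_
    have h0 : σ 0 = 0 := (a2 0).symm ▸ rfl
    exact pathFam_perm one_ne_zero (by simp) h12
      (fun i hi => by rw [show i = 0 from Fin.ext (by simpa using hi), h0]) (by
        ext i; simp [Pi.single_apply, symm_apply_eq, h0]) a3
  · have b2 : (2 : ZMod r) ≠ 0 := by simpa using hcast 2 Nat.prime_two hr2
    refine main Unit (fun _ => ()) (pathFam 0 0 2 (-1)) (by simpa using hp3)
      (pathFam_sum (by simp; ring)) (pathFam_single (fun _ _ => rfl) b2 (by simp))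
      fun g σ _ _ a3 => pathFam_perm b2 (by simp) (fun h => hcast 3 Nat.prime_three hr3 (by
        push_cast; linear_combination h)) (by simp) rfl a3

open Cfsg.FT MulAction in
theorem prim_coloring {S Ω : Type} [Group S] [Finite S] [MulAction S Ω] [FaithfulSMul S Ω]
    [IsPreprimitive S Ω] [Nontrivial Ω] (hs : Group.IsSolvable S) {p : ℕ} (hp : p.Prime)
    (h2 : p ≠ 2) (hc : ¬ p ∣ Nat.card S) :
    ∃ c : Ω → ZMod p, ∀ g : S, (∀ x, c (g • x) = c x) → ∀ x : Ω, g • x = x := by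
  classical
  haveI := Fact.mk hp
  obtain ⟨ω, ω', hω⟩ := exists_pair_ne Ω
  haveI : Finite Ω := Finite.of_surjective (fun g : S => g • ω) fun x => exists_smul_eq S ω x
  suffices ∃ (κ : Type) (_ : Finite κ), Nat.card κ ≤ p ∧
      ∃ c : Ω → κ, ∀ g : S, (∀ x, c (g • x) = c x) → ∀ x : Ω, g • x = x by
    obtain ⟨κ, _, h, c, hc⟩ := this
    obtain ⟨f⟩ : Nonempty (κ ↪ ZMod p) := by
      cases nonempty_fintype κ
      exact Function.Embedding.nonempty_of_card_le (by rwa [ZMod.card, ← Nat.card_eq_fintype_card])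
    exact ⟨f ∘ c, fun g h => hc g fun x => f.injective (h x)⟩
  by_cases hΩ : Nat.card Ω ≤ p
  · exact ⟨Ω, inferInstance, hΩ, id, fun g h => h⟩
  obtain ⟨r, W, hr, hE, hW, -⟩ := sol_exists_normal_abelem (U := (⊤ : Subgroup S)) (A := ⊤)
    inferInstance (fun e => by
      obtain ⟨g, hg⟩ := exists_smul_eq S ω ω'
      rw [show g = 1 from Subgroup.mem_bot.1 (e ▸ Subgroup.mem_top g), one_smul] at hg
      exact hω hg) (Subgroup.normalizer_eq_top _).ge
  haveI : W.Normal := Subgroup.normalizer_eq_top_iff.1 (top_le_iff.1 hW.norm)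
  have hcm : ∀ a ∈ W, ∀ b ∈ W, a * b = b * a := fun a ha b hb =>
    congrArg Subtype.val (hE.1.1.1 ⟨a, ha⟩ ⟨b, hb⟩)
  haveI : IsPretransitive W Ω := IsQuasiPreprimitive.isPretransitive_of_normal fun e =>
    hW.ne_bot (eq_bot_iff.2 fun w hw => eq_of_smul_eq_smul (α := Ω) fun x =>
      ((e ▸ Set.mem_univ x : x ∈ fixedPoints W Ω) ⟨w, hw⟩).trans (one_smul S x).symm)
  have hfix : ∀ c ∈ 𝐂[W], c • ω = ω → c = 1 := fun c hc h => eq_of_smul_eq_smul (α := Ω) fun x => by
    obtain ⟨w, rfl⟩ := exists_smul_eq W ω x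
    rw [one_smul, Subgroup.smul_def, ← mul_smul, ← hc w w.2, mul_smul, h]
  have hWC : W ≤ 𝐂[W] := fun a ha b hb => hcm b hb a ha
  have hC : 𝐂[W] ≤ W := fun c hc => by
    obtain ⟨w, hw⟩ := exists_smul_eq W ω (c • ω)
    have := hfix (c⁻¹ * w) (mul_mem (inv_mem hc) (hWC w.2))
      (by rw [mul_smul, ← Subgroup.smul_def, hw, inv_smul_smul])
    rw [inv_mul_eq_one.1 this]; exact w.2
  letI : CommGroup W := { mul_comm := hE.1.1.1 }
  let θ : Additive W ≃ Ω := Equiv.ofBijective (fun w => (w.toMul : S) • ω)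
    ⟨fun a b h => by
      have := hfix _ (hWC (mul_mem (inv_mem a.toMul.2) b.toMul.2))
        (by rw [mul_smul, ← show _ = (b.toMul : S) • ω from h, inv_smul_smul])
      exact Subtype.ext (inv_mul_eq_one.1 this),
    fun x => exists_smul_eq W ω x⟩
  haveI := Fact.mk hr
  refine @aff_coloring S Ω (Additive W) _ _ _ _ _ r p ⟨hr⟩
    (AddCommGroup.zmodModule fun x => Subtype.ext (hE.2 _ x.toMul.2)) hp h2
    (fun h => hc (h ▸ (pgroup_pdiv hE.isPGroup hW.ne_bot).trans (Subgroup.card_subgroup_dvd_card W)))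
    hc (by rw [Nat.card_congr θ]; omega) θ
    (fun g => MonoidHom.toAdditive (MulAut.conjNormal (H := W) g).toMonoidHom)
    (fun g => θ.symm (g • ω)) (fun g => (MulAut.conjNormal (H := W) g).injective) (fun g v => ?_)
    fun h2 h3 g d h v => ?_
  · have : ((θ.symm (g • ω)).toMul : S) • ω = g • ω := θ.apply_symm_apply (g • ω)
    change g • (v.toMul : S) • ω = (g * v.toMul * g⁻¹ * (θ.symm (g • ω)).toMul) • ω
    rw [mul_smul, this, smul_smul, smul_smul, inv_mul_cancel_right]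
  · subst h2 h3
    have b5 : g ∈ W := mem_of_transvection hc hW hE hC d.toMul.2 fun w hw =>
      (h (Additive.ofMul ⟨w, hw⟩)).imp (fun e => by
        rw [← div_eq_mul_inv]; exact congrArg (fun v : Additive W => (v.toMul : S)) e) fun e => by
        rw [← div_eq_mul_inv]; exact congrArg (fun v : Additive W => (v.toMul : S)) e
    refine Subtype.ext ?_
    change g * v.toMul * g⁻¹ = v.toMul
    rw [hcm g b5 _ v.toMul.2, mul_inv_cancel_right]

/-- a solvable primitive p'-group has a distinguishing colouring with p colours (p odd) -/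
theorem exists_coloring {G : Type} [Group G] [Finite G] (hs : Group.IsSolvable G) {p : ℕ}
    (hp : p.Prime) (h2 : p ≠ 2) (hc : ¬ p ∣ Nat.card G) {M : Subgroup G} (hM : IsCoatom M) :
    ∃ c : G ⧸ M → ZMod p, ∀ g : G, (∀ x, c (g • x) = c x) → ∀ x : G ⧸ M, g • x = x := by
  haveI : Nontrivial (G ⧸ M) := QuotientGroup.nontrivial_iff.2 hM.1
  haveI : MulAction.IsPreprimitive G (G ⧸ M) :=
    (MulAction.isCoatom_stabilizer_iff_preprimitive G ((1 : G) : G ⧸ M)).1
      (by rwa [MulAction.stabilizer_quotient])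
  let f := MulAction.toPermHom G (G ⧸ M)
  haveI : Finite f.range := Finite.of_surjective _ f.rangeRestrict_surjective
  haveI : MulAction.IsPreprimitive f.range (G ⧸ M) :=
    MulAction.IsPreprimitive.of_surjective (φ := f.rangeRestrict)
      (f := ⟨id, fun _ _ => rfl⟩) surjective_id
  obtain ⟨c, h⟩ := prim_coloring (S := f.range) (Ω := G ⧸ M)
    (Group.isSolvable_of_surjective f.rangeRestrict_surjective) hp h2
    fun h => hc (h.trans (Subgroup.card_dvd_of_surjective _ f.rangeRestrict_surjective))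
  exact ⟨c, fun g hg => h (f.rangeRestrict g) hg⟩

end Cfsg.B2
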