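import Mathlib

set_option autoImplicit false

namespace Cfsg.B2

/-- two vectors whose joint stabiliser acts trivially -/
def Reg2 {F V Γ : Type} [Field F] [AddCommGroup V] [Module F V] [Group Γ]
    (ρ : Γ →* Module.End F V) : Prop :=
  ∃ x y : V, ∀ g, ρ g x = x → ρ g y = y → ρ g = 1

/-- induction hypothesis: `Reg2` for all solvable `p'`-groups in dimension `< n` -/
def IH (p n : ℕ) : Prop :=
  ∀ (F V Γ : Type) [Field F] [Finite F] [CharP F p] [AddCommGroup V] [Module F V] [Finite V]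
    [Group Γ] [Finite Γ], Group.IsSolvable Γ → ¬ p ∣ Nat.card Γ → Module.finrank F V < n →
    ∀ ρ : Γ →* Module.End F V, Reg2 ρ

/-- `N` acts with scalar commutators, and its centre acts by scalars -/
structure Heis {F V Γ : Type} [Field F] [AddCommGroup V] [Module F V] [Group Γ]
    (ρ : Γ →* Module.End F V) (N : Subgroup Γ) : Prop where
  comm : ∀ a ∈ N, ∀ b ∈ N, ∃ c : F, ρ (a * b) = c • ρ (b * a)
  nondeg : ∀ a ∈ N, (∀ b ∈ N, ρ (a * b) = ρ (b * a)) → ∃ c : F, ρ a = c • 1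

/-- `N` acts irreducibly -/
def Irr {F V Γ : Type} [Field F] [AddCommGroup V] [Module F V] [Group Γ]
    (ρ : Γ →* Module.End F V) (N : Subgroup Γ) : Prop :=
  ∀ U : Submodule F V, (∀ g ∈ N, ∀ v ∈ U, ρ g v ∈ U) → U = ⊥ ∨ U = ⊤

/-- the elements acting as scalars -/
def scal {F V Γ : Type} [Field F] [AddCommGroup V] [Module F V] [Group Γ]
    (ρ : Γ →* Module.End F V) : Subgroup Γ where
  carrier := {g | ∃ c : F, ρ g = c • 1}
  one_mem' := ⟨1, by simp⟩
  mul_mem' := by
    rintro a b ⟨c, hc⟩ ⟨d, hd⟩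
    exact ⟨c * d, by rw [map_mul, hc, hd, smul_mul_smul_comm, mul_one]⟩
  inv_mem' := by
    rintro a ⟨c, hc⟩
    have h : c • ρ a⁻¹ = 1 := by
      rw [← map_one ρ, ← inv_mul_cancel a, map_mul, hc, mul_smul_comm, mul_one]
    by_cases h0 : c = 0
    · rw [h0, zero_smul] at h
      exact ⟨0, by rw [← mul_one (ρ a⁻¹), ← h, mul_zero, smul_zero]⟩
    · exact ⟨c⁻¹, by rw [← h, smul_smul, inv_mul_cancel₀ h0, one_smul]⟩

theorem mem_scal {F V Γ : Type} [Field F] [AddCommGroup V] [Module F V] [Group Γ]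
    {ρ : Γ →* Module.End F V} {g : Γ} : g ∈ scal ρ ↔ ∃ c : F, ρ g = c • 1 := Iff.rfl

instance scal_normal {F V Γ : Type} [Field F] [AddCommGroup V] [Module F V] [Group Γ]
    (ρ : Γ →* Module.End F V) : (scal ρ).Normal := ⟨by
  rintro a ⟨c, hc⟩ g
  exact ⟨c, by rw [map_mul, map_mul, hc, mul_smul_comm, mul_one, smul_mul_assoc, ← map_mul,
    mul_inv_cancel, map_one]⟩⟩

/-- averaging (Maschke): an invariant subspace is the range of a commuting projection -/
theorem exists_proj {p : ℕ} {F V Γ : Type} [Field F] [CharP F p]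
    [AddCommGroup V] [Module F V] [Group Γ] [Finite Γ] (hc : ¬ p ∣ Nat.card Γ)
    (ρ : Γ →* Module.End F V) (U : Submodule F V) (hU : ∀ g, ∀ v ∈ U, ρ g v ∈ U) :
    ∃ π : Module.End F V, (∀ v, π v ∈ U) ∧ (∀ v ∈ U, π v = v) ∧ ∀ g, ρ g * π = π * ρ g := by
  classical
  haveI := Fintype.ofFinite Γ
  obtain ⟨W, hW⟩ := Submodule.exists_isCompl U
  let π₀ : Module.End F V := U.subtype ∘ₗ (Submodule.projectionOnto U W hW)
  have h0 : ∀ v, π₀ v ∈ U := fun v => (Submodule.projectionOnto U W hW v).2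
  have h1 : ∀ v ∈ U, π₀ v = v := fun v hv => by
    have := Submodule.projectionOnto_apply_left hW ⟨v, hv⟩
    simp only [π₀, LinearMap.comp_apply, Submodule.subtype_apply]
    exact congrArg Subtype.val this
  have hn : ((Fintype.card Γ : ℕ) : F) ≠ 0 := by
    rw [Ne, CharP.cast_eq_zero_iff F p, ← Nat.card_eq_fintype_card]; exact hc
  have hinv : ∀ g : Γ, ∀ v, ρ g (ρ g⁻¹ v) = v := fun g v => by
    rw [← Module.End.mul_apply, ← map_mul, mul_inv_cancel, map_one, Module.End.one_apply]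
  refine ⟨((Fintype.card Γ : ℕ) : F)⁻¹ • ∑ h : Γ, ρ h * π₀ * ρ h⁻¹, fun v => ?_, fun v hv => ?_,
    fun g => ?_⟩
  · rw [LinearMap.smul_apply, LinearMap.sum_apply]
    exact U.smul_mem _ (U.sum_mem fun h _ => hU h _ (h0 _))
  · rw [LinearMap.smul_apply, LinearMap.sum_apply]
    have : ∀ h : Γ, (ρ h * π₀ * ρ h⁻¹) v = v := fun h => by
      rw [Module.End.mul_apply, Module.End.mul_apply, h1 _ (hU _ _ hv), hinv]
    simp only [this, Finset.sum_const, Finset.card_univ]
    rw [← Nat.cast_smul_eq_nsmul F, smul_smul, inv_mul_cancel₀ hn, one_smul]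
  · rw [mul_smul_comm, smul_mul_assoc, Finset.mul_sum, Finset.sum_mul]
    congr 1
    refine Fintype.sum_equiv (Equiv.mulLeft g) _ _ fun h => ?_
    simp only [Equiv.coe_mulLeft, map_mul, mul_inv_rev, mul_assoc]
    rw [← map_mul ρ g⁻¹ g, inv_mul_cancel, map_one, mul_one]

/-- the action of `Γ` on an invariant subspace -/
noncomputable def res {F V Γ : Type} [Field F] [AddCommGroup V] [Module F V] [Group Γ]
    (ρ : Γ →* Module.End F V) (U : Submodule F V) (hU : ∀ g, ∀ v ∈ U, ρ g v ∈ U) :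
    Γ →* Module.End F U where
  toFun g := (ρ g).restrict (fun v hv => hU g v hv)
  map_one' := by ext v; simp
  map_mul' g h := by ext v; simp

@[simp] theorem res_apply {F V Γ : Type} [Field F] [AddCommGroup V] [Module F V] [Group Γ]
    (ρ : Γ →* Module.End F V) (U : Submodule F V) (hU : ∀ g, ∀ v ∈ U, ρ g v ∈ U) (g : Γ) (v : U) :
    ((res ρ U hU g v : U) : V) = ρ g v := rfl

/-- `IH` for a subgroup acting on a proper invariant subspace, in terms of vectors of `V`; the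
first vector can be taken non-zero -/
theorem IH.sub {p : ℕ} {F V Γ : Type} [Field F] [Finite F] [CharP F p]
    [AddCommGroup V] [Module F V] [Finite V] [Group Γ] [Finite Γ]
    (ih : IH p (Module.finrank F V)) (hs : Group.IsSolvable Γ) (hc : ¬ p ∣ Nat.card Γ)
    (ρ : Γ →* Module.End F V) (H : Subgroup Γ) (U : Submodule F V) (hU0 : U ≠ ⊥) (hU1 : U ≠ ⊤)
    (hU : ∀ g ∈ H, ∀ v ∈ U, ρ g v ∈ U) :
    ∃ x ∈ U, ∃ y ∈ U, x ≠ 0 ∧ ∀ g ∈ H, ρ g x = x → ρ g y = y → ∀ v ∈ U, ρ g v = v := by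
  haveI : Finite U := inferInstance
  haveI : Module.Finite F V := Module.Finite.of_finite
  have hlt : Module.finrank F U < Module.finrank F V := Submodule.finrank_lt hU1
  obtain ⟨x, y, hxy⟩ := ih F U H inferInstance
    (fun h => hc (h.trans (Subgroup.card_subgroup_dvd_card H))) hlt
    (res (ρ.comp H.subtype) U (fun g v hv => hU g g.2 v hv))
  have key : ∀ g ∈ H, ρ g x = x → ρ g y = y → ∀ v ∈ U, ρ g v = v := by
    intro g hg h1 h2 v hv
    have := hxy ⟨g, hg⟩ (Subtype.ext h1) (Subtype.ext h2)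
    exact congrArg Subtype.val (LinearMap.congr_fun this ⟨v, hv⟩)
  by_cases hx : (x : V) = 0
  · by_cases hy : (y : V) = 0
    · obtain ⟨z, hz, hz0⟩ := Submodule.exists_mem_ne_zero_of_ne_bot hU0
      exact ⟨z, hz, z, hz, hz0, fun g hg _ _ => key g hg (by rw [hx, map_zero])
        (by rw [hy, map_zero])⟩
    · exact ⟨y, y.2, x, x.2, hy, fun g hg h1 h2 => key g hg h2 h1⟩
  · exact ⟨x, x.2, y, y.2, hx, key⟩

end Cfsg.B2
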