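import Cfsg.Agent.B2.Odd

set_option autoImplicit false
set_option linter.style.haveILetI false

namespace Cfsg.B2

section
variable {F V G : Type} [Field F] [AddCommGroup V] [Module F V] [Group G]

/-- the span of the image of a representation -/
def spanAlg (σ : G →* Module.End F V) : Subalgebra F (Module.End F V) :=
  (Submodule.span F (Set.range σ)).toSubalgebra (Submodule.subset_span ⟨1, map_one σ⟩) (by
    intro x y hx hy
    induction hx using Submodule.span_induction with
    | mem x hx =>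
      induction hy using Submodule.span_induction with
      | mem y hy =>
        obtain ⟨a, rfl⟩ := hx
        obtain ⟨b, rfl⟩ := hy
        exact Submodule.subset_span ⟨a * b, map_mul σ a b⟩
      | zero => simp
      | add a b _ _ ha hb => rw [mul_add]; exact Submodule.add_mem _ ha hb
      | smul c a _ ha => rw [mul_smul_comm]; exact Submodule.smul_mem _ c ha
    | zero => simp
    | add a b _ _ ha hb => rw [add_mul]; exact Submodule.add_mem _ ha hb
    | smul c a _ ha => rw [smul_mul_assoc]; exact Submodule.smul_mem _ c ha)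

theorem mem_spanAlg {σ : G →* Module.End F V} {r : Module.End F V} :
    r ∈ spanAlg σ ↔ r ∈ Submodule.span F (Set.range σ) := Iff.rfl

theorem rho_mem_spanAlg (σ : G →* Module.End F V) (a : G) : σ a ∈ spanAlg σ :=
  Submodule.subset_span ⟨a, rfl⟩

variable [Fintype G]

/-- averaging over conjugation -/
noncomputable def avg (σ : G →* Module.End F V) : Module.End F V →ₗ[F] Module.End F V :=
  ∑ a : G, LinearMap.mulLeft F (σ a) ∘ₗ LinearMap.mulRight F (σ a⁻¹)

theorem avg_apply (σ : G →* Module.End F V) (T : Module.End F V) :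
    avg σ T = ∑ a : G, σ a * T * σ a⁻¹ := by
  simp [avg, LinearMap.sum_apply, mul_assoc]

theorem avg_of_comm (σ : G →* Module.End F V) {T : Module.End F V}
    (hT : ∀ a, σ a * T * σ a⁻¹ = T) : avg σ T = (Fintype.card G : F) • T := by
  rw [avg_apply]
  simp only [hT, Finset.sum_const, Finset.card_univ, Nat.cast_smul_eq_nsmul]

theorem avg_dich (σ : G →* Module.End F V) {T : Module.End F V}
    (hT : ∀ a, ∃ c : F, σ a * T * σ a⁻¹ = c • T) : avg σ T = 0 ∨ ∀ a, σ a * T * σ a⁻¹ = T := by
  by_cases h0 : T = 0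
  · left; rw [h0, map_zero]
  choose c hc using hT
  let ψ : G →* F :=
    { toFun := c
      map_one' := smul_left_injective F h0 (by
        show c 1 • T = (1 : F) • T
        rw [← hc]; simp)
      map_mul' := fun a b => smul_left_injective F h0 (by
        show c (a * b) • T = (c a * c b) • T
        rw [← hc, mul_comm (c a), mul_smul, ← hc a, ← smul_mul_assoc, ← mul_smul_comm, ← hc b]
        simp only [map_mul, mul_inv_rev, mul_assoc]) }
  by_cases h1 : ψ = 1
  · right
    intro a
    rw [hc, show c a = 1 from DFunLike.congr_fun h1 a, one_smul]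
  · left
    rw [avg_apply]
    simp only [hc]
    rw [← Finset.sum_smul, show ∑ a, c a = 0 from sum_hom_units_eq_zero ψ h1, zero_smul]

variable {σ : G →* Module.End F V}

theorem Heis.avg_eq_zero (h : Heis σ ⊤) {u : G} (hu : u ∉ scal σ) : avg σ (σ u) = 0 := by
  refine (avg_dich σ fun a => ?_).resolve_right fun h' => hu (h.nondeg u trivial fun b _ => ?_)
  · obtain ⟨c, hc⟩ := h.comm a trivial u trivial
    refine ⟨c, ?_⟩
    rw [← map_mul, hc, smul_mul_assoc, ← map_mul, mul_inv_cancel_right]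
  · conv_lhs => rw [map_mul, ← h' b, mul_assoc, ← map_mul σ b⁻¹, inv_mul_cancel, map_one, mul_one,
      ← map_mul]

theorem avg_scal {u : G} (hu : u ∈ scal σ) : avg σ (σ u) = (Fintype.card G : F) • σ u := by
  obtain ⟨c, hc⟩ := hu
  refine avg_of_comm σ fun a => ?_
  rw [hc, mul_smul_comm, mul_one, smul_mul_assoc, ← map_mul, mul_inv_cancel, map_one]

theorem Heis.avg_scalar (h : Heis σ ⊤) {r : Module.End F V} (hr : r ∈ spanAlg σ) :
    ∃ c : F, avg σ r = c • 1 := by
  induction hr using Submodule.span_induction with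
  | mem x hx =>
    obtain ⟨a, rfl⟩ := hx
    by_cases ha : a ∈ scal σ
    · rw [avg_scal ha]
      obtain ⟨c, hc⟩ := ha
      exact ⟨_, by rw [hc, smul_smul]⟩
    · exact ⟨0, by rw [h.avg_eq_zero ha, zero_smul]⟩
  | zero => exact ⟨0, by simp⟩
  | add a b _ _ ha hb =>
    obtain ⟨c, hc⟩ := ha
    obtain ⟨d, hd⟩ := hb
    exact ⟨c + d, by rw [map_add, hc, hd, add_smul]⟩
  | smul c a _ ha =>
    obtain ⟨d, hd⟩ := ha
    exact ⟨c * d, by rw [map_smul, hd, smul_smul]⟩

theorem Heis.scalar_of_comm (h : Heis σ ⊤) (hc : (Fintype.card G : F) ≠ 0) {r : Module.End F V}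
    (hr : r ∈ spanAlg σ) (hT : ∀ a, σ a * r * σ a⁻¹ = r) : ∃ c : F, r = c • 1 := by
  obtain ⟨c, hc'⟩ := h.avg_scalar hr
  rw [avg_of_comm σ hT] at hc'
  exact ⟨(Fintype.card G : F)⁻¹ * c, by rw [mul_smul, ← hc', smul_smul, inv_mul_cancel₀ hc,
    one_smul]⟩

theorem Heis.reconstruct (h : Heis σ ⊤) (hc : (Fintype.card G : F) ≠ 0) :
    ∃ K : F, K ≠ 0 ∧ ∀ r ∈ spanAlg σ, ∑ s : G, avg σ (r * σ s⁻¹) * σ s = K • r := by
  classical
  refine ⟨(Fintype.card G : F) * (Nat.card (scal σ) : F), mul_ne_zero hc fun h0 => hc ?_, ?_⟩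
  · obtain ⟨k, hk⟩ := Subgroup.card_subgroup_dvd_card (scal σ)
    rw [← Nat.card_eq_fintype_card, hk, Nat.cast_mul, h0, zero_mul]
  intro r hr
  induction hr using Submodule.span_induction with
  | mem x hx =>
    obtain ⟨a, rfl⟩ := hx
    have e : ∀ u : G, avg σ (σ u) * σ (u⁻¹ * a) =
        if u ∈ scal σ then (Fintype.card G : F) • σ a else 0 := by
      intro u
      split_ifs with hu
      · rw [avg_scal hu, smul_mul_assoc, ← map_mul, mul_inv_cancel_left]
      · rw [h.avg_eq_zero hu, zero_mul]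
    rw [← Equiv.sum_comp ((Equiv.inv G).trans (Equiv.mulRight a))]
    simp only [Equiv.trans_apply, Equiv.inv_apply, Equiv.coe_mulRight, mul_inv_rev, inv_inv,
      ← map_mul, mul_inv_cancel_left, e]
    rw [Finset.sum_ite, Finset.sum_const_zero, add_zero, Finset.sum_const,
      ← Nat.cast_smul_eq_nsmul F, smul_smul, mul_comm, Nat.card_eq_fintype_card,
      Fintype.card_subtype]
  | zero => simp
  | add a b _ _ ha hb => simp only [add_mul, map_add, Finset.sum_add_distrib, ha, hb, smul_add]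
  | smul c a _ ha =>
    simp only [smul_mul_assoc, map_smul, ← Finset.smul_sum, ha]
    exact smul_comm _ _ _

theorem Heis.spanAlg_eq_top [Finite V] (h : Heis σ ⊤) (hc : (Fintype.card G : F) ≠ 0)
    (hi : Irr σ ⊤) : spanAlg σ = ⊤ := by
  classical
  rcases subsingleton_or_nontrivial V with hV | hV
  · exact Subsingleton.elim _ _
  let R := spanAlg σ
  haveI : IsSimpleModule R V := by
    rw [isSimpleModule_iff]
    refine ⟨fun W => ?_⟩
    rcases hi (W.restrictScalars F) (fun g _ v hv => W.smul_mem ⟨σ g, rho_mem_spanAlg σ g⟩ hv)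
      with h | h
    · exact Or.inl ((Submodule.restrictScalars_eq_bot_iff F R V).1 h)
    · exact Or.inr ((Submodule.restrictScalars_eq_top_iff F R V).1 h)
  haveI : Finite (Module.End R V) := Finite.of_injective _ (DFunLike.coe_injective (F := V →ₗ[R] V))
  have hD : ∀ d e : Module.End R V, d * e = e * d := by
    letI : DivisionRing (Module.End R V) := Module.End.instDivisionRing
    letI := littleWedderburn (Module.End R V)
    exact fun d e => mul_comm d e
  haveI := Fintype.ofFinite V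
  have hsc : ∀ d : Module.End R V, ∃ c : F, ∀ v, d v = c • v := by
    intro d
    obtain ⟨r, hr⟩ := jacobson_density (R := R) (M := V)
      { toFun := d, map_add' := map_add d,
        map_smul' := fun e v => LinearMap.congr_fun (hD d e) v } Finset.univ
    have hr' : ∀ v, d v = (r : Module.End F V) v := fun v => hr v (Finset.mem_univ v)
    obtain ⟨c, hc⟩ := h.scalar_of_comm hc r.2 (fun a => by
      ext v
      rw [Module.End.mul_apply, Module.End.mul_apply, ← hr', ← hr']
      have := d.map_smul ⟨σ a, rho_mem_spanAlg σ a⟩ (σ a⁻¹ v)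
      change d (σ a (σ a⁻¹ v)) = σ a (d (σ a⁻¹ v)) at this
      rw [← this, apply_inv_apply])
    exact ⟨c, fun v => by rw [hr', hc]; rfl⟩
  refine eq_top_iff.2 fun T _ => ?_
  obtain ⟨r, hr⟩ := jacobson_density (R := R) (M := V)
    { toFun := T, map_add' := map_add T,
      map_smul' := fun e v => by
        obtain ⟨c, hc⟩ := hsc e
        show T (e v) = e (T v)
        rw [hc, hc, map_smul] } Finset.univ
  have : T = r := LinearMap.ext fun v => hr v (Finset.mem_univ v)
  rw [this]
  exact r.2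

theorem Heis.card_quot [Finite V] [Nontrivial V] (h : Heis σ ⊤) (hc : (Fintype.card G : F) ≠ 0)
    (hi : Irr σ ⊤) : (scal σ).index = Module.finrank F V ^ 2 := by
  classical
  haveI : Module.Finite F V := Module.Finite.of_finite
  haveI := Fintype.ofFinite (G ⧸ scal σ)
  have hli : LinearIndependent F (fun q : G ⧸ scal σ => σ q.out) := by
    rw [Fintype.linearIndependent_iff]
    intro c hc' q
    have h1 := congrArg (fun r => avg σ (σ q.out⁻¹ * r)) hc'
    simp only [Finset.mul_sum, mul_smul_comm, map_sum, map_smul, ← map_mul, mul_zero,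
      map_zero] at h1
    rw [Finset.sum_eq_single q, inv_mul_cancel, avg_scal (Subgroup.one_mem _), smul_smul,
      smul_eq_zero] at h1
    · rcases h1 with h1 | h1
      · exact (mul_eq_zero.1 h1).resolve_right hc
      · exact absurd h1 (rho_ne_zero 1)
    · intro q' _ hq'
      rw [h.avg_eq_zero, smul_zero]
      rw [← QuotientGroup.eq, QuotientGroup.out_eq', QuotientGroup.out_eq']
      exact Ne.symm hq'
    · intro h'; exact absurd (Finset.mem_univ _) h'
  have hsp : ⊤ ≤ Submodule.span F (Set.range fun q : G ⧸ scal σ => σ q.out) := by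
    have := h.spanAlg_eq_top hc hi
    intro r _
    have hr : r ∈ spanAlg σ := this ▸ Algebra.mem_top
    refine Submodule.span_le.2 ?_ hr
    rintro _ ⟨a, rfl⟩
    obtain ⟨c, hc⟩ : (a : G ⧸ scal σ).out⁻¹ * a ∈ scal σ := by
      rw [← QuotientGroup.eq, QuotientGroup.out_eq']
    have : σ a = c • σ (a : G ⧸ scal σ).out := by
      conv_lhs => rw [← mul_inv_cancel_left (a : G ⧸ scal σ).out a, map_mul, hc, mul_smul_comm,
        mul_one]
    rw [this]
    exact Submodule.smul_mem _ c (Submodule.subset_span ⟨_, rfl⟩)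
  have := Module.finrank_eq_card_basis (Module.Basis.mk hli hsp)
  rw [Module.finrank_linearMap] at this
  rw [Subgroup.index, Nat.card_eq_fintype_card, ← this, sq]

/-- an element of the span vanishing on a non-zero invariant subspace is zero -/
theorem Heis.eq_zero_of_res (h : Heis σ ⊤) (hc : (Fintype.card G : F) ≠ 0) {U : Submodule F V}
    (hU0 : U ≠ ⊥) (hU : ∀ g, ∀ v ∈ U, σ g v ∈ U) {r : Module.End F V} (hr : r ∈ spanAlg σ)
    (h0 : ∀ v ∈ U, r v = 0) : r = 0 := by
  obtain ⟨K, hK, hrec⟩ := h.reconstruct hc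
  obtain ⟨v, hv, hv0⟩ := Submodule.exists_mem_ne_zero_of_ne_bot hU0
  have : ∀ s, avg σ (r * σ s⁻¹) = 0 := fun s => by
    obtain ⟨c, hc⟩ := h.avg_scalar ((spanAlg σ).mul_mem hr (rho_mem_spanAlg σ s⁻¹))
    have h1 := LinearMap.congr_fun hc v
    rw [avg_apply, LinearMap.sum_apply, Finset.sum_eq_zero (fun a _ => by
      simp only [Module.End.mul_apply]
      rw [h0 _ (hU _ _ (hU _ _ hv)), map_zero]), LinearMap.smul_apply, Module.End.one_apply,
      eq_comm, smul_eq_zero] at h1
    rw [hc, h1.resolve_right hv0, zero_smul]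
  have h1 := hrec r hr
  simp only [this, zero_mul, Finset.sum_const_zero] at h1
  exact (smul_eq_zero.1 h1.symm).resolve_left hK

end

variable {p : ℕ} {F V Γ : Type} [Field F] [CharP F p] [AddCommGroup V] [Module F V]
  [Group Γ] [Finite Γ] {ρ : Γ →* Module.End F V} {N : Subgroup Γ}

omit [CharP F p] [Finite Γ] in
theorem Heis.sub (h : Heis ρ N) : Heis (ρ.comp N.subtype) ⊤ :=
  ⟨fun a _ b _ => h.comm a a.2 b b.2, fun a _ ha => h.nondeg a a.2 fun b hb => ha ⟨b, hb⟩ trivial⟩

omit [CharP F p] [Finite Γ] in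
theorem Irr.sub (h : Irr ρ N) : Irr (ρ.comp N.subtype) ⊤ :=
  fun U hU => h U fun g hg v hv => hU ⟨g, hg⟩ trivial v hv

theorem card_ne_zero (hc : ¬ p ∣ Nat.card Γ) (N : Subgroup Γ) [Fintype N] :
    (Fintype.card N : F) ≠ 0 := by
  rw [Ne, CharP.cast_eq_zero_iff F p, ← Nat.card_eq_fintype_card]
  exact fun h => hc (h.trans (Subgroup.card_subgroup_dvd_card N))

theorem Heis.relIndex_eq [Finite V] [Nontrivial V] (h : Heis ρ N) (hc : ¬ p ∣ Nat.card Γ)
    (hi : Irr ρ N) : (scal ρ).relIndex N = Module.finrank F V ^ 2 := by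
  haveI := Fintype.ofFinite N
  exact h.sub.card_quot (card_ne_zero hc N) hi.sub

theorem Heis.mem_of_comm [Finite V] [Nontrivial V] (h : Heis ρ N) (hc : ¬ p ∣ Nat.card Γ)
    (hi : Irr ρ N) {g : Γ} (hg : ∀ a ∈ N, ∃ c : F, ρ (a * g) = c • ρ (g * a)) :
    ∃ s ∈ N, g * s⁻¹ ∈ scal ρ := by
  haveI := Fintype.ofFinite N
  have hc' : (Fintype.card N : F) ≠ 0 := card_ne_zero hc N
  have htop := h.sub.spanAlg_eq_top hc' hi.sub
  obtain ⟨K, hK, hrec⟩ := h.sub.reconstruct hc'
  have h1 := hrec (ρ g) (htop ▸ Algebra.mem_top)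
  obtain ⟨s, hs⟩ : ∃ s : N, avg (ρ.comp N.subtype) (ρ g * (ρ.comp N.subtype) s⁻¹) ≠ 0 := by
    by_contra h'
    push Not at h'
    simp only [h', zero_mul, Finset.sum_const_zero] at h1
    exact rho_ne_zero g ((smul_eq_zero.1 h1.symm).resolve_left hK)
  refine ⟨s, s.2, ?_⟩
  have h2 := (avg_dich (ρ.comp N.subtype) fun a => ?_).resolve_left hs
  · obtain ⟨c, hc⟩ := h.sub.scalar_of_comm hc' (htop ▸ Algebra.mem_top) h2
    exact ⟨c, by rw [map_mul]; exact hc⟩
  · obtain ⟨c, hc⟩ := hg a a.2
    obtain ⟨d, hd⟩ := h.comm a a.2 (s : Γ)⁻¹ (N.inv_mem s.2)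
    refine ⟨c * d, ?_⟩
    show ρ a * (ρ g * ρ (s : Γ)⁻¹) * ρ (a : Γ)⁻¹ = _ • (ρ g * ρ (s : Γ)⁻¹)
    rw [← mul_assoc, ← map_mul, hc, smul_mul_assoc, smul_mul_assoc, map_mul, mul_assoc (ρ g),
      ← map_mul, hd, mul_smul_comm, smul_mul_assoc, smul_smul, mul_assoc, ← map_mul,
      mul_inv_cancel_right]

end Cfsg.B2
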