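import Cfsg.Agent.B2.Defs

set_option autoImplicit false
set_option linter.style.haveILetI false

namespace Cfsg.B2

section basic
variable {F V Γ : Type} [Field F] [AddCommGroup V] [Module F V] [Group Γ]

theorem apply_inv_apply (ρ : Γ →* Module.End F V) (g : Γ) (v : V) : ρ g (ρ g⁻¹ v) = v := by
  rw [← Module.End.mul_apply, ← map_mul, mul_inv_cancel, map_one, Module.End.one_apply]

theorem inv_apply_apply (ρ : Γ →* Module.End F V) (g : Γ) (v : V) : ρ g⁻¹ (ρ g v) = v := by
  rw [← Module.End.mul_apply, ← map_mul, inv_mul_cancel, map_one, Module.End.one_apply]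

theorem mul_apply' (ρ : Γ →* Module.End F V) (g h : Γ) (v : V) : ρ (g * h) v = ρ g (ρ h v) := by
  rw [map_mul, Module.End.mul_apply]

theorem apply_eq_zero (ρ : Γ →* Module.End F V) (g : Γ) {v : V} : ρ g v = 0 ↔ v = 0 :=
  ⟨fun h => by rw [← inv_apply_apply ρ g v, h, map_zero], fun h => by rw [h, map_zero]⟩

theorem pow_apply_fix (ρ : Γ →* Module.End F V) {g : Γ} {v : V} (h : ρ g v = v) (n : ℕ) :
    ρ (g ^ n) v = v := by
  induction n with
  | zero => simp
  | succ n ih => rw [pow_succ, mul_apply', h, ih]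

/-- the stabiliser of a vector -/
def stab (ρ : Γ →* Module.End F V) (x : V) : Subgroup Γ where
  carrier := {g | ρ g x = x}
  one_mem' := by simp
  mul_mem' := by
    intro a b (ha : ρ a x = x) (hb : ρ b x = x)
    show ρ (a * b) x = x
    rw [mul_apply', hb, ha]
  inv_mem' := by
    intro a (ha : ρ a x = x)
    show ρ a⁻¹ x = x
    conv_lhs => rw [← ha]
    rw [inv_apply_apply]

theorem mem_stab {ρ : Γ →* Module.End F V} {x : V} {g : Γ} : g ∈ stab ρ x ↔ ρ g x = x := Iff.rfl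

theorem fix_of_pow_fix {p : ℕ} (hp : p.Prime) [Finite Γ] (hc : ¬ p ∣ Nat.card Γ)
    (ρ : Γ →* Module.End F V) {g : Γ} {v : V} (h : ρ (g ^ p) v = v) : ρ g v = v := by
  have hco : p.Coprime (orderOf g) :=
    (Nat.Prime.coprime_iff_not_dvd hp).2 fun h => hc (h.trans (orderOf_dvd_natCard g))
  obtain ⟨m, hm⟩ := exists_pow_eq_self_of_coprime hco
  rw [← hm]
  exact pow_apply_fix ρ h m

/-- the orbit of a non-zero vector under an irreducible subgroup spans -/
theorem Irr.eq_of_orbit {ρ : Γ →* Module.End F V} {N : Subgroup Γ} (hi : Irr ρ N) {x : V}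
    (hx : x ≠ 0) {W : Submodule F V} (hW : ∀ g ∈ N, ρ g x ∈ W) : W = ⊤ := by
  let S : Submodule F V := Submodule.span F {v | ∃ g ∈ N, v = ρ g x}
  have hS : ∀ g ∈ N, ∀ v ∈ S, ρ g v ∈ S := by
    intro g hg v hv
    induction hv using Submodule.span_induction with
    | mem v hv =>
      obtain ⟨h, hh, rfl⟩ := hv
      exact Submodule.subset_span ⟨g * h, N.mul_mem hg hh, (mul_apply' ρ g h x).symm⟩
    | zero => simp
    | add a b _ _ ha hb => rw [map_add]; exact S.add_mem ha hb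
    | smul c a _ ha => rw [map_smul]; exact S.smul_mem c ha
  rcases hi S hS with h | h
  · exfalso
    have : x ∈ S := Submodule.subset_span ⟨1, N.one_mem, by simp⟩
    rw [h] at this
    exact hx this
  · rw [eq_top_iff, ← h]
    exact Submodule.span_le.2 (by rintro v ⟨g, hg, rfl⟩; exact hW g hg)

end basic

variable {p : ℕ} {F V Γ : Type} [Field F] [Finite F] [CharP F p] [AddCommGroup V] [Module F V]
  [Finite V] [Group Γ] [Finite Γ] {ρ : Γ →* Module.End F V}

/-- R1: reducible groups -/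
theorem reg2_of_red (ih : IH p (Module.finrank F V)) (hs : Group.IsSolvable Γ)
    (hc : ¬ p ∣ Nat.card Γ) (h : ¬ Irr ρ ⊤) : Reg2 ρ := by
  unfold Irr at h
  push Not at h
  obtain ⟨U, hU, hU0, hU1⟩ := h
  obtain ⟨π, h1, h2, h3⟩ := exists_proj (p := p) hc ρ U (fun g => hU g trivial)
  have h3' : ∀ g v, ρ g (π v) = π (ρ g v) := fun g v => LinearMap.congr_fun (h3 g) v
  have hker : ∀ v, v - π v ∈ LinearMap.ker π := fun v => by
    rw [LinearMap.mem_ker, map_sub, h2 _ (h1 v), sub_self]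
  have hK0 : LinearMap.ker π ≠ ⊥ := fun h => hU1 (eq_top_iff.2 fun v _ => by
    have := hker v
    rw [h, Submodule.mem_bot, sub_eq_zero] at this
    rw [this]; exact h1 v)
  have hK1 : LinearMap.ker π ≠ ⊤ := fun h => hU0 (eq_bot_iff.2 fun v hv => by
    have : v ∈ LinearMap.ker π := h ▸ Submodule.mem_top
    rw [LinearMap.mem_ker, h2 v hv] at this
    exact this)
  obtain ⟨x₁, hx₁, y₁, hy₁, -, k₁⟩ := ih.sub hs hc ρ ⊤ U hU0 hU1 hU
  obtain ⟨x₂, hx₂, y₂, hy₂, -, k₂⟩ := ih.sub hs hc ρ ⊤ (LinearMap.ker π) hK0 hK1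
    (fun g _ v hv => by rw [LinearMap.mem_ker] at hv ⊢; rw [← h3', hv, map_zero])
  have split : ∀ g, ∀ a ∈ U, ∀ b ∈ LinearMap.ker π, ρ g (a + b) = a + b →
      ρ g a = a ∧ ρ g b = b := by
    intro g a ha b hb hab
    have e : π (a + b) = a := by rw [map_add, h2 a ha, LinearMap.mem_ker.1 hb, add_zero]
    have e1 : ρ g a = a := by
      conv_lhs => rw [← e, h3', hab, e]
    refine ⟨e1, ?_⟩
    rw [map_add, e1] at hab
    exact add_left_cancel hab
  refine ⟨x₁ + x₂, y₁ + y₂, fun g hx hy => ?_⟩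
  obtain ⟨a1, a2⟩ := split g _ hx₁ _ hx₂ hx
  obtain ⟨b1, b2⟩ := split g _ hy₁ _ hy₂ hy
  ext v
  have e : v = π v + (v - π v) := by abel
  rw [Module.End.one_apply]
  conv_lhs => rw [e, map_add, k₁ g trivial a1 b1 _ (h1 v), k₂ g trivial a2 b2 _ (hker v), ← e]

/-- R2: imprimitive groups -/
theorem reg2_of_imprim (hp : p.Prime) (ih : IH p (Module.finrank F V)) (hs : Group.IsSolvable Γ)
    (hc : ¬ p ∣ Nat.card Γ) (hi : Irr ρ ⊤) {M : Subgroup Γ} (hM : M ≠ ⊤)
    (col : Γ ⧸ M → ZMod p) (hcol : ∀ g : Γ, (∀ x, col (g • x) = col x) → ∀ x : Γ ⧸ M, g • x = x)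
    {e : Module.End F V} (he : e * e = e) (he0 : e ≠ 0) (heM : ∀ m ∈ M, ρ m * e = e * ρ m)
    (heO : ∀ g ∉ M, e * ρ g * e = 0) : Reg2 ρ := by
  classical
  haveI := Fintype.ofFinite (Γ ⧸ M)
  haveI := Fact.mk hp
  let U := LinearMap.range e
  have hUe : ∀ u ∈ U, e u = u := by
    rintro _ ⟨v, rfl⟩
    exact LinearMap.congr_fun he v
  have hU0 : U ≠ ⊥ := fun h => he0 (LinearMap.range_eq_bot.1 h)
  have hU1 : U ≠ ⊤ := by
    intro h
    obtain ⟨g, hg⟩ : ∃ g, g ∉ M := by
      by_contra h'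
      push Not at h'
      exact hM (eq_top_iff.2 fun g _ => h' g)
    apply he0
    ext v
    have h1 := LinearMap.congr_fun (heO g hg) (ρ g⁻¹ v)
    rw [Module.End.mul_apply, Module.End.mul_apply, hUe _ (h ▸ Submodule.mem_top),
      hUe _ (h ▸ Submodule.mem_top), apply_inv_apply] at h1
    rw [h1]; simp
  have hUM : ∀ m ∈ M, ∀ u ∈ U, ρ m u ∈ U := by
    rintro m hm _ ⟨v, rfl⟩
    exact ⟨ρ m v, (LinearMap.congr_fun (heM m hm) v).symm⟩
  obtain ⟨a, ha, b, hb, ha0, k⟩ := ih.sub hs hc ρ M U hU0 hU1 hUM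
  -- components of a sum
  have comp : ∀ u : Γ ⧸ M → V, (∀ c, u c ∈ U) → ∀ h : Γ,
      e (ρ h⁻¹ (∑ c : Γ ⧸ M, ρ c.out (u c))) = ρ (h⁻¹ * (h : Γ ⧸ M).out) (u h) := by
    intro u hu h
    rw [map_sum, map_sum, Finset.sum_eq_single (h : Γ ⧸ M)]
    · rw [← mul_apply']
      refine hUe _ (hUM _ ?_ _ (hu _))
      rw [← QuotientGroup.eq, QuotientGroup.out_eq']
    · intro c _ hc'
      have : h⁻¹ * c.out ∉ M := by
        rw [← QuotientGroup.eq, QuotientGroup.out_eq']
        exact fun h' => hc' h'.symm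
      rw [← mul_apply', ← hUe _ (hu c)]
      exact LinearMap.congr_fun (heO _ this) (u c)
    · intro h'; exact absurd (Finset.mem_univ _) h'
  have move : ∀ u : Γ ⧸ M → V, (∀ c, u c ∈ U) → ∀ g : Γ,
      ρ g (∑ c : Γ ⧸ M, ρ c.out (u c)) = ∑ c : Γ ⧸ M, ρ c.out (u c) →
      ∀ c : Γ ⧸ M, ρ ((g • c).out⁻¹ * g * c.out) (u c) = u (g • c) := by
    intro u hu g hg c
    have h1 := comp u hu (g • c).out
    have h2 := comp u hu (g⁻¹ * (g • c).out)
    have e1 : ((g⁻¹ * (g • c).out : Γ) : Γ ⧸ M) = c := by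
      rw [← smul_eq_mul, ← MulAction.Quotient.smul_coe, QuotientGroup.out_eq', inv_smul_smul]
    rw [QuotientGroup.out_eq', inv_mul_cancel, map_one, Module.End.one_apply] at h1
    rw [e1, mul_inv_rev, inv_inv, mul_apply' ρ _ g, hg, h1] at h2
    exact h2.symm
  let κ : ZMod p →+* F := ZMod.castHom (dvd_refl p) F
  have hκ : Function.Injective κ := κ.injective
  refine ⟨∑ c : Γ ⧸ M, ρ c.out a, ∑ c : Γ ⧸ M, ρ c.out (b + κ (col c) • a), fun g hx hy => ?_⟩
  have hmM : ∀ c : Γ ⧸ M, (g • c).out⁻¹ * g * c.out ∈ M := fun c => by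
    rw [mul_assoc, ← QuotientGroup.eq, QuotientGroup.out_eq', ← smul_eq_mul,
      ← MulAction.Quotient.smul_coe, QuotientGroup.out_eq']
  have m1 := move (fun _ => a) (fun _ => ha) g hx
  have m2 := move (fun c => b + κ (col c) • a) (fun c => U.add_mem hb (U.smul_mem _ ha)) g hy
  have triv : ∀ c : Γ ⧸ M, ∀ u ∈ U, ρ ((g • c).out⁻¹ * g * c.out) u = u := by
    intro c u hu
    set m := (g • c).out⁻¹ * g * c.out with hm
    have e1 : ρ m a = a := m1 c
    have e2 : ρ m b = b + (κ (col (g • c)) - κ (col c)) • a := by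
      have := m2 c
      simp only [map_add, map_smul] at this
      rw [← hm, e1] at this
      rw [sub_smul, ← add_sub_assoc, ← this]; abel
    have e3 : ∀ n : ℕ, ρ (m ^ n) b = b + ((n : F) * (κ (col (g • c)) - κ (col c))) • a := by
      intro n
      induction n with
      | zero => simp
      | succ n ih =>
        rw [pow_succ', mul_apply', ih, map_add, map_smul, e1, e2, Nat.cast_succ, add_mul, one_mul,
          add_smul]
        abel
    refine fix_of_pow_fix hp hc ρ (k _ (M.pow_mem (hmM c) p) (pow_apply_fix ρ e1 p) ?_ u hu)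
    rw [e3, CharP.cast_eq_zero, zero_mul, zero_smul, add_zero]
  have hfix := hcol g (fun c => by
    have := m2 c
    rw [triv c _ (U.add_mem hb (U.smul_mem _ ha)), add_right_inj] at this
    exact (hκ (smul_left_injective F ha0 this)).symm)
  have : LinearMap.eqLocus (ρ g) 1 = ⊤ := hi.eq_of_orbit ha0 (fun h _ => by
    rw [LinearMap.mem_eqLocus, Module.End.one_apply]
    have hm : (h : Γ ⧸ M).out⁻¹ * h ∈ M := by
      rw [← QuotientGroup.eq, QuotientGroup.out_eq']
    have h1 := triv (h : Γ ⧸ M) _ (hUM _ hm a ha)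
    rw [hfix, ← mul_apply'] at h1
    have h2 := congrArg (ρ (h : Γ ⧸ M).out) h1
    rw [← mul_apply', ← mul_apply'] at h2
    rw [← mul_apply']
    convert h2 using 3 <;> group)
  exact LinearMap.eqLocus_eq_top.1 this

/-- R3: semilinear groups -/
theorem reg2_of_semilin (ih : IH p (Module.finrank F V)) (hs : Group.IsSolvable Γ)
    (hc : ¬ p ∣ Nat.card Γ) (K : Type) [Field K] [Finite K] [Algebra F K] [Module K V]
    [IsScalarTower F K V] (hK : 1 < Module.finrank F K)
    (hn : ∀ g, ∀ k : K, ∃ k' : K, ∀ v, ρ g (k • v) = k' • ρ g v) : Reg2 ρ := by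
  rcases subsingleton_or_nontrivial V with hV | hV
  · exact ⟨0, 0, fun g _ _ => Subsingleton.elim _ _⟩
  haveI : CharP K p := charP_of_injective_algebraMap (algebraMap F K).injective p
  haveI : Module.Finite K V := Module.Finite.of_finite
  let Γ₀ : Subgroup Γ :=
    { carrier := {g | ∀ (k : K) v, ρ g (k • v) = k • ρ g v}
      one_mem' := by simp
      mul_mem' := fun {a b} ha hb k v => by rw [mul_apply', hb, ha, mul_apply']
      inv_mem' := fun {a} ha k v => by
        conv_lhs => rw [← apply_inv_apply ρ a v, ← ha, inv_apply_apply] }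
  let ρ₀ : Γ₀ →* Module.End K V :=
    { toFun := fun g => { toFun := ρ g, map_add' := map_add _, map_smul' := g.2 }
      map_one' := by ext v; simp
      map_mul' := fun a b => by ext v; simp }
  have hlt : Module.finrank K V < Module.finrank F V := by
    have h1 := Module.finrank_mul_finrank F K V
    have h2 : 0 < Module.finrank K V := Module.finrank_pos
    nlinarith
  obtain ⟨x, y, hx0, hxy⟩ : ∃ x y : V, x ≠ 0 ∧ ∀ g ∈ Γ₀, ρ g x = x → ρ g y = y → ρ g = 1 := by
    obtain ⟨x, y, hxy⟩ := ih K V Γ₀ inferInstance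
      (fun h => hc (h.trans (Subgroup.card_subgroup_dvd_card Γ₀))) hlt ρ₀
    have key : ∀ g ∈ Γ₀, ρ g x = x → ρ g y = y → ρ g = 1 := fun g hg h1 h2 => by
      ext v
      exact LinearMap.congr_fun (hxy ⟨g, hg⟩ h1 h2) v
    by_cases hx : x = 0
    · by_cases hy : y = 0
      · obtain ⟨z, hz⟩ := exists_ne (0 : V)
        exact ⟨z, z, hz, fun g hg _ _ => key g hg (by rw [hx, map_zero]) (by rw [hy, map_zero])⟩
      · exact ⟨y, x, hy, fun g hg h1 h2 => key g hg h2 h1⟩
    · exact ⟨x, y, hx, key⟩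
  let U : Submodule F V := (Submodule.span K {x}).restrictScalars F
  have hU : ∀ v, v ∈ U ↔ ∃ k : K, k • x = v := fun v => Submodule.mem_span_singleton
  obtain ⟨π, h1, h2, h3⟩ := exists_proj (p := p) (Γ := stab ρ x)
    (fun h => hc (h.trans (Subgroup.card_subgroup_dvd_card _))) (ρ.comp (stab ρ x).subtype) U
    (fun g v hv => by
      obtain ⟨k, rfl⟩ := (hU v).1 hv
      obtain ⟨k', hk'⟩ := hn g k
      refine (hU _).2 ⟨k', ?_⟩
      show _ = ρ g (k • x)
      rw [hk', g.2])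
  obtain ⟨c, hcg⟩ := IsCyclic.exists_monoid_generator (α := Kˣ)
  refine ⟨x, (c : K) • x + (y - π y), fun g hx hy => ?_⟩
  have h3' : ∀ v, ρ g (π v) = π (ρ g v) := fun v => LinearMap.congr_fun (h3 ⟨g, hx⟩) v
  have e : π ((c : K) • x + (y - π y)) = (c : K) • x := by
    rw [map_add, map_sub, h2 _ (h1 y), sub_self, add_zero, h2 _ ((hU _).2 ⟨c, rfl⟩)]
  have e1 : ρ g ((c : K) • x) = (c : K) • x := by
    conv_lhs => rw [← e, h3', hy, e]
  have hg : g ∈ Γ₀ := by
    obtain ⟨c', hc'⟩ := hn g c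
    have : c' = c := by
      rw [hc', hx] at e1
      exact smul_left_injective K hx0 e1
    subst this
    have hpow : ∀ n : ℕ, ∀ v, ρ g (((c ^ n : Kˣ) : K) • v) = ((c ^ n : Kˣ) : K) • ρ g v := by
      intro n
      induction n with
      | zero => simp
      | succ n ih => intro v; rw [pow_succ', Units.val_mul, mul_smul, hc', ih, mul_smul]
    intro k v
    by_cases hk : k = 0
    · simp [hk]
    · obtain ⟨n, hn⟩ := hcg (Units.mk0 k hk)
      have := hpow n v
      simp only at hn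
      rwa [hn] at this
  refine hxy g hg hx ?_
  obtain ⟨k, hk⟩ := (hU _).1 (h1 y)
  have e2 : ρ g (π y) = π y := by rw [← hk, hg, hx]
  rw [map_add, map_sub, e1, e2, add_right_inj, sub_left_inj] at hy
  exact hy

end Cfsg.B2
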