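import Cfsg.Agent.B2.Lin

set_option autoImplicit false
set_option linter.style.haveILetI false

namespace Cfsg.B2

/-- every primitive action of `Γ` has a distinguishing colouring with `p` colours -/
def Col (p : ℕ) (Γ : Type) [Group Γ] : Prop :=
  ∀ M : Subgroup Γ, IsCoatom M →
    ∃ c : Γ ⧸ M → ZMod p, ∀ g : Γ, (∀ x, c (g • x) = c x) → ∀ x : Γ ⧸ M, g • x = x

theorem exists_pow_idem {R : Type} [Monoid R] [Finite R] (a : R) :
    ∃ n, 0 < n ∧ a ^ n * a ^ n = a ^ n := by
  obtain ⟨i, j, hij, h⟩ := Finite.exists_ne_map_eq_of_infinite (fun n : ℕ => a ^ n)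
  wlog hlt : i < j generalizing i j
  · exact this j i hij.symm h.symm (by omega)
  obtain ⟨d, rfl⟩ := Nat.exists_eq_add_of_lt hlt
  have key : ∀ k m, a ^ (i + m + k * (d + 1)) = a ^ (i + m) := by
    intro k m
    induction k with
    | zero => simp
    | succ k ih =>
      have : i + m + (k + 1) * (d + 1) = (i + d + 1) + (m + k * (d + 1)) := by ring
      rw [this, pow_add, ← h, ← pow_add, ← add_assoc, ih]
  refine ⟨(i + 1) * (d + 1), by positivity, ?_⟩
  have h2 := key (i + 1) ((i + 1) * (d + 1) - i)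
  have : i + ((i + 1) * (d + 1) - i) = (i + 1) * (d + 1) := by
    have : i ≤ (i + 1) * (d + 1) := by nlinarith
    omega
  rw [this] at h2
  rw [← pow_add, h2]

/-- a finite reduced commutative ring with a group action: a field, or an invariant idempotent,
or a system of imprimitivity -/
theorem ring_tri {R Γ : Type} [CommRing R] [Finite R] [Nontrivial R] [IsReduced R] [Group Γ]
    [Finite Γ] [MulSemiringAction Γ R] :
    IsField R ∨ (∃ e : R, e * e = e ∧ e ≠ 0 ∧ e ≠ 1 ∧ ∀ g : Γ, g • e = e) ∨
      ∃ M : Subgroup Γ, IsCoatom M ∧ ∃ e : R, e * e = e ∧ e ≠ 0 ∧ (∀ m ∈ M, m • e = e) ∧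
        ∀ g ∉ M, e * g • e = 0 := by
  classical
  haveI : Finite (Ideal R) := Finite.of_injective _ (SetLike.coe_injective (A := Ideal R))
  obtain ⟨I, ⟨e, he, he0, rfl⟩, hmin⟩ := (wellFounded_lt (α := Ideal R)).has_min
    {I | ∃ e : R, e * e = e ∧ e ≠ 0 ∧ I = Ideal.span {e}} ⟨_, 1, mul_one 1, one_ne_zero, rfl⟩
  have prim : ∀ f : R, f * f = f → e * f = 0 ∨ e * f = e := by
    intro f hf
    by_contra h
    push Not at h
    apply hmin (Ideal.span {e * f}) ⟨e * f, by rw [mul_mul_mul_comm, he, hf], h.1, rfl⟩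
    refine lt_of_le_of_ne (Ideal.span_singleton_le_span_singleton.2 (dvd_mul_right e f)) fun h' => ?_
    have : e ∈ Ideal.span {e * f} := h' ▸ Ideal.mem_span_singleton_self e
    obtain ⟨r, hr⟩ := Ideal.mem_span_singleton'.1 this
    apply h.2
    conv_lhs => rw [← hr, mul_assoc, mul_assoc, hf, hr]
  by_cases h1 : e = 1
  · left
    refine ⟨exists_pair_ne R, mul_comm, fun {a} ha => ?_⟩
    obtain ⟨n, hn, h⟩ := exists_pow_idem a
    rcases prim _ h with h' | h'
    · rw [h1, one_mul] at h'
      exact absurd (IsReduced.eq_zero a ⟨n, h'⟩) ha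
    · rw [h1, one_mul] at h'
      obtain ⟨m, rfl⟩ := Nat.exists_eq_add_of_lt hn
      exact ⟨a ^ m, by rw [← pow_succ', ← h', zero_add]⟩
  right
  have hge : ∀ g : Γ, g • e * g • e = g • e := fun g => by rw [← smul_mul', he]
  have blk : ∀ g : Γ, g • e ≠ e → e * g • e = 0 := by
    intro g hg
    rcases prim _ (hge g) with h | h
    · exact h
    rcases prim _ (hge g⁻¹) with h' | h'
    · have := congrArg (g • ·) h'
      simp only [smul_mul', smul_inv_smul, smul_zero] at this
      rw [mul_comm, this]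
    · have := congrArg (g • ·) h'
      simp only [smul_mul', smul_inv_smul] at this
      exact absurd (this.symm.trans ((mul_comm _ _).trans h)) hg
  rcases eq_top_or_exists_le_coatom (MulAction.stabilizer Γ e) with h | ⟨M, hM, hle⟩
  · left
    exact ⟨e, he, he0, h1, fun g => (h ▸ Subgroup.mem_top g : g ∈ MulAction.stabilizer Γ e)⟩
  right
  haveI := Fintype.ofFinite M
  let P : R := ∏ m : M, (1 - (m : Γ) • e)
  have hPP : P * P = P := by
    rw [← Finset.prod_mul_distrib]
    refine Finset.prod_congr rfl fun m _ => ?_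
    have := hge m
    linear_combination this
  have hsm : ∀ g : Γ, g • P = ∏ m : M, (1 - (g * m : Γ) • e) := fun g => by
    simp only [P, Finset.smul_prod', smul_sub, smul_one, mul_smul]
  have kill : ∀ (a : R) (f : M → R), (∀ m, a * f m = 0) → a * ∏ m : M, (1 - f m) = a := by
    intro a f hf
    refine Finset.prod_induction (fun m => 1 - f m) (fun x => a * x = a) ?_ (mul_one a) ?_
    · intro x y hx hy; rw [← mul_assoc, hx, hy]
    · intro m _; rw [mul_sub, hf, mul_one, sub_zero]
  refine ⟨M, hM, 1 - P, by linear_combination hPP, fun h0 => he0 ?_, fun m hm => ?_, fun g hg => ?_⟩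
  · have hP : P = 1 := by linear_combination -h0
    have : e * P = 0 := by
      rw [show P = (1 - ((1 : M) : Γ) • e) * ∏ m ∈ Finset.univ.erase (1 : M), (1 - (m : Γ) • e) from
        (Finset.mul_prod_erase _ (fun m : M => 1 - (m : Γ) • e) (Finset.mem_univ 1)).symm,
        ← mul_assoc, OneMemClass.coe_one, one_smul, mul_sub, mul_one, he, sub_self, zero_mul]
    rwa [hP, mul_one] at this
  · rw [smul_sub, smul_one, hsm]
    congr 1
    exact Fintype.prod_equiv (Equiv.mulLeft (⟨m, hm⟩ : M)) _ _ fun x => rfl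
  · rw [smul_sub, smul_one, hsm]
    set B := 1 - ∏ m : M, (1 - (g * m : Γ) • e) with hB
    have h1 : ∀ m : M, B * (m : Γ) • e = 0 := by
      intro m
      rw [hB, mul_comm, mul_sub, kill, mul_one, sub_self]
      intro m'
      have hne : ((m : Γ)⁻¹ * (g * m')) • e ≠ e := by
        intro h
        have h2 : (m : Γ)⁻¹ * (g * m') ∈ M := hle h
        apply hg
        have := M.mul_mem (M.mul_mem m.2 h2) (M.inv_mem m'.2)
        convert this using 1
        group
      have := congrArg ((m : Γ) • ·) (blk _ hne)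
      simp only [smul_mul', smul_zero, ← mul_smul, mul_inv_cancel_left] at this
      exact this
    rw [mul_comm, mul_sub, mul_one, kill B _ h1, sub_self]

variable {p : ℕ} {F V Γ : Type} [Field F] [Finite F] [CharP F p] [AddCommGroup V] [Module F V]
  [Finite V] [Group Γ] [Finite Γ] {ρ : Γ →* Module.End F V}

/-- a normal subgroup with commutative image acts by scalars, unless `Reg2` is already clear -/
theorem reg2_or_scal (hp : p.Prime) (ih : IH p (Module.finrank F V)) (hs : Group.IsSolvable Γ)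
    (hc : ¬ p ∣ Nat.card Γ) (hcol : Col p Γ) (hi : Irr ρ ⊤) (A : Subgroup Γ) [hA : A.Normal]
    (hcomm : ∀ a ∈ A, ∀ b ∈ A, ρ a * ρ b = ρ b * ρ a) : Reg2 ρ ∨ A ≤ scal ρ := by
  classical
  rcases subsingleton_or_nontrivial V with hV | hV
  · exact Or.inl ⟨0, 0, fun g _ _ => Subsingleton.elim _ _⟩
  haveI := Fact.mk hp
  haveI : Finite (Module.End F V) := Finite.of_injective _ (DFunLike.coe_injective (F := V →ₗ[F] V))
  let C : Subalgebra F (Module.End F V) := Algebra.adjoin F (ρ '' (A : Set Γ))
  have hCc : ∀ a b : C, a * b = b * a := by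
    intro a b
    have h : ∀ x ∈ ρ '' (A : Set Γ), ∀ y ∈ ρ '' (A : Set Γ), x * y = y * x := by
      rintro _ ⟨x, hx, rfl⟩ _ ⟨y, hy, rfl⟩; exact hcomm x hx y hy
    letI := Algebra.adjoinCommRingOfComm F h
    exact mul_comm a b
  letI : CommRing C := { (inferInstance : Ring C) with mul_comm := hCc }
  have hconj : ∀ g : Γ, ∀ c ∈ C, ρ g * c * ρ g⁻¹ ∈ C := by
    intro g c hc
    induction hc using Algebra.adjoin_induction with
    | mem x hx =>
      obtain ⟨a, ha, rfl⟩ := hx
      exact Algebra.subset_adjoin ⟨g * a * g⁻¹, hA.conj_mem a ha g, by rw [map_mul, map_mul]⟩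
    | algebraMap r =>
      rw [← Algebra.commutes, mul_assoc, ← map_mul, mul_inv_cancel, map_one, mul_one]
      exact C.algebraMap_mem r
    | add x y _ _ hx hy => rw [mul_add, add_mul]; exact C.add_mem hx hy
    | mul x y _ _ hx hy =>
      have := C.mul_mem hx hy
      convert this using 1
      simp only [mul_assoc]
      rw [← mul_assoc (ρ g⁻¹) (ρ g), ← map_mul, inv_mul_cancel, map_one, one_mul]
  have hgi : ∀ g : Γ, ρ g⁻¹ * ρ g = 1 := fun g => by rw [← map_mul, inv_mul_cancel, map_one]
  have hig : ∀ g : Γ, ρ g * ρ g⁻¹ = 1 := fun g => by rw [← map_mul, mul_inv_cancel, map_one]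
  letI : MulSemiringAction Γ C :=
    { smul := fun g c => ⟨ρ g * c * ρ g⁻¹, hconj g c c.2⟩
      one_smul := fun c => Subtype.ext (show ρ 1 * c * ρ 1⁻¹ = c by simp)
      mul_smul := fun g h c => Subtype.ext (show ρ (g * h) * c * ρ (g * h)⁻¹ =
        ρ g * (ρ h * c * ρ h⁻¹) * ρ g⁻¹ by simp only [map_mul, mul_inv_rev, mul_assoc])
      smul_zero := fun g => Subtype.ext (show ρ g * 0 * ρ g⁻¹ = 0 by simp)
      smul_add := fun g a b => Subtype.ext (show ρ g * ((a : Module.End F V) + b) * ρ g⁻¹ =
        ρ g * a * ρ g⁻¹ + ρ g * b * ρ g⁻¹ by rw [mul_add, add_mul])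
      smul_one := fun g => Subtype.ext (show ρ g * 1 * ρ g⁻¹ = 1 by rw [mul_one, hig])
      smul_mul := fun g a b => Subtype.ext (show ρ g * ((a : Module.End F V) * b) * ρ g⁻¹ =
        (ρ g * a * ρ g⁻¹) * (ρ g * b * ρ g⁻¹) by
          simp only [mul_assoc]
          rw [← mul_assoc (ρ g⁻¹) (ρ g), hgi, one_mul]) }
  have hsm : ∀ (g : Γ) (c : C), ((g • c : C) : Module.End F V) = ρ g * c * ρ g⁻¹ := fun _ _ => rfl
  haveI : Nontrivial C := ⟨0, 1, fun h => zero_ne_one (congrArg Subtype.val h)⟩
  haveI : CharP C p := charP_of_injective_algebraMap (algebraMap F C).injective p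
  haveI : IsReduced C := by
    have hsurj : Function.Surjective (frobenius C p) := by
      rintro ⟨c, hc'⟩
      induction hc' using Algebra.adjoin_induction with
      | mem x hx =>
        obtain ⟨a, ha, rfl⟩ := hx
        have hco : p.Coprime (orderOf a) :=
          (Nat.Prime.coprime_iff_not_dvd hp).2 fun h => hc (h.trans (orderOf_dvd_natCard a))
        obtain ⟨m, hm⟩ := exists_pow_eq_self_of_coprime hco
        refine ⟨⟨ρ (a ^ m), Algebra.subset_adjoin ⟨_, A.pow_mem ha m, rfl⟩⟩, Subtype.ext ?_⟩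
        rw [frobenius_def, SubmonoidClass.coe_pow, ← map_pow, ← pow_mul, mul_comm, pow_mul, hm]
      | algebraMap r =>
        obtain ⟨s, rfl⟩ := (Finite.injective_iff_surjective.1 (frobenius F p).injective) r
        refine ⟨algebraMap F C s, Subtype.ext ?_⟩
        rw [frobenius_def, frobenius_def, ← map_pow]; rfl
      | add x y hx hy h1 h2 =>
        obtain ⟨a, ha⟩ := h1
        obtain ⟨b, hb⟩ := h2
        exact ⟨a + b, by rw [map_add, ha, hb]; rfl⟩
      | mul x y hx hy h1 h2 =>
        obtain ⟨a, ha⟩ := h1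
        obtain ⟨b, hb⟩ := h2
        exact ⟨a * b, by rw [map_mul, ha, hb]; rfl⟩
    have hinj := Finite.injective_iff_surjective.2 hsurj
    refine (isReduced_iff_pow_one_lt p hp.one_lt).2 fun x hx => hinj ?_
    rw [frobenius_def, hx, map_zero]
  rcases ring_tri (R := C) (Γ := Γ) with h | ⟨e, he, he0, he1, hg⟩ | ⟨M, hM, e, he, he0, h1, h2⟩
  · letI : Field C := h.toField
    rcases Nat.lt_or_ge 1 (Module.finrank F C) with hK | hK
    · left
      refine reg2_of_semilin ih hs hc C hK fun g k => ⟨g • k, fun v => ?_⟩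
      show ρ g ((k : Module.End F V) v) = (ρ g * k * ρ g⁻¹) (ρ g v)
      rw [Module.End.mul_apply, Module.End.mul_apply, inv_apply_apply]
    · right
      have hb : C = ⊥ := by
        have h0 : 0 < Module.finrank F C := Module.finrank_pos
        exact Subalgebra.eq_bot_of_finrank_one (by omega)
      intro a ha
      have : ρ a ∈ C := Algebra.subset_adjoin ⟨a, ha, rfl⟩
      rw [hb, Algebra.mem_bot] at this
      obtain ⟨c, hc⟩ := this
      exact ⟨c, by rw [← hc, Algebra.algebraMap_eq_smul_one]⟩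
  · exfalso
    have hee : (e : Module.End F V) * e = e := congrArg Subtype.val he
    have hcm : ∀ g, ρ g * e = e * ρ g := fun g => by
      have := congrArg Subtype.val (hg g)
      rw [hsm] at this
      conv_rhs => rw [← this, mul_assoc, hgi, mul_one]
    rcases hi (LinearMap.range (e : Module.End F V)) (by
      rintro g - _ ⟨v, rfl⟩
      exact ⟨ρ g v, (LinearMap.congr_fun (hcm g) v).symm⟩) with h | h
    · exact he0 (Subtype.ext (LinearMap.range_eq_bot.1 h))
    · apply he1
      ext v
      obtain ⟨w, rfl⟩ := LinearMap.range_eq_top.1 h v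
      exact LinearMap.congr_fun hee w
  · left
    obtain ⟨col, hcol⟩ := hcol M hM
    refine reg2_of_imprim hp ih hs hc hi hM.1 col hcol (e := e) (congrArg Subtype.val he)
      (fun h => he0 (Subtype.ext h)) (fun m hm => ?_) (fun g hg => ?_)
    · have := congrArg Subtype.val (h1 m hm)
      rw [hsm] at this
      conv_rhs => rw [← this, mul_assoc, hgi, mul_one]
    · have h3 : (e : Module.End F V) * (ρ g * e * ρ g⁻¹) = 0 := congrArg Subtype.val (h2 g hg)
      have : (e : Module.End F V) * ρ g * e = e * (ρ g * e * ρ g⁻¹) * ρ g := by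
        simp only [mul_assoc]; rw [hgi, mul_one]
      rw [this, h3, zero_mul]

end Cfsg.B2
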