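import Cfsg.Agent.B2.Two
import Cfsg.Agent.B2.Tri
import Cfsg.Agent.B2.Color

set_option autoImplicit false
set_option linter.style.haveILetI false

namespace Cfsg.B2

open Module
open scoped commutatorElement

theorem rho_mul_pow {F V Γ : Type} [Field F] [AddCommGroup V] [Module F V] [Group Γ]
    {ρ : Γ →* Module.End F V} {a b : Γ} {κ : F} (h : ρ (b * a) = κ • ρ (a * b)) (n : ℕ) :
    ρ ((a * b) ^ n) = κ ^ n.choose 2 • (ρ (a ^ n) * ρ (b ^ n)) := by
  induction n with
  | zero => simp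
  | succ n ih =>
    rw [pow_succ, map_mul, ih, Nat.choose_succ_succ' n 1, Nat.choose_one_right, smul_mul_assoc,
      map_mul, mul_assoc, ← mul_assoc (ρ (b ^ n)), ← map_mul ρ (b ^ n), comm_pow_left h,
      smul_mul_assoc, mul_smul_comm, smul_smul, ← pow_add, add_comm, pow_succ a, pow_succ b]
    simp only [map_mul, mul_assoc]

variable {p : ℕ} {F V Γ : Type} [Field F] [Finite F] [CharP F p] [AddCommGroup V] [Module F V]
  [Finite V] [Group Γ] [Finite Γ] {ρ : Γ →* Module.End F V}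

theorem reg2_step (hp : p.Prime) (hp2 : p ≠ 2) (hE : SympStmt) (ih : IH p (Module.finrank F V))
    (hs : Group.IsSolvable Γ) (hc : ¬ p ∣ Nat.card Γ) : Reg2 ρ := by
  classical
  rcases subsingleton_or_nontrivial V with hV | hV
  · exact ⟨0, 0, fun g _ _ => Subsingleton.elim _ _⟩
  by_contra hR
  have hi : Irr ρ ⊤ := by_contra fun h => hR (reg2_of_red ih hs hc h)
  have hab : ∀ A : Subgroup Γ, A.Normal → (∀ a ∈ A, ∀ b ∈ A, ρ a * ρ b = ρ b * ρ a) →
      A ≤ scal ρ := fun A _ h =>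
    (reg2_or_scal hp ih hs hc (fun M hM => exists_coloring hs hp hp2 hc hM) hi A h).resolve_left hR
  have htop : ¬ (⊤ : Subgroup Γ) ≤ scal ρ := fun h => by
    obtain ⟨x, hx⟩ := exists_ne (0 : V)
    exact hR ⟨x, x, fun g h1 _ => eq_one_of_scal h1 h1 (fun h => hx (congrArg Prod.fst h))
      (h trivial)⟩
  obtain ⟨N, ⟨hN, hna⟩, hmin'⟩ := (wellFounded_lt (α := Subgroup Γ)).has_min
    {Y | Y.Normal ∧ ¬ Y ≤ scal ρ} ⟨⊤, inferInstance, htop⟩
  have hmin : ∀ Y : Subgroup Γ, Y.Normal → Y ≤ N → Y ≤ scal ρ ∨ Y = N := fun Y hY hle => by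
    by_contra hcon
    push Not at hcon
    exact hmin' Y ⟨hY, hcon.1⟩ (lt_of_le_of_ne hle hcon.2)
  have hder : ⁅N, N⁆ ≤ scal ρ := by
    have := Group.IsSolvable.commutator_lt_of_ne_bot (H := N) (fun h => hna (h ▸ bot_le))
    exact (hmin _ inferInstance this.le).resolve_right this.ne
  have h : Heis ρ N := by
    refine ⟨fun a ha b hb => ?_, fun a ha hab' => ?_⟩
    · obtain ⟨c, hc⟩ := hder (Subgroup.commutator_mem_commutator ha hb)
      refine ⟨c, ?_⟩
      rw [show a * b = ⁅a, b⁆ * (b * a) by rw [commutatorElement_def]; group, map_mul, hc,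
        smul_mul_assoc, one_mul]
    · let Z : Subgroup Γ :=
        { carrier := {a | a ∈ N ∧ ∀ b ∈ N, Commute (ρ a) (ρ b)}
          one_mem' := ⟨N.one_mem, fun b _ => by rw [map_one]; exact Commute.one_left _⟩
          mul_mem' := fun {a b} ha hb => ⟨N.mul_mem ha.1 hb.1, fun c hc => by
            rw [map_mul]; exact (ha.2 c hc).mul_left (hb.2 c hc)⟩
          inv_mem' := fun {a} ha => ⟨N.inv_mem ha.1, fun c hc => by
            have := congrArg (fun f => ρ a⁻¹ * f * ρ a⁻¹) (ha.2 c hc).eq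
            simp only [← map_mul] at this
            show _ * _ = _ * _
            rw [← map_mul, ← map_mul]
            simpa [mul_assoc] using this.symm⟩ }
      have hZ : Z.Normal := ⟨fun a ha g => ⟨hN.conj_mem a ha.1 g, fun b hb => by
        have := congrArg (fun f => ρ g * f * ρ g⁻¹) (ha.2 _ (hN.conj_mem b hb g⁻¹)).eq
        simp only [← map_mul] at this
        show _ * _ = _ * _
        rw [← map_mul, ← map_mul]
        simpa [mul_assoc] using this⟩⟩
      refine hab Z hZ (fun a ha b hb => ha.2 b hb.1) ⟨ha, fun b hb => ?_⟩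
      have := hab' b hb
      rwa [map_mul, map_mul] at this
  have hiN : Irr ρ N := by_contra fun h' => hR (reg2_of_tensor hp ih hs hc h hna
    (fun g hg => absurd (Subgroup.normalizer_eq_top N ▸ Subgroup.mem_top g) hg) h')
  obtain ⟨r, hr, hrN⟩ : ∃ r : ℕ, r.Prime ∧ ∀ a ∈ N, a ^ r ∈ scal ρ := by
    obtain ⟨a, ha, ha'⟩ := SetLike.not_le_iff_exists.1 hna
    have ha1 : (a : Γ ⧸ scal ρ) ≠ 1 := fun h => ha' ((QuotientGroup.eq_one_iff _).1 h)
    obtain ⟨r, hr, hr2⟩ := Nat.exists_prime_and_dvd (mt orderOf_eq_one_iff.1 ha1)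
    have ho := orderOf_pow_orderOf_div (orderOf_pos (a : Γ ⧸ scal ρ)).ne' hr2
    set j := orderOf (a : Γ ⧸ scal ρ) / r
    let Y : Subgroup Γ :=
      { carrier := {a | a ∈ N ∧ (a : Γ ⧸ scal ρ) ^ r = 1}
        one_mem' := ⟨N.one_mem, by simp⟩
        mul_mem' := fun {a b} ha hb => ⟨N.mul_mem ha.1 hb.1, by
          have : Commute (a : Γ ⧸ scal ρ) b := by
            rw [← commutatorElement_eq_one_iff_commute]
            exact (QuotientGroup.eq_one_iff ⁅a, b⁆).2
              (hder (Subgroup.commutator_mem_commutator ha.1 hb.1))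
          rw [QuotientGroup.mk_mul, this.mul_pow, ha.2, hb.2, mul_one]⟩
        inv_mem' := fun {a} ha => ⟨N.inv_mem ha.1, by
          rw [QuotientGroup.mk_inv, inv_pow, ha.2, inv_one]⟩ }
    have hY : Y.Normal := ⟨fun a ha g => ⟨hN.conj_mem a ha.1 g, by
      rw [QuotientGroup.mk_mul, QuotientGroup.mk_mul, QuotientGroup.mk_inv, conj_pow, ha.2,
        mul_one, mul_inv_cancel]⟩⟩
    rcases hmin Y hY (fun a ha => ha.1) with h1 | h1
    · exfalso
      have := (QuotientGroup.eq_one_iff _).2 (h1 (show a ^ j ∈ Y from ⟨N.pow_mem ha j, by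
        rw [QuotientGroup.mk_pow, ← ho, pow_orderOf_eq_one]⟩))
      rw [QuotientGroup.mk_pow] at this
      rw [this, orderOf_one] at ho
      exact hr.one_lt.ne ho
    · refine ⟨r, hr, fun b hb => (QuotientGroup.eq_one_iff _).1 ?_⟩
      rw [← h1] at hb
      exact hb.2
  by_cases hr2 : r = 2
  · subst hr2
    exact hR (reg2_two hp hp2 ih hs hc hE h hiN hna (fun a ha => sq a ▸ hrN a ha) hmin)
  have h2 : (2 : F) ≠ 0 := by
    intro h
    have := (CharP.cast_eq_zero_iff F p 2).1 (by exact_mod_cast h)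
    exact hp2 ((Nat.prime_dvd_prime_iff_eq hp Nat.prime_two).1 this)
  refine hR (reg2_odd h2 h hiN hna hr hr2 ?_ fun Λ _ _ he => exists_lin_coloring hr hr2 he)
  have hmul : ∀ a ∈ N, ∀ b ∈ N, ρ ((a * b) ^ r) = ρ (a ^ r) * ρ (b ^ r) := by
    intro a ha b hb
    obtain ⟨κ, hκ⟩ := h.comm b hb a ha
    have h1 := comm_pow_left hκ r
    obtain ⟨s, hs⟩ := hrN b hb
    have h0 := rho_ne_zero (ρ := ρ) (b ^ r * a)
    have h3 : ρ (a * b ^ r) = ρ (b ^ r * a) := by
      rw [map_mul, map_mul, hs, smul_mul_assoc, mul_smul_comm, one_mul, mul_one]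
    rw [h3] at h1
    have h4 : κ ^ r = 1 := (smul_left_injective F h0 (by
      show (1 : F) • _ = κ ^ r • _
      rw [one_smul]; exact h1)).symm
    obtain ⟨k, hk⟩ := hr.dvd_choose_self two_ne_zero (lt_of_le_of_ne hr.two_le (Ne.symm hr2))
    rw [rho_mul_pow hκ, hk, pow_mul, h4, one_pow, one_smul]
  have hsc : ∀ a : N, ∃ c : F, ρ (a ^ r) = c • 1 := fun a => hrN a a.2
  choose s hs using hsc
  let s' : N →* F :=
    { toFun := s
      map_one' := smul_left_injective F (one_ne_zero (α := End F V)) (by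
        show s 1 • _ = (1 : F) • _
        rw [← hs]; simp)
      map_mul' := fun a b => smul_left_injective F (one_ne_zero (α := End F V)) (by
        show s (a * b) • _ = (s a * s b) • _
        rw [← hs, Subgroup.coe_mul, hmul a a.2 b b.2, hs, hs, smul_mul_smul_comm, mul_one]) }
  let Y : Subgroup Γ :=
    { carrier := {a | a ∈ N ∧ ρ (a ^ r) = 1}
      one_mem' := ⟨N.one_mem, by simp⟩
      mul_mem' := fun {a b} ha hb => ⟨N.mul_mem ha.1 hb.1, by
        rw [hmul a ha.1 b hb.1, ha.2, hb.2, mul_one]⟩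
      inv_mem' := fun {a} ha => ⟨N.inv_mem ha.1, by
        rw [inv_pow, ← mul_one (ρ _), ← ha.2, ← map_mul, inv_mul_cancel, map_one, ha.2]⟩ }
  have hY : Y.Normal := ⟨fun a ha g => ⟨hN.conj_mem a ha.1 g, by
    rw [conj_pow, map_mul, map_mul, ha.2, mul_one, ← map_mul, mul_inv_cancel, map_one]⟩⟩
  rcases hmin Y hY (fun a ha => ha.1) with h1 | h1
  · exfalso
    obtain ⟨⟨_, a₀, rfl⟩, hgen⟩ := IsCyclic.exists_generator (α := s'.toHomUnits.range)
    have key : ∀ a : N, ∃ k : ℤ, (((a₀ : Γ) ^ k : Γ) : Γ ⧸ scal ρ) = (a : Γ) := by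
      intro a
      obtain ⟨k, hk⟩ := hgen ⟨_, a, rfl⟩
      have h3 : s'.toHomUnits (a₀ ^ k) = s'.toHomUnits a := by
        rw [map_zpow]; exact congrArg Subtype.val hk
      have h4 : s ((a₀ ^ k)⁻¹ * a) = 1 := by
        have : s'.toHomUnits ((a₀ ^ k)⁻¹ * a) = 1 := by rw [map_mul, map_inv, h3, inv_mul_cancel]
        exact congrArg Units.val this
      refine ⟨k, QuotientGroup.eq.2 (h1 ⟨((a₀ ^ k)⁻¹ * a).2, ?_⟩)⟩
      have := hs ((a₀ ^ k)⁻¹ * a)
      rw [h4, one_smul] at this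
      exact this
    refine hna (hab N hN fun a ha b hb => ?_)
    obtain ⟨i, hi⟩ := key ⟨a, ha⟩
    obtain ⟨j, hj⟩ := key ⟨b, hb⟩
    exact commute_of_mk_eq hi hj ((Commute.zpow_zpow_self _ i j).map ρ)
  · intro a ha
    rw [← h1] at ha
    exact ha.2

theorem ih_all (hp : p.Prime) (hp2 : p ≠ 2) (hE : SympStmt) (n : ℕ) : IH p n := by
  induction n using Nat.strong_induction_on with
  | _ n ih => exact fun F V Γ _ _ _ _ _ _ _ _ hs hc hlt ρ => reg2_step hp hp2 hE (ih _ hlt) hs hc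

theorem base_two (hE : SympStmt) {F : Type*} [Field F] [Fintype F] (hF : ringChar F ≠ 2)
    {V : Type*} [AddCommGroup V] [Module F V] [Finite V]
    {G : Type*} [Group G] [Finite G] [Group.IsSolvable G] (ρ : Representation F G V)
    (hfaith : Function.Injective ρ) (hcop : (Nat.card G).Coprime (Nat.card V)) :
    ∃ x y : V, ∀ g : G, ρ g x = x → ρ g y = y → g = 1 := by
  rcases subsingleton_or_nontrivial V with hV | hV
  · exact ⟨0, 0, fun g _ _ => hfaith (Subsingleton.elim _ _)⟩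
  set p := ringChar F
  have hp : p.Prime := CharP.char_is_prime F p
  haveI := Fact.mk hp
  have hpV : ∀ x : V, p • x = 0 := fun x => by
    rw [← Nat.cast_smul_eq_nsmul F, CharP.cast_eq_zero, zero_smul]
  obtain ⟨inst⟩ : Nonempty (Module (ZMod p) V) := ⟨AddCommGroup.zmodModule hpV⟩
  haveI : Module.Finite (ZMod p) V := Module.Finite.of_finite
  have hc : ¬ p ∣ Nat.card G := fun h => by
    have h1 : p ∣ Nat.card V := by
      rw [Module.natCard_eq_pow_finrank (K := ZMod p), Nat.card_zmod]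
      exact dvd_pow_self _ Module.finrank_pos.ne'
    exact hp.one_lt.ne' (Nat.eq_one_of_dvd_one (hcop ▸ Nat.dvd_gcd h h1))
  let e := (Module.finBasis (ZMod p) V).equivFun
  let f : Shrink.{0} G ≃* G := Shrink.mulEquiv
  let ρ' : Shrink.{0} G →* End (ZMod p) (Fin (finrank (ZMod p) V) → ZMod p) :=
    { toFun := fun g => e.conj ((ρ (f g)).toAddMonoidHom.toZModLinearMap p)
      map_one' := by
        refine LinearMap.ext fun v => ?_
        simp
      map_mul' := fun a b => by
        refine LinearMap.ext fun v => ?_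
        simp }
  have hρ' : ∀ g v, ρ' g v = e (ρ (f g) (e.symm v)) := fun _ _ => rfl
  haveI : Finite (Shrink.{0} G) := Finite.of_equiv _ f.symm.toEquiv
  obtain ⟨x, y, hxy⟩ := ih_all hp hF hE _ (ZMod p) _ (Shrink.{0} G)
    (Group.isSolvable_of_isSolvable_injective (f := f.toMonoidHom) f.injective)
    (by rwa [Nat.card_congr f.toEquiv]) (Nat.lt_succ_self _) ρ'
  refine ⟨e.symm x, e.symm y, fun g hx hy => hfaith ?_⟩
  have := hxy (f.symm g) (by rw [hρ', f.apply_symm_apply, hx, e.apply_symm_apply])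
    (by rw [hρ', f.apply_symm_apply, hy, e.apply_symm_apply])
  ext v
  have h1 := LinearMap.congr_fun this (e v)
  rw [hρ', f.apply_symm_apply, e.symm_apply_apply] at h1
  rw [map_one]
  exact e.injective h1

end Cfsg.B2
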