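import Cfsg.Agent.B2.Lin

set_option autoImplicit false
set_option linter.style.haveILetI false

namespace Cfsg.B2

open Polynomial

/-- distinguishing pairs of subsets in groups of exponent `r` -/
def LinCol (r : ℕ) : Prop :=
  ∀ (Λ : Type) [CommGroup Λ] [Finite Λ], (∀ x : Λ, x ^ r = 1) →
    ∃ B₁ B₂ : Set Λ, Disjoint B₁ B₂ ∧ 4 * B₂.ncard < Nat.card Λ ∧
      ∀ φ : Λ ≃* Λ, (∀ x, φ x ∈ B₁ ↔ x ∈ B₁) → (∀ x, φ x ∈ B₂ ↔ x ∈ B₂) → ∀ x, φ x = x

variable {F V Γ : Type} [Field F] [AddCommGroup V] [Module F V] [Group Γ]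
  {ρ : Γ →* Module.End F V}

theorem indep_of_eigen {ι : Type} (A : Subgroup Γ) (v : ι → V) (hv : ∀ i, v i ≠ 0)
    (χ : ι → A → F) (hχ : ∀ i (a : A), ρ a (v i) = χ i a • v i) (hinj : Function.Injective χ) :
    LinearIndependent F v := by
  let ψ : ι → (A →* F) := fun i =>
    { toFun := χ i
      map_one' := smul_left_injective F (hv i) (by
        show χ i 1 • v i = (1 : F) • v i
        rw [← hχ]; simp)
      map_mul' := fun a b => smul_left_injective F (hv i) (by
        show χ i (a * b) • v i = (χ i a * χ i b) • v i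
        rw [← hχ, Subgroup.coe_mul, mul_apply', hχ, map_smul, hχ, smul_smul, mul_comm]) }
  have hψ : Function.Injective ψ := fun i j h => hinj (funext fun a => DFunLike.congr_fun h a)
  have hli := (linearIndependent_monoidHom A F).comp ψ hψ
  rw [linearIndependent_iff'] at hli ⊢
  intro s c hc i hi
  by_contra h0
  obtain ⟨f, hf⟩ : ∃ f : Module.Dual F V, f (v i) ≠ 0 := by
    by_contra h'
    push Not at h'
    exact hv i ((Module.forall_dual_apply_eq_zero_iff F (v i)).1 h')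
  have := hli s (fun j => c j * f (v j)) (funext fun a => by
    have h1 := congrArg (fun w => f (ρ a w)) hc
    simp only [map_sum, map_smul, hχ, map_zero, smul_eq_mul] at h1
    simp only [Finset.sum_apply, Function.comp_apply, Pi.smul_apply, smul_eq_mul, Pi.zero_apply]
    rw [← h1]
    refine Finset.sum_congr rfl fun j _ => ?_
    show _ * χ j a = _
    ring) i hi
  exact mul_ne_zero h0 hf this

theorem exists_eigen_of_prod (T : Module.End F V) (U : Submodule F V) (hU : ∀ v ∈ U, T v ∈ U)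
    (s : Finset F) : ∀ x ∈ U, x ≠ 0 → aeval T (∏ c ∈ s, (X - C c : F[X])) x = 0 →
      ∃ c : F, ∃ y ∈ U, y ≠ 0 ∧ T y = c • y := by
  classical
  induction s using Finset.induction_on with
  | empty => intro x _ h0 h; simp at h; exact absurd h h0
  | insert c s hc ih =>
    intro x hx h0 h
    rw [Finset.prod_insert hc, mul_comm, map_mul, Module.End.mul_apply] at h
    have e : aeval T (X - C c : F[X]) x = T x - c • x := by
      simp [Algebra.algebraMap_eq_smul_one]
    rw [e] at h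
    by_cases h1 : T x - c • x = 0
    · exact ⟨c, x, hx, h0, sub_eq_zero.1 h1⟩
    · exact ih _ (U.sub_mem (hU x hx) (U.smul_mem c hx)) h1 h

theorem comm_pow_left {a b : Γ} {c : F} (h : ρ (a * b) = c • ρ (b * a)) (n : ℕ) :
    ρ (a ^ n * b) = c ^ n • ρ (b * a ^ n) := by
  induction n with
  | zero => simp
  | succ n ih =>
    rw [pow_succ' a, mul_assoc, map_mul, ih, mul_smul_comm, ← map_mul, ← mul_assoc, map_mul, h,
      smul_mul_assoc, smul_smul, ← map_mul, mul_assoc, pow_succ c]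

theorem rho_ne_zero [Nontrivial V] (g : Γ) : ρ g ≠ 0 := fun h => by
  obtain ⟨v, hv⟩ := exists_ne (0 : V)
  exact hv ((apply_eq_zero ρ g).1 (by rw [h]; rfl))

/-- the odd core -/
theorem reg2_odd [Finite V] [Finite Γ] (h2 : (2 : F) ≠ 0) {N : Subgroup Γ} [hN : N.Normal]
    (h : Heis ρ N) (hi : Irr ρ N) (hna : ¬ N ≤ scal ρ) {r : ℕ} (hr : r.Prime) (hr2 : r ≠ 2)
    (he : ∀ a ∈ N, ρ (a ^ r) = 1) (hcol : LinCol r) : Reg2 ρ := by
  classical
  rcases subsingleton_or_nontrivial V with hV | hV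
  · exact ⟨0, 0, fun g _ _ => Subsingleton.elim _ _⟩
  have hodd : Odd r := hr.odd_of_ne_two hr2
  -- a primitive root of unity
  obtain ⟨ζ, hζ⟩ : ∃ ζ : F, IsPrimitiveRoot ζ r := by
    obtain ⟨a, ha, ha'⟩ := SetLike.not_le_iff_exists.1 hna
    have : ¬ ∀ b ∈ N, ρ (a * b) = ρ (b * a) := fun h' => ha' (h.nondeg a ha h')
    push Not at this
    obtain ⟨b, hb, hab⟩ := this
    obtain ⟨c, hc⟩ := h.comm a ha b hb
    have h1 := comm_pow_left hc r
    rw [map_mul, map_mul, he a ha, one_mul, mul_one] at h1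
    have h2 : c ^ r = 1 := (smul_left_injective F (rho_ne_zero b) (by
      show (1 : F) • ρ b = c ^ r • ρ b
      rw [one_smul]; exact h1)).symm
    haveI := Fact.mk hr
    refine ⟨c, ?_⟩
    have hc1 : c ≠ 1 := fun h => hab (by rw [hc, h, one_smul])
    rw [← orderOf_eq_prime h2 hc1]
    exact IsPrimitiveRoot.orderOf c
  -- stabilisers of lines
  let A : V → Subgroup Γ := fun x =>
    { carrier := {a | a ∈ N ∧ ∃ c : F, ρ a x = c • x}
      one_mem' := ⟨N.one_mem, 1, by simp⟩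
      mul_mem' := by
        rintro a b ⟨ha, c, hc⟩ ⟨hb, d, hd⟩
        exact ⟨N.mul_mem ha hb, d * c, by rw [mul_apply', hd, map_smul, hc, smul_smul]⟩
      inv_mem' := by
        rintro a ⟨ha, c, hc⟩
        refine ⟨N.inv_mem ha, ?_⟩
        have h1 := inv_apply_apply ρ a x
        rw [hc, map_smul] at h1
        by_cases h0 : c = 0
        · rw [h0, zero_smul] at h1
          exact ⟨0, by rw [← h1]; simp⟩
        · exact ⟨c⁻¹, by conv_rhs => rw [← h1, smul_smul, inv_mul_cancel₀ h0, one_smul]⟩ }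
  obtain ⟨_, ⟨x, hx0, rfl⟩, hmax⟩ := (wellFounded_gt (α := Subgroup Γ)).has_min
    {B | ∃ x : V, x ≠ 0 ∧ B = A x} (by
      obtain ⟨x, hx⟩ := exists_ne (0 : V); exact ⟨_, x, hx, rfl⟩)
  have hχ : ∀ a : A x, ∃ c : F, ρ a x = c • x := fun a => a.2.2
  choose χ hχ using hχ
  have hχr : ∀ a, χ a ^ r = 1 := fun a => by
    have : ∀ n : ℕ, ρ ((a : Γ) ^ n) x = χ a ^ n • x := fun n => by
      induction n with
      | zero => simp
      | succ n ih => rw [pow_succ, mul_apply', hχ, map_smul, ih, smul_smul, pow_succ']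
    have h1 := this r
    rw [he a a.2.1, Module.End.one_apply] at h1
    exact (smul_left_injective F hx0 (by
      show (1 : F) • x = χ a ^ r • x
      rw [one_smul]; exact h1)).symm
  have hCA : ∀ a ∈ N, (∀ l ∈ A x, ρ (l * a) = ρ (a * l)) → a ∈ A x := by
    intro a ha hl
    let U : Submodule F V :=
      { carrier := {v | ∀ l : A x, ρ l v = χ l • v}
        zero_mem' := by simp
        add_mem' := fun {v w} hv hw l => by rw [map_add, hv l, hw l, smul_add]
        smul_mem' := fun c v hv l => by rw [map_smul, hv l, smul_comm] }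
    obtain ⟨c, y, hy, hy0, hc⟩ := exists_eigen_of_prod (ρ a) U (fun v hv l => by
      rw [← mul_apply', hl l l.2, mul_apply', hv l, map_smul]) (nthRootsFinset r 1) x hχ hx0 (by
      rw [← X_pow_sub_one_eq_prod hr.pos hζ]
      rw [map_sub, map_pow, aeval_X, ← map_pow, he a ha]
      simp)
    have hle : A x ≤ A y := fun l hl => ⟨hl.1, χ ⟨l, hl⟩, hy ⟨l, hl⟩⟩
    have heq : A x = A y := by
      by_contra hne
      exact hmax _ ⟨y, hy0, rfl⟩ (lt_of_le_of_ne hle hne)
    rw [heq]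
    exact ⟨ha, c, hc⟩
  have hcomm : ∀ a ∈ N, ∀ b ∈ N, a * b * a⁻¹ * b⁻¹ ∈ A x := by
    intro a ha b hb
    obtain ⟨c, hc⟩ := h.comm a ha b hb
    refine ⟨N.mul_mem (N.mul_mem (N.mul_mem ha hb) (N.inv_mem ha)) (N.inv_mem hb), c, ?_⟩
    rw [mul_assoc, map_mul, hc, smul_mul_assoc, ← map_mul]
    simp [mul_assoc]
  let A' : Subgroup N := (A x).subgroupOf N
  haveI hA' : A'.Normal := ⟨fun a ha g => by
    have := (A x).mul_mem (hcomm g g.2 a a.2) ha
    rw [Subgroup.mem_subgroupOf]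
    simpa using this⟩
  letI : CommGroup (N ⧸ A') :=
    { (inferInstance : Group (N ⧸ A')) with
      mul_comm := fun a b => by
        obtain ⟨a, rfl⟩ := QuotientGroup.mk_surjective a
        obtain ⟨b, rfl⟩ := QuotientGroup.mk_surjective b
        rw [← QuotientGroup.mk_mul, ← QuotientGroup.mk_mul, QuotientGroup.eq,
          Subgroup.mem_subgroupOf]
        have := hcomm _ (N.inv_mem b.2) _ (N.inv_mem a.2)
        simpa [mul_assoc] using this }
  obtain ⟨B₁, B₂, hB, hcard, hφ⟩ := hcol (N ⧸ A') (fun a => by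
    obtain ⟨a, rfl⟩ := QuotientGroup.mk_surjective a
    rw [← QuotientGroup.mk_pow, QuotientGroup.eq_one_iff, Subgroup.mem_subgroupOf]
    exact ⟨(a ^ r).2, 1, by rw [Subgroup.coe_pow, he a a.2, one_smul]; rfl⟩)
  let δ : N ⧸ A' → V := fun l => ρ (l.out : N) x
  have hδ0 : ∀ l, δ l ≠ 0 := fun l h => hx0 ((apply_eq_zero ρ _).1 h)
  have hrel : ∀ (t : N) (l : N ⧸ A'), (t : N ⧸ A') = l → ∃ d : F, d ^ r = 1 ∧ ρ t x = d • δ l := by
    intro t l ht
    have : l.out⁻¹ * t ∈ A' := by rw [← QuotientGroup.eq, QuotientGroup.out_eq', ht]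
    rw [Subgroup.mem_subgroupOf] at this
    refine ⟨χ ⟨_, this⟩, hχr _, ?_⟩
    rw [← map_smul, ← hχ, ← mul_apply']
    simp
  have hli : LinearIndependent F δ := by
    have : ∀ (l : N ⧸ A') (a : A x), ∃ c : F, ρ a (δ l) = c • δ l ∧
        ρ (a * (l.out : N)) = (c / χ a) • ρ ((l.out : N) * a) := by
      intro l a
      obtain ⟨c, hc⟩ := h.comm a a.2.1 _ l.out.2
      have h0 : χ a ≠ 0 := fun h0 => by
        have := hχr a
        rw [h0, zero_pow hr.ne_zero] at this
        exact zero_ne_one this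
      refine ⟨c * χ a, ?_, by rw [hc, mul_div_cancel_right₀ _ h0]⟩
      show ρ a (ρ (l.out : N) x) = _
      rw [← mul_apply', hc, LinearMap.smul_apply, mul_apply', hχ, map_smul, smul_smul]
    choose ψ hψ hψ' using this
    refine indep_of_eigen (A x) δ hδ0 ψ hψ fun l m hlm => ?_
    rw [← QuotientGroup.out_eq' l, ← QuotientGroup.out_eq' m, QuotientGroup.eq,
      Subgroup.mem_subgroupOf]
    refine hCA _ (Subtype.property _) fun a ha => ?_
    have h1 := hψ' l ⟨a, ha⟩
    have h2 := hψ' m ⟨a, ha⟩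
    rw [← hlm] at h2
    simp only at h1 h2
    set s : Γ := ((l.out : N) : Γ)
    set t : Γ := ((m.out : N) : Γ)
    set c := ψ l ⟨a, ha⟩ / χ ⟨a, ha⟩
    show ρ (a * (s⁻¹ * t)) = ρ (s⁻¹ * t * a)
    have h3 : ρ (s⁻¹ * a) = c • ρ (a * s⁻¹) := by
      have := congrArg (fun f => ρ s⁻¹ * f * ρ s⁻¹) h1
      simp only [mul_smul_comm, smul_mul_assoc, ← map_mul] at this
      simpa [mul_assoc] using this
    have hc0 : c ≠ 0 := fun h0 => rho_ne_zero (ρ := ρ) (s⁻¹ * a) (by rw [h3, h0, zero_smul])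
    refine smul_right_injective _ hc0 ?_
    show c • ρ (a * (s⁻¹ * t)) = c • ρ (s⁻¹ * t * a)
    rw [← mul_assoc, map_mul, ← smul_mul_assoc, ← h3, ← map_mul, mul_assoc, map_mul, h2,
      mul_smul_comm, ← map_mul, mul_assoc]
  haveI := Fintype.ofFinite (N ⧸ A')
  let c : N ⧸ A' → F := fun l => if l ∈ B₂ then 0 else if l ∈ B₁ then -1 else 1
  have hcr : ∀ l, c l ^ r = c l := fun l => by
    simp only [c]
    split_ifs
    · exact zero_pow hr.ne_zero
    · exact hodd.neg_one_pow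
    · exact one_pow r
  have hm1 : (-1 : F) ≠ 1 := fun h => h2 (by linear_combination -h)
  have hc2 : ∀ l, l ∈ B₂ ↔ c l = 0 := fun l => by
    simp only [c]
    split_ifs with h1 h2 <;> simp [h1]
  have hc1 : ∀ l, l ∈ B₁ ↔ c l = -1 := fun l => by
    simp only [c]
    split_ifs with h1 h2
    · simp [Set.disjoint_right.1 hB h1]
    · simp [h2]
    · simp [h2, hm1.symm]
  refine ⟨x, ∑ l, c l • δ l, fun g hx hy => ?_⟩
  have hx' : ρ g⁻¹ x = x := (stab ρ x).inv_mem hx
  have hAg : ∀ g : Γ, ρ g x = x → ∀ a ∈ A x, g * a * g⁻¹ ∈ A x := by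
    rintro g hg a ⟨ha, d, hd⟩
    have hg' : ρ g⁻¹ x = x := (stab ρ x).inv_mem hg
    exact ⟨hN.conj_mem a ha g, d, by rw [mul_apply', mul_apply', hg', hd, map_smul, hg]⟩
  let φ : (N ⧸ A') ≃* (N ⧸ A') := QuotientGroup.congr A' A' (MulAut.conjNormal g) (by
    ext a
    rw [Subgroup.mem_map]
    constructor
    · rintro ⟨b, hb, rfl⟩
      exact hAg g hx b hb
    · intro ha
      refine ⟨MulAut.conjNormal g⁻¹ a, hAg g⁻¹ hx' a ha, ?_⟩
      ext; simp [mul_assoc])
  have hφt : ∀ t : N, φ t = (MulAut.conjNormal g t : N) := fun t => rfl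
  have hgt : ∀ t : N, ρ g (ρ t x) = ρ (MulAut.conjNormal g t : N) x := fun t => by
    rw [MulAut.conjNormal_apply, mul_apply', mul_apply', hx']
  have hd : ∀ l, ∃ d : F, d ^ r = 1 ∧ ρ g (δ l) = d • δ (φ l) := fun l => by
    obtain ⟨d, h1, h2⟩ := hrel (MulAut.conjNormal g l.out) (φ l) (by
      rw [← hφt, QuotientGroup.out_eq'])
    exact ⟨d, h1, by rw [← h2, ← hgt]⟩
  choose d hdr hd using hd
  have hcd : ∀ l, c l * d l = c (φ l) := by
    have h1 : ∑ l, (c l * d l - c (φ l)) • δ (φ l) = 0 := by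
      simp only [sub_smul, Finset.sum_sub_distrib]
      rw [show ∑ l, c (φ l) • δ (φ l) = ∑ l, c l • δ l from
        Equiv.sum_comp φ.toEquiv (fun l => c l • δ l), ← hy, map_sum, sub_eq_zero]
      refine Finset.sum_congr rfl fun l _ => ?_
      rw [map_smul, hd, smul_smul]
    have := Fintype.linearIndependent_iff.1 (hli.comp φ φ.injective) _ h1
    exact fun l => sub_eq_zero.1 (this l)
  have hcφ : ∀ l, c (φ l) = c l := fun l => by
    rw [← hcr (φ l), ← hcd, mul_pow, hdr, hcr, mul_one]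
  have hφ1 := hφ φ (fun l => by rw [hc1, hc1, hcφ]) (fun l => by rw [hc2, hc2, hcφ])
  have good : ∀ t : N, (t : N ⧸ A') ∉ B₂ → ρ g (ρ t x) = ρ t x := by
    intro t ht
    obtain ⟨e, -, he⟩ := hrel t _ rfl
    have h1 := hcd t
    rw [hφ1] at h1
    have h3 : d t = 1 := mul_left_cancel₀ (fun h => ht ((hc2 _).2 h)) (by rw [h1, mul_one])
    rw [he, map_smul, hd, h3, hφ1, one_smul]
  have : LinearMap.eqLocus (ρ g) 1 = ⊤ := hi.eq_of_orbit hx0 (fun t ht => by
    rw [LinearMap.mem_eqLocus, Module.End.one_apply]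
    lift t to N using ht
    obtain ⟨σ, hσ⟩ : ∃ σ : N ⧸ A', σ ∉ B₂ ∧ t * σ ∉ B₂ ∧ σ⁻¹ ∉ B₂ ∧ t * σ⁻¹ ∉ B₂ := by
      by_contra hcon
      have hsub : (Set.univ : Set (N ⧸ A')) ⊆ B₂ ∪ (fun b => (t : N ⧸ A')⁻¹ * b) '' B₂ ∪
          (fun b => b⁻¹) '' B₂ ∪ (fun b => b⁻¹ * t) '' B₂ := by
        intro σ _
        by_contra hn
        simp only [Set.mem_union, Set.mem_image, not_or, not_exists, not_and] at hn
        exact hcon ⟨σ, hn.1.1.1, fun h => hn.1.1.2 _ h (by simp), fun h => hn.1.2 _ h (by simp),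
          fun h => hn.2 _ h (by simp)⟩
      have h1 := Set.ncard_le_ncard hsub
      rw [Set.ncard_univ] at h1
      have h2 := Set.ncard_union_le (B₂ ∪ (fun b => (t : N ⧸ A')⁻¹ * b) '' B₂ ∪
          (fun b => b⁻¹) '' B₂) ((fun b => b⁻¹ * t) '' B₂)
      have h3 := Set.ncard_union_le (B₂ ∪ (fun b => (t : N ⧸ A')⁻¹ * b) '' B₂)
          ((fun b => b⁻¹) '' B₂)
      have h4 := Set.ncard_union_le B₂ ((fun b => (t : N ⧸ A')⁻¹ * b) '' B₂)
      have h5 := Set.ncard_image_le (s := B₂) (f := fun b => (t : N ⧸ A')⁻¹ * b)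
      have h6 := Set.ncard_image_le (s := B₂) (f := fun b => b⁻¹)
      have h7 := Set.ncard_image_le (s := B₂) (f := fun b => b⁻¹ * t)
      omega
    obtain ⟨s, rfl⟩ := QuotientGroup.mk_surjective σ
    have ha : (t : Γ)⁻¹ * (g * t * g⁻¹) ∈ A x := by
      have := hφ1 t
      rw [hφt, eq_comm, QuotientGroup.eq, Subgroup.mem_subgroupOf] at this
      exact this
    set a := (t : Γ)⁻¹ * (g * t * g⁻¹) with hadef
    have key : ∀ u : N, ρ g (ρ u x) = ρ u x → ρ g (ρ (t * u : N) x) = ρ (t * u : N) x →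
        ρ (a * u) x = ρ u x := by
      intro u h1 h2
      rw [mul_apply', ← h1, ← mul_apply', hadef, mul_assoc, inv_mul_cancel_right, mul_apply',
        mul_apply', ← mul_apply' ρ t, ← Subgroup.coe_mul, h2, h1, Subgroup.coe_mul, mul_apply',
        inv_apply_apply]
    have k1 := key s (good s hσ.1) (good _ hσ.2.1)
    have k2 := key s⁻¹ (good _ hσ.2.2.1) (good _ hσ.2.2.2)
    obtain ⟨κ, hκ⟩ := h.comm a ha.1 s s.2
    have hκ' : ρ ((s : Γ)⁻¹ * a) = κ • ρ (a * (s : Γ)⁻¹) := by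
      have := congrArg (fun f => ρ (s : Γ)⁻¹ * f * ρ (s : Γ)⁻¹) hκ
      simp only [mul_smul_comm, smul_mul_assoc, ← map_mul] at this
      simpa [mul_assoc] using this
    have hχa := hχ ⟨a, ha⟩
    simp only at hχa
    have e1 : κ * χ ⟨a, ha⟩ = 1 := by
      rw [hκ, LinearMap.smul_apply, mul_apply', hχa, map_smul, smul_smul] at k1
      exact smul_left_injective F (fun h => hx0 ((apply_eq_zero ρ s).1 h)) (by
        show _ = (1 : F) • _
        rw [one_smul]; exact k1)
    have e2 : χ ⟨a, ha⟩ = κ := by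
      have := LinearMap.congr_fun hκ' x
      rw [LinearMap.smul_apply, mul_apply', hχa, map_smul] at this
      rw [Subgroup.coe_inv] at k2
      rw [k2] at this
      exact smul_left_injective F (fun h => hx0 ((apply_eq_zero ρ _).1 h)) this
    have e3 : χ ⟨a, ha⟩ = 1 := by
      obtain ⟨k, hk⟩ := hodd
      have := hχr ⟨a, ha⟩
      rw [← e2] at e1
      rw [hk, pow_succ, pow_mul, sq, e1, one_pow, one_mul] at this
      exact this
    rw [e3, one_smul] at hχa
    rw [hgt, MulAut.conjNormal_apply]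
    conv_rhs => rw [← hχa, ← mul_apply', hadef, mul_inv_cancel_left])
  exact LinearMap.eqLocus_eq_top.1 this

end Cfsg.B2
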