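import Cfsg.Agent.B2.SympCore

/-! S4621, piece E: counting involutions over a symplectic chief factor. -/

set_option autoImplicit false

namespace Cfsg.B2

open scoped Pointwise
open Sp

theorem Sp.ncard_le_mul {α β : Type} [Finite α] [Finite β] (f : α → β) {s : Set α} {t : Set β}
    {c : ℕ} (h1 : ∀ a ∈ s, f a ∈ t) (h2 : ∀ y ∈ t, {a | a ∈ s ∧ f a = y}.ncard ≤ c) :
    s.ncard ≤ t.ncard * c := by
  classical
  rw [Set.ncard_eq_toFinset_card s, Set.ncard_eq_toFinset_card t, mul_comm]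
  refine Finset.card_le_mul_card_image_of_maps_to (f := f) (by simpa using h1) c fun y hy => ?_
  refine le_trans ?_ (h2 y (by simpa using hy))
  rw [← Set.ncard_coe_finset]
  exact Set.ncard_le_ncard (fun a ha => by simpa using ha) (Set.toFinite _)

theorem symp_count {Γ : Type} [Group Γ] [Finite Γ] (hs : Group.IsSolvable Γ) {W : Subgroup Γ}
    [W.Normal] (b : Γ → Γ → ZMod 2) {n p : ℕ} (hW2 : ∀ x ∈ W, x * x = 1)
    (hmin : ∀ Y ≤ W, Y.Normal → Y = ⊥ ∨ Y = W)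
    (hC : Subgroup.centralizer (W : Set Γ) ≤ W)
    (badd : ∀ x ∈ W, ∀ y ∈ W, ∀ z ∈ W, b (x * y) z = b x z + b y z)
    (bsymm : ∀ x ∈ W, ∀ y ∈ W, b x y = b y x) (balt : ∀ x ∈ W, b x x = 0)
    (bnd : ∀ x ∈ W, (∀ y ∈ W, b x y = 0) → x = 1)
    (binv : ∀ g, ∀ x ∈ W, ∀ y ∈ W, b (g * x * g⁻¹) (g * y * g⁻¹) = b x y)
    (hprim : ∀ Y : Subgroup Γ, Y < W → Y ≠ ⊥ → (∀ x ∈ Y, (∀ y ∈ Y, b x y = 0) → x = 1) →
      ∃ g, MulAut.conj g • Y ≠ Y ∧ ∃ x ∈ Y, ∃ y ∈ Y, b x (g * y * g⁻¹) ≠ 0)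
    (hn : Nat.card W = 4 ^ n) (hn2 : 2 ≤ n) (hp : p.Prime) (hp2 : p ≠ 2)
    (hpG : ¬ p ∣ Nat.card Γ) :
    6 * Nat.card Γ + 4 * {g | g ∉ W ∧ g * g = 1 ∧ ∀ w ∈ W, b w (g * w * g⁻¹) = 0}.ncard *
        p ^ 2 ^ (n - 1) ≤ 3 * (p ^ 2 ^ (n - 1)) ^ 2 ∨
      (n = 2 ∧ p = 3 ∧ (∀ g, g * g = 1 → (∀ w ∈ W, b w (g * w * g⁻¹) = 0) → g ∈ W) ∧
        Nat.card Γ ≤ 320 ∧ {g : Γ | g * g = 1}.ncard ≤ 36 ∧
        ∀ l, l.Prime → l ∣ Nat.card Γ → l = 2 ∨ l = 5) := by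
  have hinv : ∀ x ∈ W, x⁻¹ = x := fun x hx => inv_eq_of_mul_eq_one_left (hW2 x hx)
  have hWc : ∀ x ∈ W, ∀ y ∈ W, x * y = y * x := fun x hx y hy => by
    rw [← hinv _ (W.mul_mem hx hy), mul_inv_rev, hinv x hx, hinv y hy]
  let _ : CommGroup W := { (inferInstance : Group W) with
    mul_comm := fun x y => Subtype.ext (hWc x x.2 y y.2) }
  let ρ : Γ ⧸ W →* MulAut W := QuotientGroup.lift W MulAut.conjNormal fun x hx =>
    MulEquiv.ext fun y => Subtype.ext (by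
      rw [MulAut.conjNormal_apply, hWc x hx y y.2, mul_inv_cancel_right]; rfl)
  let _ : DistribMulAction (Γ ⧸ W) (Additive W) :=
    { smul := fun s v => Additive.ofMul (ρ s v.toMul)
      one_smul := fun v => by change Additive.ofMul (ρ 1 _) = _; rw [map_one]; rfl
      mul_smul := fun s t v => by change Additive.ofMul (ρ (s * t) _) = _; rw [map_mul]; rfl
      smul_zero := fun s => congrArg Additive.ofMul (map_one (ρ s))
      smul_add := fun s v w => congrArg Additive.ofMul (map_mul (ρ s) v.toMul w.toMul) }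
  have hρ : ∀ (g : Γ) (v : Additive W),
      ((((g : Γ ⧸ W) • v).toMul : W) : Γ) = g * (v.toMul : W) * g⁻¹ := fun g v => rfl
  let β : Additive W →+ Additive W →+ ZMod 2 := AddMonoidHom.mk'
    (fun x => AddMonoidHom.mk' (fun y => b (x.toMul : W) (y.toMul : W)) fun y z => by
      rw [bsymm _ x.toMul.2 _ (y + z).toMul.2, bsymm _ x.toMul.2 _ y.toMul.2,
        bsymm _ x.toMul.2 _ z.toMul.2]
      exact badd _ y.toMul.2 _ z.toMul.2 _ x.toMul.2)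
    fun x y => AddMonoidHom.ext fun z => badd _ x.toMul.2 _ y.toMul.2 _ z.toMul.2
  let up : AddSubgroup (Additive W) → Subgroup Γ := fun Y =>
    (Subgroup.toAddSubgroup.symm Y).map W.subtype
  have hup : ∀ Y (v : Additive W), ((v.toMul : W) : Γ) ∈ up Y ↔ v ∈ Y := fun Y v =>
    Subgroup.mem_map_iff_mem W.subtype_injective
  have hupW : ∀ Y, up Y ≤ W := fun Y => Subgroup.map_subtype_le _
  have h0 : ∀ Y, up Y = ⊥ → Y = ⊥ := fun Y e => eq_bot_iff.2 fun v hv =>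
    Subtype.ext (Subgroup.mem_bot.1 (e.le ((hup Y v).2 hv)))
  have h1 : ∀ Y, up Y = W → Y = ⊤ := fun Y e => eq_top_iff.2 fun v _ => (hup Y v).1 (e.ge v.toMul.2)
  have h : Setup (Γ ⧸ W) β :=
    { solv := inferInstance
      faith := fun s e => by
        obtain ⟨g, rfl⟩ := QuotientGroup.mk_surjective s
        refine (QuotientGroup.eq_one_iff g).2 (hC fun x hx => ?_)
        have h2 := (hρ g (Additive.ofMul ⟨x, hx⟩)).symm
        rw [e] at h2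
        exact (mul_inv_eq_iff_eq_mul.1 h2).symm
      irr := fun Y hY => (hmin (up Y) (hupW Y) ⟨by
        rintro _ ⟨x, hx, rfl⟩ g
        exact (hup Y _).2 (hY g (Additive.ofMul x) hx)⟩).imp (h0 Y) (h1 Y)
      alt := fun v => balt _ v.toMul.2
      nd := fun v e => Subtype.ext (bnd _ v.toMul.2 fun y hy => e (Additive.ofMul ⟨y, hy⟩))
      inv := fun s v w => by
        obtain ⟨g, rfl⟩ := QuotientGroup.mk_surjective s
        exact binv g _ v.toMul.2 _ w.toMul.2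
      prim := fun Y h2 h3 h4 => by
        obtain ⟨g, hg, _, ⟨x, hx, rfl⟩, _, ⟨y, hy, rfl⟩, e⟩ := hprim (up Y)
          ((hupW Y).lt_of_ne (mt (h1 Y) h2)) (mt (h0 Y) h3) (by
            rintro _ ⟨x, hx, rfl⟩ e
            exact congrArg Subtype.val (h4 (Additive.ofMul x) hx fun y hy => e _ ((hup Y y).2 hy)))
        refine ⟨g, fun h5 => hg ?_, Additive.ofMul x, hx, Additive.ofMul y, hy, e⟩
        refine Subgroup.eq_of_le_of_card_ge ?_ (Nat.card_congr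
          (Subgroup.equivSMul (MulAut.conj g) (up Y)).toEquiv).le
        rintro _ ⟨_, ⟨z, hz, rfl⟩, rfl⟩
        exact (hup Y _).2 ((h5 (Additive.ofMul z)).2 hz) }
  have hΓ : Nat.card Γ = 4 ^ n * Nat.card (Γ ⧸ W) := by
    rw [Subgroup.card_eq_card_quotient_mul_card_subgroup W, hn, mul_comm]
  have hfib : ∀ (s : Set Γ) (t : Γ ⧸ W), (∀ g ∈ s, g * g = 1) →
      {g | g ∈ s ∧ (g : Γ ⧸ W) = t}.ncard ≤ Nat.card (fix (Additive W) t) := fun s t hs' => by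
    rcases {g | g ∈ s ∧ (g : Γ ⧸ W) = t}.eq_empty_or_nonempty with e | ⟨g₀, hg₀, rfl⟩
    · simp [e]
    refine Nat.card_le_card_of_injective (α := {g | g ∈ s ∧ (g : Γ ⧸ W) = g₀})
      (fun g => ⟨Additive.ofMul ⟨g₀⁻¹ * g, QuotientGroup.eq.1 g.2.2.symm⟩, Subtype.ext ?_⟩)
      fun g g' e => Subtype.ext (mul_left_cancel (a := g₀⁻¹)
        (congrArg (fun v : fix (Additive W) (g₀ : Γ ⧸ W) => ((v.1.toMul : W) : Γ)) e))
    change g₀ * (g₀⁻¹ * g) * g₀⁻¹ = g₀⁻¹ * g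
    rw [mul_inv_cancel_left, ← hinv _ (QuotientGroup.eq.1 g.2.2.symm), mul_inv_rev, inv_inv,
      inv_eq_of_mul_eq_one_left (hs' _ g.2.1), inv_eq_of_mul_eq_one_left (hs' _ hg₀)]
  have hA : ∀ g, g ∉ W → g * g = 1 → (∀ w ∈ W, b w (g * w * g⁻¹) = 0) →
      (g : Γ ⧸ W) ∈ tA (Γ ⧸ W) β := fun g h2 h3 h4 => ⟨mt (QuotientGroup.eq_one_iff g).1 h2, by
    rw [← QuotientGroup.mk_mul, h3, QuotientGroup.mk_one], fun w => h4 _ w.toMul.2⟩
  rcases h.core (V := Additive W) hn hn2 hp hp2 (mt (fun e => hΓ ▸ e.mul_left _) hpG) with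
    ⟨c, h2, h3⟩ | h2 | ⟨rfl, rfl, h2, h3, h4, h5, h6⟩
  · refine .inl (le_trans ?_ h3)
    have := ncard_le_mul (s := {g | g ∉ W ∧ g * g = 1 ∧ ∀ w ∈ W, b w (g * w * g⁻¹) = 0})
      QuotientGroup.mk (fun g hg => hA g hg.1 hg.2.1 hg.2.2)
      fun t ht => (hfib _ t fun g hg => hg.2.1).trans (h2 t ht)
    rw [hΓ]
    gcongr
  · have h3 := {g | g ∉ W ∧ g * g = 1 ∧ ∀ w ∈ W, b w (g * w * g⁻¹) = 0}.ncard_le_card
    have h4 : 3 ≤ p ^ 2 ^ (n - 1) := le_trans (by have := hp.two_le; omega)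
      (Nat.le_self_pow (Nat.two_pow_pos _).ne' p)
    rw [← hΓ] at h2
    left
    nlinarith [Nat.mul_le_mul_right (p ^ 2 ^ (n - 1)) h3, Nat.mul_le_mul_right (p ^ 2 ^ (n - 1)) h2,
      Nat.mul_le_mul_right (p ^ 2 ^ (n - 1)) h4]
  · refine .inr ⟨rfl, rfl, fun g h7 h8 => by_contra fun h9 => ?_, by omega, ?_, fun l hl e => ?_⟩
    · exact h2.le (hA g h9 h7 h8)
    · have h7 := ncard_le_mul (s := {g : Γ | g ∉ W ∧ g * g = 1})
        (t := {t : Γ ⧸ W | t ≠ 1 ∧ t * t = 1}) QuotientGroup.mk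
        (fun g hg => ⟨mt (QuotientGroup.eq_one_iff g).1 hg.1, by
          rw [← QuotientGroup.mk_mul, hg.2, QuotientGroup.mk_one]⟩)
        fun t ht => (hfib _ t fun g hg => hg.2).trans (h5 t ht.1 ht.2)
      have h8 := (Set.ncard_le_ncard (s := {g : Γ | g * g = 1}) (fun g hg => by
        by_cases h9 : g ∈ W
        exacts [.inl h9, .inr ⟨h9, hg⟩]) (Set.toFinite _)).trans
          (Set.ncard_union_le (W : Set Γ) {g : Γ | g ∉ W ∧ g * g = 1})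
      have h9 : (W : Set Γ).ncard = 4 ^ 2 := hn
      omega
    · rw [hΓ] at e
      exact ((Nat.Prime.dvd_mul hl).1 e).elim (fun e => .inl ((Nat.prime_dvd_prime_iff_eq hl
        Nat.prime_two).1 (hl.dvd_of_dvd_pow (n := 4) e))) (h6 l hl)

end Cfsg.B2
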