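import Cfsg.Agent.B2.SympHeis

/-! The numerical case analysis (S4621, piece E). -/

set_option autoImplicit false

namespace Cfsg.B2.Sp

open Finset

variable {V : Type} [AddCommGroup V] {S : Type} [Group S] [DistribMulAction S V]

/-- involutions of type `a` -/
def tA (S : Type) [Group S] [DistribMulAction S V] (b : V →+ V →+ ZMod 2) : Set S :=
  {t | t ≠ 1 ∧ t * t = 1 ∧ ∀ w, b w (t • w) = 0}

variable {b : V →+ V →+ ZMod 2} [Finite V] [Finite S] {U : Subgroup S} [U.Normal]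

theorem Setup.dlt_eq_zero (h : Setup S b) {t : S} (ht : t * t = 1) {w : V} :
    dlt V t w = 0 ↔ ∀ x ∈ (dlt V t).range, b w x = 0 :=
  ⟨fun e => by rintro _ ⟨x, rfl⟩; rw [h.b_dlt ht, e, map_zero, AddMonoidHom.zero_apply],
    fun e => h.nd _ fun x => by rw [← h.b_dlt ht, e _ ⟨x, rfl⟩]⟩

theorem Setup.card_fix_three (h : Setup S b) (hn : Nat.card V = 4 ^ 3) {t : S} (ht : t ∈ tA S b) :
    Nat.card (fix V t) = 16 := by
  obtain ⟨k, hk⟩ := h.card_fix_typeA ht.2.1 ht.2.2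
  have h1 := h.le_card_fix ht.2.1 hn
  rw [hn] at hk
  match k with
  | 0 =>
    have h2 := AddSubgroup.eq_top_of_card_eq (fix V t) (by omega)
    exact absurd (h.faith t fun v => h2.ge (AddSubgroup.mem_top v)) ht.1
  | 1 => omega
  | k + 2 =>
    have := Nat.mul_le_mul (Nat.pow_le_pow_right (n := 4) (by omega) (Nat.le_add_left 2 k)) h1
    omega

theorem Setup.mem_cent_three (h : Setup S b) (hc : Comm U) (hn : Nat.card V = 4 ^ 3) {t : S}
    (ht : t ∈ tA S b) : t ∈ Subgroup.centralizer (U : Set S) := by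
  by_contra h1
  obtain ⟨u, hu, h2, h3⟩ := exists_inverted ht.2.1 h1
  have := h.card_fix_le hc hu h2 h3 hn
  rw [h.card_fix_three hn ht] at this
  omega

theorem Setup.ncard_tA_three (h : Setup S b) (hc : Comm U) (hU : Nat.card U = 3)
    (hn : Nat.card V = 4 ^ 3) : (tA S b).ncard ≤ 9 := by
  classical
  obtain ⟨⟨z, hz⟩, h0⟩ := Subgroup.ne_bot_iff_exists_ne_one.1
    ((Subgroup.one_lt_card_iff_ne_bot U).1 (by omega))
  obtain ⟨h1, h2, h3⟩ := h.quad hc hz (fun e => h0 (Subtype.ext e)) hn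
  have h4 : ({v : V | b v (z • v) = 0} \ {0}).ncard = 27 := by
    rw [Set.ncard_diff_singleton_of_mem (by simp)]
    rw [hU] at h1
    generalize {v : V | b v (z • v) = 0}.ncard = c at *
    generalize {v : V | b v (z • v) = 1}.ncard = d at *
    omega
  have hT : ∀ t ∈ tA S b, Nat.card (dlt V t).range = 4 := fun t ht => by
    have := h.card_fix_mul t
    rw [h.card_fix_three hn ht] at this
    omega
  have hI : ∀ t ∈ tA S b, ∀ u ∈ U, ∀ v ∈ (dlt V t).range, u • v ∈ (dlt V t).range := by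
    rintro t ht u hu _ ⟨v, rfl⟩
    exact ⟨u • v, by
      rw [dlt_apply, dlt_apply, smul_add, ← mul_smul, ← mul_smul, h.mem_cent_three hc hn ht u hu]⟩
  have h5 := card_mul_le_card_mul (fun t v => v ∈ (dlt V t).range)
    (s := (tA S b).toFinite.toFinset) (t := ({v : V | b v (z • v) = 0} \ {0}).toFinite.toFinset)
    (m := 3) (n := 1) (fun t ht => ?_) fun v hv => card_le_one.2 fun t ht t' ht' => ?_
  · rw [← Set.ncard_eq_toFinset_card, ← Set.ncard_eq_toFinset_card] at h5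
    omega
  · rw [Set.Finite.mem_toFinset] at ht
    have h6 : (((dlt V t).range : Set V) \ {0}).ncard = 3 := by
      rw [Set.ncard_diff_singleton_of_mem (zero_mem _)]
      exact congrArg (· - 1) (hT t ht)
    rw [← h6, ← Set.ncard_coe_finset]
    refine Set.ncard_le_ncard (fun v hv => ?_) (Set.toFinite _)
    simp only [coe_bipartiteAbove, Set.Finite.mem_toFinset, Set.Finite.coe_toFinset]
    exact ⟨⟨(h.dlt_eq_zero ht.2.1).1 (h.ker_dlt t ▸ range_dlt_le ht.2.1 hv.1 :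
      v ∈ (dlt V t).ker) _ (hI t ht z hz v hv.1), hv.2⟩, hv.1⟩
  · simp only [mem_bipartiteBelow, Set.Finite.mem_toFinset] at ht ht' hv
    have h6 : ∀ t ∈ tA S b, ∀ t' ∈ tA S b, v ∈ (dlt V t).range → v ∈ (dlt V t').range →
        (dlt V t).range ≤ (dlt V t').range := fun t ht t' ht' e e' =>
      ((h.free hc).le_of_card (inf_le_left : _ ⊓ (dlt V t').range ≤ _) ⟨e, e'⟩ hv.2
        (fun u hu v hv => ⟨hI t ht u hu v hv.1, hI t' ht' u hu v hv.2⟩)
        (by rw [hT t ht, hU])).ge.trans inf_le_right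
    have h7 := (h6 t ht.1 t' ht'.1 ht.2 ht'.2).antisymm (h6 t' ht'.1 t ht.1 ht'.2 ht.2)
    have h8 : ∀ w, dlt V t w = dlt V t' w := fun w => by
      have h9 : dlt V t w = 0 ↔ dlt V t' w = 0 := by
        rw [h.dlt_eq_zero ht.1.2.1, h.dlt_eq_zero ht'.1.2.1, h7]
      by_contra h10
      have h11 : dlt V t w ≠ 0 := fun e => h10 (e.trans (h9.1 e).symm)
      have h12 : 2 < Nat.card ↥((dlt V t).range ⊓ (b w).ker) :=
        (Set.two_lt_ncard (Set.toFinite _)).2 ⟨0, zero_mem _, dlt V t w, ⟨⟨w, rfl⟩, by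
          change b w (w + t • w) = 0
          rw [map_add, h.alt, ht.1.2.2, add_zero]⟩, dlt V t' w, ⟨h7.ge ⟨w, rfl⟩, by
          change b w (w + t' • w) = 0
          rw [map_add, h.alt, ht'.1.2.2, add_zero]⟩, h11.symm, Ne.symm (mt h9.2 h11), h10⟩
      have h13 := AddSubgroup.card_dvd_of_le (inf_le_left : (dlt V t).range ⊓ (b w).ker ≤ _)
      have h14 := AddSubgroup.eq_of_le_of_card_ge (inf_le_left : (dlt V t).range ⊓ (b w).ker ≤ _) (by
        rw [hT t ht.1] at h13 ⊢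
        have := Nat.le_of_dvd (by omega) h13
        generalize Nat.card ↥((dlt V t).range ⊓ (b w).ker) = m at *
        interval_cases m <;> omega)
      exact h11 ((h.dlt_eq_zero ht.1.2.1).2 fun x hx => (h14.ge hx).2)
    exact inv_mul_eq_one.1 (h.faith _ fun w => by
      rw [mul_smul, inv_smul_eq_iff]; exact (add_left_cancel (h8 w)).symm)

omit [Finite V] in
theorem inverts_all (hp : (Nat.card U).Prime) {t : S} (ht : t * t = 1)
    (h : t ∉ Subgroup.centralizer (U : Set S)) : ∀ x ∈ U, t * x = x⁻¹ * t := by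
  obtain ⟨u, hu, h1, h2⟩ := exists_inverted ht h
  have h3 := Subgroup.eq_of_le_of_card_ge (Subgroup.zpowers_le.2 hu) (by
    rw [Nat.card_zpowers, (hp.dvd_iff_eq (mt orderOf_eq_one_iff.1 h1)).1
      (U.orderOf_dvd_natCard hu)])
  intro x hx
  obtain ⟨i, rfl⟩ := h3.ge hx
  exact ((show SemiconjBy t u u⁻¹ from h2).zpow_right i).eq.trans (by rw [inv_zpow])

theorem Setup.not_mem_cent (h : Setup S b) (hc : Comm U)
    (hC : Subgroup.centralizer (U : Set S) ≤ U) {t : S} (h1 : t ≠ 1) (ht : t * t = 1) :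
    t ∉ Subgroup.centralizer (U : Set S) := fun e => h1 (h.eq_one_of_sq hc (hC e) ht)

theorem Setup.ncard_invol (h : Setup S b) (hc : Comm U) (hC : Subgroup.centralizer (U : Set S) ≤ U)
    (hp : (Nat.card U).Prime) : {t : S | t ≠ 1 ∧ t * t = 1}.ncard ≤ Nat.card U := by
  rcases {t : S | t ≠ 1 ∧ t * t = 1}.eq_empty_or_nonempty with e | ⟨s, hs⟩
  · simp [e]
  refine Set.ncard_le_ncard_of_injOn (s * ·) (t := U) (fun t ht => hC fun x hx => ?_)
    (fun _ _ _ _ => mul_left_cancel) (Set.toFinite _)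
  rw [mul_assoc, inverts_all hp ht.2 (h.not_mem_cent hc hC ht.1 ht.2) x hx, ← mul_assoc,
    ← mul_assoc, inverts_all hp hs.2 (h.not_mem_cent hc hC hs.1 hs.2) _ (U.inv_mem hx), inv_inv]

theorem Setup.tA_five (h : Setup S b) (hc : Comm U) (hC : Subgroup.centralizer (U : Set S) ≤ U)
    (hU : Nat.card U = 5) (hn : Nat.card V = 4 ^ 2) : tA S b = ∅ := by
  refine Set.eq_empty_of_forall_notMem fun t ht => ?_
  have h1 := inverts_all (hU ▸ Nat.prime_five) ht.2.1 (h.not_mem_cent hc hC ht.1 ht.2.1)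
  have : Nontrivial V := Finite.one_lt_card_iff_nontrivial.1 (by omega)
  obtain ⟨w, hw⟩ := exists_ne (0 : V)
  let K : AddSubgroup V :=
    { carrier := {v | ∀ x ∈ U, b (t • w) (x • v) = 0}
      add_mem' := fun ha hc x hx => by rw [smul_add, map_add, ha x hx, hc x hx, add_zero]
      zero_mem' := fun x _ => by rw [smul_zero, map_zero]
      neg_mem' := fun ha x hx => by rw [smul_neg, map_neg, ha x hx, neg_zero] }
  have h2 : w ∈ K := fun x hx => by
    have h3 : x ^ 5 = 1 := hU ▸ congrArg Subtype.val (pow_card_eq_one' (x := (⟨x, hx⟩ : U)))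
    have h4 : t * x = (x ^ 3)⁻¹ * t * x ^ 3 := by
      rw [← h1 _ (U.pow_mem hx 3), mul_assoc, ← pow_add, pow_succ x 5, h3, one_mul]
    rw [← h.inv t, ← mul_smul, ht.2.1, one_smul, ← mul_smul, h4, ← h.inv (x ^ 3), mul_smul,
      mul_smul, smul_inv_smul, ht.2.2]
  have h3 := (h.free hc).dvd K fun u hu v hv x hx => by
    rw [← mul_smul]; exact hv _ (U.mul_mem hx hu)
  have h4 : 1 < Nat.card K := (AddSubgroup.one_lt_card_iff_ne_bot K).2 fun e =>
    hw (AddSubgroup.mem_bot.1 (e.le h2))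
  have h5 := K.card_addSubgroup_dvd_card
  rw [hn] at h5
  rw [hU] at h3
  have h6 : K = ⊤ := AddSubgroup.eq_top_of_card_eq K (by
    have := Nat.le_of_dvd (by omega) h5
    rw [hn]
    generalize Nat.card K = k at *
    interval_cases k <;> omega)
  exact hw ((smul_eq_zero_iff_eq t).1 (h.nd _ fun v => by
    simpa using h6.ge (AddSubgroup.mem_top v) 1 U.one_mem))

theorem num_mono {G a Q₀ Q : ℕ} (h : 6 * G + 4 * a * Q₀ ≤ 3 * Q₀ ^ 2) (h0 : 0 < Q₀) (hQ : Q₀ ≤ Q) :
    6 * G + 4 * a * Q ≤ 3 * Q ^ 2 := by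
  obtain ⟨d, rfl⟩ := Nat.exists_eq_add_of_le hQ
  have h1 : 4 * a ≤ 3 * Q₀ := Nat.le_of_mul_le_mul_right (by nlinarith) h0
  nlinarith [Nat.mul_le_mul_right d h1]

theorem num_big {n : ℕ} (hn : 9 ≤ n) : 2 * (4 ^ n * (2 ^ (2 * n)) ^ (2 * n)) ≤ 3 ^ 2 ^ (n - 1) := by
  obtain ⟨m, rfl⟩ := Nat.exists_eq_add_of_le' hn
  have h1 : 1 + (2 * (m + 9) + 2 * (m + 9) * (2 * (m + 9))) ≤ 3 * 2 ^ (m + 7) := by
    induction m with
    | zero => norm_num
    | succ m ih =>
      have := ih (by omega)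
      rw [show m + 1 + 7 = m + 7 + 1 from rfl, pow_succ]
      nlinarith
  calc 2 * (4 ^ (m + 9) * (2 ^ (2 * (m + 9))) ^ (2 * (m + 9)))
      = 2 ^ (1 + (2 * (m + 9) + 2 * (m + 9) * (2 * (m + 9)))) := by
        rw [pow_add 2 1, pow_add 2 (2 * (m + 9)), pow_mul 2 (2 * (m + 9)), pow_mul 2 2]; rfl
    _ ≤ 2 ^ (3 * 2 ^ (m + 7)) := Nat.pow_le_pow_right (by omega) h1
    _ = 8 ^ 2 ^ (m + 7) := pow_mul 2 3 _
    _ ≤ 9 ^ 2 ^ (m + 7) := Nat.pow_le_pow_left (by omega) _
    _ = 3 ^ 2 ^ (m + 9 - 1) := by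
        rw [show m + 9 - 1 = m + 7 + 1 from rfl, pow_succ' 2 (m + 7), pow_mul]; rfl

theorem num_heis {l n k : ℕ} (hl : 2 ≤ l) (ho : Odd l) (h6 : 2 * n = k * l) (h8 : l ∣ 2 ^ k - 1)
    (hn2 : 2 ≤ n) (h9 : ¬ 9 ≤ n) : l = 3 ∧ (n = 3 ∧ k = 2 ∨ n = 6 ∧ k = 4) := by
  have h1 := Nat.odd_iff.1 ho
  have h2 := Nat.mul_le_mul_left k (show 3 ≤ l by omega)
  have h3 : k ≤ 5 := by omega
  have h4 : l ≤ 16 := by interval_cases k <;> omega
  interval_cases k <;> interval_cases l <;> omega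

theorem Setup.core (h : Setup S b) {n p : ℕ} (hn : Nat.card V = 4 ^ n) (hn2 : 2 ≤ n)
    (hp : p.Prime) (hp2 : p ≠ 2) (hpS : ¬ p ∣ Nat.card S) :
    (∃ c, (∀ t ∈ tA S b, Nat.card (fix V t) ≤ c) ∧
      6 * (4 ^ n * Nat.card S) + 4 * ((tA S b).ncard * c) * p ^ 2 ^ (n - 1) ≤
        3 * (p ^ 2 ^ (n - 1)) ^ 2) ∨
    2 * (4 ^ n * Nat.card S) ≤ p ^ 2 ^ (n - 1) ∨
    (n = 2 ∧ p = 3 ∧ tA S b = ∅ ∧ Nat.card S ≤ 20 ∧ {t : S | t ≠ 1 ∧ t * t = 1}.ncard ≤ 5 ∧
      (∀ t : S, t ≠ 1 → t * t = 1 → Nat.card (fix V t) ≤ 4) ∧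
      ∀ l, l.Prime → l ∣ Nat.card S → l = 2 ∨ l = 5) := by
  have hp3 : 3 ≤ p := by have := hp.two_le; omega
  have hp5 : 3 ∣ Nat.card S → 5 ≤ p := fun e => hp.five_le_of_ne_two_of_ne_three hp2 fun e' =>
    hpS (e' ▸ e)
  have hQ : ∀ {q : ℕ}, q ≤ p → q ^ 2 ^ (n - 1) ≤ p ^ 2 ^ (n - 1) := fun e => Nat.pow_le_pow_left e _
  by_cases h9 : 9 ≤ n
  · refine .inr (.inl (le_trans ?_ ((num_big h9).trans (hQ hp3))))
    have := card_end_le h.two (k := 2 * n) (by rw [hn, pow_mul]; rfl)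
      (fun s : S => DistribSMul.toAddMonoidHom V s) fun s s' e => inv_mul_eq_one.1 (h.faith _
        fun v => by rw [mul_smul, inv_smul_eq_iff]; exact (DFunLike.congr_fun e v).symm)
    gcongr
  have hV : 16 ≤ Nat.card V := hn ▸ Nat.pow_le_pow_right (n := 4) (by omega) hn2
  have hV1 : Nontrivial V := Finite.one_lt_card_iff_nontrivial.1 (by omega)
  obtain ⟨U, -, ⟨hU, hc⟩, hmax⟩ := Finite.exists_le_maximal
    (p := fun U : Subgroup S => U.Normal ∧ Comm U) (a := ⊥)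
    ⟨inferInstance, fun a ha c _ => by rw [Subgroup.mem_bot.1 ha, one_mul, mul_one]⟩
  obtain ⟨u, hu⟩ := (Subgroup.isCyclic_iff_exists_zpowers_eq_top U).1 ((h.free hc).isCyclic hc)
  have hodd := h.odd hc le_rfl
  have hUS := U.card_subgroup_dvd_card
  by_cases hC : Subgroup.centralizer (U : Set S) ≤ U
  swap
  · obtain ⟨X, l, a, y, z, H⟩ := exists_heisData h.solv hu (fun M h1 h2 => hmax ⟨h1, h2⟩) hodd hC
    have h1 := (h.decomp hc H).1
    have h2 := (h.free hc).dvd (fix V a) fun x hx v hv => by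
      rw [mem_fix, ← mul_smul, H.cent a H.ha x hx, mul_smul, mem_fix.1 hv]
    have h3 := h.card_dvd hc (fun e => H.ne (Subgroup.mem_bot.1 (e.le H.hz))) hn
    have h4 := H.dvd
    have h5 : Odd l := hodd.of_dvd_nat h4
    obtain ⟨k, -, hk⟩ := (Nat.dvd_prime_pow Nat.prime_two (m := 2 * n)).1
      ((fix V a).card_addSubgroup_dvd_card.trans (by rw [hn, pow_mul]; rfl))
    rw [hn, hk, ← pow_mul, show 4 = 2 ^ 2 from rfl, ← pow_mul] at h1
    have h6 := Nat.pow_right_injective le_rfl h1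
    have h7 := H.prime
    have h8 := h4.trans h2
    rw [hk] at h2 h8
    obtain ⟨rfl, h10⟩ := num_heis h7.two_le h5 h6 h8 hn2 h9
    have h11 := hQ (hp5 (h4.trans hUS))
    rcases h10 with ⟨rfl, rfl⟩ | ⟨rfl, rfl⟩
    · have h12 : Nat.card U = 3 := Nat.dvd_antisymm h2 h4
      have h13 := H.card_le (h.card_cent_le' hc H hk)
      have h14 := h.ncard_tA_three hc h12 hn
      rw [h12] at h13
      refine .inl ⟨16, fun t ht => (h.card_fix_three hn ht).le, num_mono ?_ (by norm_num) h11⟩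
      omega
    · have h12 : Nat.card U = 3 := by
        have := Nat.le_of_dvd (by norm_num) h2
        generalize Nat.card U = m at *
        interval_cases m <;> omega
      have h13 := H.card_le (h.card_cent_le hc H hk)
      rw [h12] at h13
      refine .inr (.inl (le_trans ?_ h11))
      omega
  have hu1 : u ≠ 1 := by
    rintro rfl
    rw [Subgroup.zpowers_one_eq_bot] at hu
    subst hu
    have h1 : ∀ s : S, s = 1 := fun s => Subgroup.mem_bot.1 (hC fun x hx => by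
      rw [Subgroup.mem_bot.1 hx, one_mul, mul_one])
    obtain ⟨v, hv⟩ := exists_ne (0 : V)
    have h2 : addOrderOf v = 2 := addOrderOf_eq_prime (by rw [two_nsmul, h.two]) hv
    rcases h.irr (AddSubgroup.zmultiples v) (fun s w hw => by rwa [h1 s, one_smul]) with e | e
    · exact hv (AddSubgroup.zmultiples_eq_bot.1 e)
    · rw [← AddSubgroup.card_top, ← e, Nat.card_zmultiples, h2] at hV
      omega
  have hU1 : U ≠ ⊥ := hu ▸ mt Subgroup.zpowers_eq_bot.1 hu1
  have hm := (Subgroup.one_lt_card_iff_ne_bot U).2 hU1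
  have h1 : U.index ≤ Nat.card U - 1 := by
    have h2 : Subgroup.centralizer {u} = U := le_antisymm (fun x hx => hC fun y hy => by
      obtain ⟨i, rfl⟩ := hu.ge hy
      exact (Commute.zpow_left (hx u rfl) i).eq) fun x hx =>
        Subgroup.mem_centralizer_singleton_iff.2 (hc x hx u (hu ▸ Subgroup.mem_zpowers u))
    have h3 := relIndex_centralizer_le ⊤ u (T := U \ {1}) (Set.toFinite _) fun g _ =>
      ⟨hU.conj_mem u (hu ▸ Subgroup.mem_zpowers u) g, fun e => hu1 (by simpa using e)⟩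
    rwa [h2, Subgroup.relIndex_top_right, Set.ncard_diff_singleton_of_mem U.one_mem] at h3
  have h2 := U.card_mul_index
  have h3 := h.card_dvd hc hU1 hn
  have h4 : ∀ t : S, t ≠ 1 → t * t = 1 → Nat.card (fix V t) ≤ 2 ^ n := fun t h4 h5 => by
    obtain ⟨x, hx, h6, h7⟩ := exists_inverted h5 (h.not_mem_cent hc hC h4 h5)
    exact h.card_fix_le hc hx h6 h7 hn
  have h5 : Nat.card U ≤ 2 ^ n + 1 := h3.elim (fun e => (Nat.le_of_dvd
    (Nat.sub_pos_of_lt (Nat.one_lt_two_pow (by omega))) e).trans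
      ((Nat.sub_le _ _).trans (Nat.le_succ _))) (Nat.le_of_dvd (Nat.succ_pos _))
  have h6 : Nat.card S ≤ (2 ^ n + 1) * 2 ^ n := h2 ▸ Nat.mul_le_mul h5 (by omega)
  have h7 := hQ hp3
  have h8 : (tA S b).ncard ≤ {t : S | t ≠ 1 ∧ t * t = 1}.ncard :=
    Set.ncard_le_ncard (fun t ht => ⟨ht.1, ht.2.1⟩) (Set.toFinite _)
  have h10 := (tA S b).ncard_le_card
  push Not at h9
  interval_cases n
  · have h11 : Nat.card U = 3 ∨ Nat.card U = 5 := by
      generalize Nat.card U = m at *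
      interval_cases m <;> omega
    rcases h11 with h11 | h11
    · have h12 := h.ncard_invol hc hC (h11 ▸ Nat.prime_three)
      rw [h11] at h1 h2 h12 hUS
      refine .inl ⟨4, fun t ht => h4 t ht.1 ht.2.1, num_mono ?_ (by norm_num) (hQ (hp5 hUS))⟩
      omega
    have h12 := h.ncard_invol hc hC (h11 ▸ Nat.prime_five)
    have h13 := h.tA_five hc hC h11 hn
    rw [h11] at h1 h2 h12 hUS
    by_cases h14 : p = 3
    · refine .inr (.inr ⟨rfl, h14, h13, h6, h12, h4, fun l hl e => ?_⟩)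
      rw [← h2] at e hpS
      subst h14
      refine ((Nat.Prime.dvd_mul hl).1 e).elim
        (fun e => .inr ((Nat.prime_dvd_prime_iff_eq hl Nat.prime_five).1 e)) fun e => .inl ?_
      refine (Nat.prime_dvd_prime_iff_eq hl Nat.prime_two).1 (hl.dvd_of_dvd_pow (n := 2)
        (e.trans ?_))
      generalize U.index = i at *
      interval_cases i <;> omega
    · refine .inl ⟨0, by simp [h13], num_mono ?_ (by norm_num) (hQ (q := 7) ?_)⟩
      · omega
      · have h15 := hp.five_le_of_ne_two_of_ne_three hp2 h14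
        have h16 : p ≠ 5 := fun e => hpS (e ▸ hUS)
        have h17 : p ≠ 6 := fun e => absurd (e ▸ hp) (by norm_num)
        omega
  · have h11 : tA S b = ∅ := Set.eq_empty_of_forall_notMem fun t ht =>
      h.not_mem_cent hc hC ht.1 ht.2.1 (h.mem_cent_three hc hn ht)
    refine .inl ⟨0, by simp [h11], ?_⟩
    by_cases h12 : 3 ∣ Nat.card S
    · refine num_mono ?_ (by norm_num) (hQ (hp5 h12))
      norm_num at h6 ⊢
      omega
    · have h13 := mt (dvd_trans · hUS) h12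
      have h14 : Nat.card U = 7 := by
        generalize Nat.card U = m at *
        interval_cases m <;> omega
      rw [h14] at h1 h2
      refine num_mono ?_ (by norm_num) h7
      omega
  · refine .inl ⟨16, fun t ht => h4 t ht.1 ht.2.1, num_mono ?_ (by norm_num) h7⟩
    omega
  all_goals exact .inr (.inl (le_trans (by omega) h7))

end Cfsg.B2.Sp
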