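import Mathlib

/-! Counting lemmas for forms over `ZMod 2` and for free actions (S4621, piece E). -/

set_option autoImplicit false

namespace Cfsg.B2.Sp

open Finset

/-- the nontrivial character of `ZMod 2` -/
def sg (a : ZMod 2) : ℤ := if a = 0 then 1 else -1

theorem sg_add (a c : ZMod 2) : sg (a + c) = sg a * sg c := by revert a c; decide

theorem sg_mul_self (a : ZMod 2) : sg a * sg a = 1 := by revert a; decide

theorem z2_eq_one {a : ZMod 2} (h : a ≠ 0) : a = 1 := by revert a; decide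

theorem z2_add_self (a : ZMod 2) : a + a = 0 := by revert a; decide

theorem z2_eq_of_add {a c : ZMod 2} (h : a + c = 0) : a = c := by revert a c; decide

variable {V : Type} [AddCommGroup V]

theorem sum_sg_eq_zero [Fintype V] (φ : V →+ ZMod 2) (h : φ ≠ 0) : ∑ v, sg (φ v) = 0 := by
  obtain ⟨w, hw⟩ := DFunLike.ne_iff.1 h
  have h1 : ∑ v, sg (φ (w + v)) = ∑ v, sg (φ v) :=
    Fintype.sum_equiv (Equiv.addLeft w) _ _ fun _ => rfl
  have h2 : sg (φ w) = -1 := if_neg hw
  simp only [map_add, sg_add, ← mul_sum, h2] at h1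
  omega

/-- the number of values `1` of a nondegenerate quadratic form -/
theorem card_quad [Finite V] (Q : V → ZMod 2) (B : V → V →+ ZMod 2)
    (hQ : ∀ v w, Q (v + w) = Q v + Q w + B w v) (hB : ∀ w, B w = 0 → w = 0) (h0 : Q 0 = 0)
    {n : ℕ} (hn : Nat.card V = 4 ^ n) :
    {v | Q v = 0}.ncard + {v | Q v = 1}.ncard = 4 ^ n ∧
    (2 * {v | Q v = 1}.ncard + 2 ^ n = 4 ^ n ∨ 2 * {v | Q v = 1}.ncard = 4 ^ n + 2 ^ n) := by
  classical
  cases nonempty_fintype V
  have hB0 : ∀ v, B 0 v = 0 := fun v => by simpa [h0] using hQ v 0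
  have h1 : (∑ v, sg (Q v)) * (∑ v, sg (Q v)) = ((2 : ℤ) ^ n) * 2 ^ n := by
    rw [sum_mul_sum]
    have h2 : ∀ v, ∑ w, sg (Q v) * sg (Q w) = ∑ w, sg (Q w) * sg (B w v) := fun v => by
      refine (Fintype.sum_equiv (Equiv.addLeft v) _ _ fun w => ?_).symm
      rw [Equiv.coe_addLeft, hQ, sg_add, sg_add, ← mul_assoc, ← mul_assoc, sg_mul_self, one_mul]
    simp only [h2]
    rw [sum_comm, sum_eq_single 0]
    · simp only [hB0, h0, sg, if_true, mul_one, sum_const, card_univ, nsmul_eq_mul]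
      rw [← Nat.card_eq_fintype_card, hn, ← mul_pow]
      norm_num
    · intro w _ hw
      rw [← mul_sum, sum_sg_eq_zero _ (mt (hB w) hw), mul_zero]
    · simp
  have h3 : {v | Q v = 0}.ncard + {v | Q v = 1}.ncard = 4 ^ n := by
    rw [← hn, ← Set.ncard_add_ncard_compl {v | Q v = 0}]
    congr 2
    ext v
    exact ⟨fun h h' => zero_ne_one (h'.symm.trans h), z2_eq_one⟩
  have h4 : ∑ v, sg (Q v) = ({v | Q v = 0}.ncard : ℤ) - {v | Q v = 1}.ncard := by
    have h5 : ∀ a : ZMod 2, sg a = (if a = 0 then 1 else 0) - (if a = 1 then 1 else 0) := by decide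
    simp only [h5, sum_sub_distrib, sum_boole, Set.ncard_eq_toFinset_card', Set.toFinset_setOf]
  refine ⟨h3, ?_⟩
  rw [h4, mul_self_eq_mul_self_iff] at h1
  have h6 : (({v | Q v = 0}.ncard : ℤ) + {v | Q v = 1}.ncard) = 4 ^ n := by exact_mod_cast h3
  rcases h1 with h1 | h1
  · left; zify; linarith
  · right; zify; linarith

theorem alt_symm {β : V →+ V →+ ZMod 2} (h : ∀ v, β v v = 0) (x y : V) : β x y = β y x := by
  have h1 := h (x + y)
  simp only [map_add, AddMonoidHom.add_apply, h, zero_add, add_zero] at h1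
  exact (z2_eq_of_add h1).symm

/-- an alternating form has even rank -/
theorem exists_card_eq_rad [Finite V] {β : V →+ V →+ ZMod 2} (h : ∀ v, β v v = 0)
    (K : AddSubgroup V) :
    ∃ k, Nat.card K = 4 ^ k * {x | x ∈ K ∧ ∀ y ∈ K, β x y = 0}.ncard := by
  induction hm : Nat.card K using Nat.strong_induction_on generalizing K with
  | _ m ih =>
  subst hm
  by_cases h1 : ∀ x ∈ K, ∀ y ∈ K, β x y = 0
  · refine ⟨0, ?_⟩
    rw [pow_zero, one_mul, show {x | x ∈ K ∧ ∀ y ∈ K, β x y = 0} = (K : Set V) from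
      Set.ext fun x => ⟨fun h => h.1, fun hx => ⟨hx, h1 x hx⟩⟩]
    rfl
  push Not at h1
  obtain ⟨x, hx, y, hy, h1⟩ := h1
  have h2 := z2_eq_one h1
  have h3 : β y x = 1 := by rw [alt_symm h, h2]
  have key : ∀ a c : ZMod 2, ∃ e ∈ K, β x e = a ∧ β y e = c ∧
      ∀ z, β x z = 0 → β y z = 0 → β z e = 0 := fun a c => by
    by_cases ha : a = 0 <;> by_cases hc : c = 0
    · exact ⟨0, K.zero_mem, by simp [ha], by simp [hc], fun z _ _ => by simp⟩
    · exact ⟨x, hx, by simp [ha, h], by simp [z2_eq_one hc, h3],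
        fun z hz _ => by rw [alt_symm h, hz]⟩
    · exact ⟨y, hy, by simp [z2_eq_one ha, h2], by simp [hc, h],
        fun z _ hz => by rw [alt_symm h, hz]⟩
    · exact ⟨x + y, K.add_mem hx hy, by simp [z2_eq_one ha, h2, h], by simp [z2_eq_one hc, h3, h],
        fun z hz hz' => by rw [alt_symm h, map_add, AddMonoidHom.add_apply, hz, hz', add_zero]⟩
  let K' : AddSubgroup V := K ⊓ ((β x).prod (β y)).ker
  have hK' : ∀ z, z ∈ K' ↔ z ∈ K ∧ β x z = 0 ∧ β y z = 0 := fun z => by
    simp [K', AddMonoidHom.mem_ker]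
  have h4 : Nat.card K = 4 * Nat.card K' := by
    let φ := ((β x).prod (β y)).comp K.subtype
    have h5 : φ.range = ⊤ := AddMonoidHom.range_eq_top.2 fun ⟨a, c⟩ => by
      obtain ⟨e, he, h6, h7, -⟩ := key a c
      exact ⟨⟨e, he⟩, Prod.ext h6 h7⟩
    have h6 : φ.ker = K'.addSubgroupOf K := by
      ext z; simp [φ, hK', AddSubgroup.mem_addSubgroupOf, AddMonoidHom.mem_ker]
    have h7 := φ.ker.card_mul_index
    rw [AddSubgroup.index_ker, h5, AddSubgroup.card_top, h6,
      Nat.card_congr (AddSubgroup.addSubgroupOfEquivOfLe (inf_le_left : K' ≤ K)).toEquiv] at h7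
    rw [← h7, mul_comm, Nat.card_prod, Nat.card_zmod]
  obtain ⟨k, hk⟩ := ih _ (by have := Nat.card_pos (α := K'); omega) K' rfl
  refine ⟨k + 1, ?_⟩
  rw [h4, hk, pow_succ', mul_assoc]
  congr 3
  ext z
  simp only [Set.mem_setOf_eq]
  constructor
  · rintro ⟨hz, hz'⟩
    refine ⟨((hK' z).1 hz).1, fun v hv => ?_⟩
    obtain ⟨e, he, h6, h7, h8⟩ := key (β x v) (β y v)
    have h9 := hz' (v - e) ((hK' _).2 ⟨K.sub_mem hv he, by simp [h6], by simp [h7]⟩)
    rwa [map_sub, h8 z ((hK' z).1 hz).2.1 ((hK' z).1 hz).2.2, sub_zero] at h9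
  · rintro ⟨hz, hz'⟩
    exact ⟨(hK' z).2 ⟨hz, by rw [alt_symm h, hz' x hx], by rw [alt_symm h, hz' y hy]⟩,
      fun v hv => hz' v ((hK' v).1 hv).1⟩

/-- endomorphisms of an elementary abelian group of order `2 ^ k` -/
theorem card_end_le [Finite V] (h2 : ∀ v : V, v + v = 0) {k : ℕ} (hk : Nat.card V = 2 ^ k)
    {D : Type} (f : D → V →+ V) (hf : Function.Injective f) : Nat.card D ≤ (2 ^ k) ^ k := by
  let _ : Module (ZMod 2) V := AddCommGroup.zmodModule fun v => by rw [two_nsmul, h2]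
  have : Module.Finite (ZMod 2) V := Module.Finite.of_finite
  have h1 := Module.natCard_eq_pow_finrank (K := ZMod 2) (V := V)
  rw [Nat.card_zmod, hk] at h1
  have h3 := Nat.pow_right_injective le_rfl h1
  let e := Module.finBasis (ZMod 2) V
  refine (Nat.card_le_card_of_injective (fun d i => f d (e i)) fun d d' h => hf ?_).trans ?_
  · have h4 : (f d).toZModLinearMap 2 = (f d').toZModLinearMap 2 := e.ext fun i => congrFun h i
    exact AddMonoidHom.ext fun v => DFunLike.congr_fun h4 v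
  · rw [Nat.card_fun, hk, Nat.card_eq_fintype_card, Fintype.card_fin, ← h3]

variable {S : Type} [Group S] [DistribMulAction S V]

theorem card_dvd_of_free [Finite V] (U : Subgroup S) (T : Set V)
    (h1 : ∀ u ∈ U, ∀ v ∈ T, u • v ∈ T) (h2 : ∀ u ∈ U, ∀ v ∈ T, u • v = v → u = 1) :
    Nat.card U ∣ T.ncard := by
  let T' : SubMulAction U V := { carrier := T, smul_mem' := fun u v hv => h1 u u.2 v hv }
  have h3 := Nat.card_congr (MulAction.selfEquivOrbitsQuotientProd (G := U) (X := T') fun v =>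
    eq_bot_iff.2 fun u hu => Subtype.ext (h2 u u.2 v v.2 (congrArg Subtype.val hu)))
  rw [Nat.card_prod] at h3
  exact ⟨_, h3.trans (mul_comm _ _)⟩

/-- `U` acts freely on the nonzero vectors -/
def Free (V : Type) [AddCommGroup V] [DistribMulAction S V] (U : Subgroup S) : Prop :=
  ∀ u ∈ U, u ≠ 1 → ∀ v : V, u • v = v → v = 0

theorem Free.dvd [Finite V] {U : Subgroup S} (h : Free V U) (K : AddSubgroup V)
    (hK : ∀ u ∈ U, ∀ v ∈ K, u • v ∈ K) : Nat.card U ∣ Nat.card K - 1 := by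
  have h1 := card_dvd_of_free U ((K : Set V) \ {0})
    (fun u hu v hv => ⟨hK u hu v hv.1, fun h => hv.2 ((smul_eq_zero_iff_eq u).1 h)⟩)
    fun u hu v hv e => by_contra fun h' => hv.2 (h u hu h' v e)
  rwa [Set.ncard_diff_singleton_of_mem K.zero_mem] at h1

theorem Free.isCyclic [Finite S] [Nontrivial V] {U : Subgroup S} (h : Free V U)
    (hc : ∀ a ∈ U, ∀ c ∈ U, a * c = c * a) : IsCyclic U := by
  let _ : CommGroup U := { (inferInstance : Group U) with
    mul_comm := fun a c => Subtype.ext (hc a a.2 c c.2) }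
  let f : MonoidAlgebra ℤ U →ₐ[ℤ] Module.End ℤ V :=
    MonoidAlgebra.lift ℤ _ U ((DistribMulAction.toModuleEnd ℤ V).comp U.subtype)
  let T : Submonoid (MonoidAlgebra ℤ U) :=
    { carrier := {r | ∀ v, f r v = 0 → v = 0}
      mul_mem' := fun {r s} hr hs v hv => hs v (hr _ (by simpa using hv))
      one_mem' := fun v hv => by simpa using hv }
  obtain ⟨P, hP, -, hd⟩ := Ideal.exists_le_prime_disjoint (⊥ : Ideal _) T (by
    obtain ⟨v, hv⟩ := exists_ne (0 : V)
    rw [Set.disjoint_left]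
    rintro r (rfl : r = 0) hr
    exact hv (hr v (by simp)))
  refine isCyclic_of_injective_ringHom
    ((Ideal.Quotient.mk P).toMonoidHom.comp (MonoidAlgebra.of ℤ U)) ?_
  rw [injective_iff_map_eq_one]
  intro u hu
  by_contra h1
  have h2 : MonoidAlgebra.of ℤ U u - 1 ∈ P := Ideal.Quotient.eq.1 hu
  refine Set.disjoint_left.1 hd h2 fun v hv => h u u.2 (fun h => h1 (Subtype.ext h)) v ?_
  simpa [f, sub_eq_zero] using hv

/-- fixed points -/
def fix (V : Type) [AddCommGroup V] [DistribMulAction S V] (s : S) : AddSubgroup V where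
  carrier := {v | s • v = v}
  add_mem' ha hc := by rw [Set.mem_setOf_eq, smul_add, ha, hc]
  zero_mem' := smul_zero s
  neg_mem' ha := by rw [Set.mem_setOf_eq, smul_neg, ha]

@[simp] theorem mem_fix {s : S} {v : V} : v ∈ fix V s ↔ s • v = v := Iff.rfl

theorem card_fix_conj (g s : S) : Nat.card (fix V (g * s * g⁻¹)) = Nat.card (fix V s) :=
  Nat.card_congr ((MulAction.toPerm g⁻¹).subtypeEquiv fun v => by
    simp [mul_smul, smul_eq_iff_eq_inv_smul])

end Cfsg.B2.Sp
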