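import Cfsg.Agent.B2.SympForm

/-! Solvable primitive subgroups of `Sp(2n,2)` (S4621, piece E). -/

set_option autoImplicit false

namespace Cfsg.B2.Sp

open Finset
open scoped commutatorElement

variable {V : Type} [AddCommGroup V] {S : Type} [Group S] [DistribMulAction S V]

/-- a solvable group acting faithfully, irreducibly and "primitively" on a symplectic space -/
structure Setup (S : Type) [Group S] [DistribMulAction S V] (b : V →+ V →+ ZMod 2) : Prop where
  solv : Group.IsSolvable S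
  faith : ∀ s : S, (∀ v : V, s • v = v) → s = 1
  irr : ∀ Y : AddSubgroup V, (∀ s : S, ∀ v ∈ Y, s • v ∈ Y) → Y = ⊥ ∨ Y = ⊤
  alt : ∀ v, b v v = 0
  nd : ∀ v, (∀ w, b v w = 0) → v = 0
  inv : ∀ (s : S) v w, b (s • v) (s • w) = b v w
  prim : ∀ Y : AddSubgroup V, Y ≠ ⊤ → Y ≠ ⊥ → (∀ x ∈ Y, (∀ y ∈ Y, b x y = 0) → x = 0) →
    ∃ g : S, (¬ ∀ v, g • v ∈ Y ↔ v ∈ Y) ∧ ∃ x ∈ Y, ∃ y ∈ Y, b x (g • y) ≠ 0

/-- commutative subgroup -/
def Comm (U : Subgroup S) : Prop := ∀ a ∈ U, ∀ c ∈ U, a * c = c * a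

variable {b : V →+ V →+ ZMod 2}

theorem Setup.two (h : Setup S b) (v : V) : v + v = 0 :=
  h.nd _ fun w => by rw [map_add, AddMonoidHom.add_apply, z2_add_self]

theorem Setup.eq_of_add (h : Setup S b) {v w : V} (e : v + w = 0) : v = w := by
  rw [← add_zero v, ← h.two w, ← add_assoc, e, zero_add]

theorem Setup.symm (h : Setup S b) (v w : V) : b v w = b w v := alt_symm h.alt v w

theorem Setup.inv' (h : Setup S b) (s : S) (v w : V) : b v (s • w) = b (s⁻¹ • v) w := by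
  rw [← h.inv s (s⁻¹ • v), smul_inv_smul]

variable [Finite V] [Finite S]

theorem Setup.eq_one_of_sq (h : Setup S b) {M : Subgroup S} [hM : M.Normal] (hc : Comm M) {m : S}
    (hm : m ∈ M) (h2 : m * m = 1) : m = 1 := by
  rcases subsingleton_or_nontrivial V with hV | hV
  · exact h.faith m fun v => Subsingleton.elim _ _
  let P : Subgroup S :=
    { carrier := {m | m ∈ M ∧ m * m = 1}
      mul_mem' := fun {a c} ha hc' => ⟨M.mul_mem ha.1 hc'.1, by
        rw [mul_assoc, ← mul_assoc c, ← hc a ha.1 c hc'.1, mul_assoc, hc'.2, mul_one, ha.2]⟩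
      one_mem' := ⟨M.one_mem, one_mul 1⟩
      inv_mem' := fun ha => ⟨M.inv_mem ha.1, by rw [← mul_inv_rev, ha.2, inv_one]⟩ }
  have hP : IsPGroup 2 P := fun g => ⟨1, Subtype.ext (by rw [pow_one, pow_two]; exact g.2.2)⟩
  obtain ⟨v, hv⟩ := exists_ne (0 : V)
  have h3 : addOrderOf v = 2 := addOrderOf_eq_prime (by rw [two_nsmul, h.two]) hv
  obtain ⟨w, hw, h0⟩ := hP.exists_fixed_point_of_prime_dvd_card_of_fixed_point V
    (h3 ▸ addOrderOf_dvd_natCard v) (a := 0) fun g => smul_zero g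
  rcases h.irr (FixedPoints.addSubgroup P V) (fun s v hv g => by
    have h4 : s⁻¹ * g * s⁻¹⁻¹ ∈ P := ⟨hM.conj_mem _ g.2.1 _, by
      rw [conj_mul, g.2.2, mul_one, mul_inv_cancel]⟩
    have h5 : (s⁻¹ * g * s⁻¹⁻¹) • v = v := hv ⟨_, h4⟩
    rw [inv_inv, mul_smul, mul_smul, inv_smul_eq_iff] at h5
    exact h5) with h4 | h4
  · exact absurd (AddSubgroup.mem_bot.1 (h4.le hw)).symm h0
  · exact h.faith m fun v => h4.ge (AddSubgroup.mem_top v) ⟨m, hm, h2⟩

theorem Setup.odd (h : Setup S b) {M : Subgroup S} [M.Normal] (hc : Comm M) {K : Subgroup S}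
    (hK : K ≤ M) : Odd (Nat.card K) := by
  refine Nat.not_even_iff_odd.1 fun h1 => ?_
  obtain ⟨m, hm⟩ := exists_prime_orderOf_dvd_card' 2 h1.two_dvd
  have h2 := h.eq_one_of_sq hc (hK m.2)
    (congrArg Subtype.val ((pow_two m).symm.trans (hm ▸ pow_orderOf_eq_one m)))
  simp [show m = 1 from Subtype.ext h2] at hm

/-- an abelian normal subgroup acts freely -/
theorem Setup.free (h : Setup S b) {M : Subgroup S} [hM : M.Normal] (hc : Comm M) : Free V M := by
  intro m hm h1 v hv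
  by_contra h0
  obtain ⟨K, hK, ⟨hKM, v₀, hv₀, hK0⟩, hmax⟩ := Finite.exists_le_maximal
    (p := fun H : Subgroup S => H ≤ M ∧ ∃ v : V, v ≠ 0 ∧ H ≤ MulAction.stabilizer S v)
    (a := Subgroup.zpowers m) ⟨Subgroup.zpowers_le.2 hm, v, h0, Subgroup.zpowers_le.2 hv⟩
  cases nonempty_fintype K
  have hN : ∀ w : V, ∑ k : K, k • w ∈ FixedPoints.addSubgroup K V := fun w k => by
    rw [smul_sum]
    exact Fintype.sum_equiv (Equiv.mulLeft k) _ _ fun k' => (mul_smul _ _ _).symm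
  have hb : ∀ x ∈ FixedPoints.addSubgroup K V, ∀ w, b x (∑ k : K, k • w) = b x w := fun x hx w => by
    have h2 : ∀ k : K, b x (k • w) = b x w := fun k => by
      rw [← h.inv k x w]; exact congrArg (b · _) (hx k).symm
    rw [map_sum, sum_congr rfl fun k _ => h2 k, sum_const, card_univ, ← Nat.card_eq_fintype_card,
      nsmul_eq_mul, (ZMod.natCast_eq_one_iff_odd).2 (h.odd hc hKM), one_mul]
  obtain ⟨g, hg, x, hx, y, hy, hxy⟩ := h.prim (FixedPoints.addSubgroup K V)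
    (fun e => h1 (h.faith m fun w => e.ge (AddSubgroup.mem_top w) ⟨m, hK (Subgroup.mem_zpowers m)⟩))
    (fun e => hv₀ (AddSubgroup.mem_bot.1 (e.le fun k => hK0 k.2)))
    fun x hx e => h.nd x fun w => by rw [← hb x hx, e _ (hN w)]
  have hz : ∑ k : K, k • g • y ≠ 0 := fun e => hxy (by rw [← hb x hx, e, map_zero])
  have h2 : M ⊓ MulAction.stabilizer S (∑ k : K, k • g • y) ≤ K :=
    hmax ⟨inf_le_left, _, hz, inf_le_right⟩ (le_inf hKM fun k hk => hN _ ⟨k, hk⟩)
  have h3 : g ∈ Subgroup.normalizer (K : Set S) := Subgroup.mem_normalizer_fintype fun k hk => by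
    have h4 := hM.conj_mem k (hKM hk) g
    refine h2 ⟨h4, MulAction.mem_stabilizer_iff.2 ?_⟩
    rw [smul_sum]
    refine sum_congr rfl fun k' _ => ?_
    have h5 : k • y = y := hy ⟨k, hk⟩
    rw [Subgroup.smul_def, ← mul_smul, hc _ h4 _ (hKM k'.2), mul_smul, mul_smul, inv_smul_smul,
      mul_smul, h5]
  refine hg fun w => ⟨fun hw k => ?_, fun hw k => ?_⟩
  · have h4 : (g * k * g⁻¹) • g • w = g • w := hw ⟨_, (h3 k).1 k.2⟩
    rw [mul_smul, inv_smul_smul, mul_smul] at h4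
    exact MulAction.injective g h4
  · have h4 : (g⁻¹ * k * g⁻¹⁻¹) • w = w := hw ⟨_, (Subgroup.inv_mem _ h3 k).1 k.2⟩
    rw [inv_inv, mul_smul, mul_smul, inv_smul_eq_iff] at h4
    exact h4

/-- the quadratic form `b v (u v)` -/
theorem Setup.quad (h : Setup S b) {U : Subgroup S} [U.Normal] (hc : Comm U) {u : S} (hu : u ∈ U)
    (h1 : u ≠ 1) {n : ℕ} (hn : Nat.card V = 4 ^ n) :
    Nat.card U ∣ {v : V | b v (u • v) = 1}.ncard ∧
    {v : V | b v (u • v) = 0}.ncard + {v : V | b v (u • v) = 1}.ncard = 4 ^ n ∧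
    (2 * {v : V | b v (u • v) = 1}.ncard + 2 ^ n = 4 ^ n ∨
      2 * {v : V | b v (u • v) = 1}.ncard = 4 ^ n + 2 ^ n) := by
  refine ⟨card_dvd_of_free U _ (fun a ha v hv => ?_) fun a ha v hv e => by_contra fun h2 => ?_,
    card_quad (fun v => b v (u • v)) (fun w => b (u • w + u⁻¹ • w)) (fun v w => ?_) (fun w hw => ?_)
      (by simp) hn⟩
  · rw [Set.mem_setOf_eq, ← mul_smul, hc u hu a ha, mul_smul, h.inv]; exact hv
  · rw [h.free hc a ha h2 v e] at hv
    simp at hv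
  · simp only [smul_add, map_add, AddMonoidHom.add_apply, h.symm v (u • w), h.inv' u w v]
    ring
  · refine h.free hc _ (U.mul_mem hu hu) (mt (h.eq_one_of_sq hc hu) h1) w ?_
    rw [mul_smul, h.eq_of_add (h.nd _ fun v => DFunLike.congr_fun hw v), smul_inv_smul]

theorem Setup.card_dvd (h : Setup S b) {U : Subgroup S} [U.Normal] (hc : Comm U) (h1 : U ≠ ⊥)
    {n : ℕ} (hn : Nat.card V = 4 ^ n) : Nat.card U ∣ 2 ^ n - 1 ∨ Nat.card U ∣ 2 ^ n + 1 := by
  obtain ⟨⟨u, hu⟩, h2⟩ := Subgroup.ne_bot_iff_exists_ne_one.1 h1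
  obtain ⟨h3, -, h4⟩ := h.quad hc hu (fun e => h2 (Subtype.ext e)) hn
  have h5 : (Nat.card U).Coprime (2 ^ n) := (Nat.coprime_two_right.2 (h.odd hc le_rfl)).pow_right n
  have h6 : 4 ^ n = 2 ^ n * 2 ^ n := mul_pow 2 2 n
  refine h4.imp (fun h4 => h5.dvd_of_dvd_mul_left ?_) fun h4 => h5.dvd_of_dvd_mul_left ?_
  · rw [Nat.mul_sub_one, ← h6, ← h4, Nat.add_sub_cancel]; exact h3.mul_left 2
  · rw [mul_add_one, ← h6, ← h4]; exact h3.mul_left 2

/-- `v ↦ v + t v` -/
def dlt (V : Type) [AddCommGroup V] [DistribMulAction S V] (t : S) : V →+ V :=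
  AddMonoidHom.id V + DistribSMul.toAddMonoidHom V t

theorem dlt_apply (t : S) (v : V) : dlt V t v = v + t • v := rfl

theorem Setup.ker_dlt (h : Setup S b) (t : S) : (dlt V t).ker = fix V t := by
  ext v
  exact ⟨fun e => (h.eq_of_add e).symm, fun e => by
    rw [AddMonoidHom.mem_ker, dlt_apply, mem_fix.1 e, h.two]⟩

theorem range_dlt_le {t : S} (ht : t * t = 1) : (dlt V t).range ≤ fix V t := by
  rintro _ ⟨v, rfl⟩
  rw [mem_fix, dlt_apply, smul_add, ← mul_smul, ht, one_smul, add_comm]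

theorem Setup.card_fix_mul (h : Setup S b) (t : S) :
    Nat.card (fix V t) * Nat.card (dlt V t).range = Nat.card V := by
  rw [← h.ker_dlt, ← AddSubgroup.index_ker, AddSubgroup.card_mul_index]

theorem Setup.le_card_fix (h : Setup S b) {t : S} (ht : t * t = 1) {n : ℕ}
    (hn : Nat.card V = 4 ^ n) : 2 ^ n ≤ Nat.card (fix V t) := by
  have h1 := h.card_fix_mul t
  have h2 := AddSubgroup.card_le_of_le (range_dlt_le (V := V) ht)
  refine Nat.mul_self_le_mul_self_iff.1 ?_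
  rw [← mul_pow, show 2 * 2 = 4 from rfl, ← hn, ← h1]
  exact Nat.mul_le_mul_left _ h2

theorem Setup.b_dlt (h : Setup S b) {t : S} (ht : t * t = 1) (v w : V) :
    b v (dlt V t w) = b (dlt V t v) w := by
  simp only [dlt_apply, map_add, AddMonoidHom.add_apply, h.inv' t v w, inv_eq_of_mul_eq_one_left ht]

theorem Setup.card_fix_typeA (h : Setup S b) {t : S} (ht : t * t = 1)
    (ha : ∀ w, b w (t • w) = 0) : ∃ k, Nat.card V = 4 ^ k * Nat.card (fix V t) := by
  obtain ⟨k, hk⟩ := exists_card_eq_rad (β := b.comp (dlt V t)) (fun v => by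
    rw [AddMonoidHom.comp_apply, ← h.b_dlt ht, dlt_apply, map_add, h.alt, ha, add_zero]) ⊤
  refine ⟨k, ?_⟩
  rw [← AddSubgroup.card_top, hk, ← h.ker_dlt]
  congr 2
  ext v
  exact ⟨fun e => h.nd _ fun w => e.2 w trivial, fun e => ⟨trivial, fun w _ => by
    rw [AddMonoidHom.comp_apply, AddMonoidHom.mem_ker.1 e, map_zero, AddMonoidHom.zero_apply]⟩⟩

theorem Setup.card_fix_le (h : Setup S b) {U : Subgroup S} [U.Normal] (hc : Comm U) {u : S}
    (hu : u ∈ U) (h1 : u ≠ 1) {t : S} (ht : t * u = u⁻¹ * t) {n : ℕ} (hn : Nat.card V = 4 ^ n) :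
    Nat.card (fix V t) ≤ 2 ^ n := by
  refine Nat.mul_self_le_mul_self_iff.1 ?_
  rw [← mul_pow, show 2 * 2 = 4 from rfl, ← hn, ← Nat.card_prod]
  let f : fix V t × fix V t →+ V := (fix V t).subtype.coprod
    ((DistribSMul.toAddMonoidHom V u).comp (fix V t).subtype)
  refine Nat.card_le_card_of_injective f ((injective_iff_map_eq_zero f).2 fun ⟨v, w⟩ e => ?_)
  have h2 : (v : V) = u • (w : V) := h.eq_of_add e
  have h3 : (w : V) = 0 := h.free hc _ (U.mul_mem hu hu) (mt (h.eq_one_of_sq hc hu) h1) w (by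
    have h4 := mem_fix.1 v.2
    rw [h2, ← mul_smul, ht, mul_smul, mem_fix.1 w.2, inv_smul_eq_iff] at h4
    rw [mul_smul, ← h4])
  exact Prod.ext (Subtype.ext (by rw [h2, h3, smul_zero]; rfl)) (Subtype.ext h3)

omit [Finite S] in
theorem exists_inverted {U : Subgroup S} [hU : U.Normal] {t : S} (ht : t * t = 1)
    (h : t ∉ Subgroup.centralizer (U : Set S)) : ∃ u ∈ U, u ≠ 1 ∧ t * u = u⁻¹ * t := by
  rw [Subgroup.mem_centralizer_iff] at h
  push Not at h
  obtain ⟨u, hu, h⟩ := h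
  have h1 := hU.conj_mem u hu t
  have h2 := inv_eq_of_mul_eq_one_left ht
  refine ⟨u * (t * u * t⁻¹)⁻¹, U.mul_mem hu (U.inv_mem h1), fun e => h ?_, ?_⟩
  · rw [mul_inv_eq_one.1 e, inv_mul_cancel_right, ← mul_inv_eq_one.1 e]
  · simp only [mul_inv_rev, inv_inv, h2, mul_assoc]

omit [Finite S] in
theorem relIndex_centralizer_le (L : Subgroup S) (x : S) {T : Set S} (hT : T.Finite)
    (h : ∀ l ∈ L, l * x * l⁻¹ ∈ T) : (Subgroup.centralizer {x}).relIndex L ≤ T.ncard := by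
  have := hT.to_subtype
  refine Nat.card_le_card_of_injective (β := T) (Quotient.lift (fun l : L => ⟨_, h l l.2⟩)
    fun l l' e => Subtype.ext ?_) fun q q' => ?_
  · have h1 := Subgroup.mem_centralizer_singleton_iff.1
      (Subgroup.mem_subgroupOf.1 (QuotientGroup.leftRel_apply.1 e))
    rw [Subgroup.coe_mul, Subgroup.coe_inv] at h1
    calc (l : S) * x * (l : S)⁻¹ = l * (x * ((l : S)⁻¹ * l')) * (l' : S)⁻¹ := by group
      _ = _ := by rw [← h1]; group
  · induction q using QuotientGroup.induction_on with | H l =>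
    induction q' using QuotientGroup.induction_on with | H l' =>
    intro e
    have h1 : (l : S) * x * (l : S)⁻¹ = l' * x * (l' : S)⁻¹ := congrArg Subtype.val e
    refine QuotientGroup.eq.2 (Subgroup.mem_subgroupOf.2
      (Subgroup.mem_centralizer_singleton_iff.2 ?_))
    rw [Subgroup.coe_mul, Subgroup.coe_inv]
    calc (l : S)⁻¹ * l' * x = (l : S)⁻¹ * (l' * x * (l' : S)⁻¹) * l' := by group
      _ = _ := by rw [← h1]; group

end Cfsg.B2.Sp
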