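import Cfsg.Agent.B2.SympGrp

/-! The case of a nonabelian Fitting subgroup (S4621, piece E). -/

set_option autoImplicit false

namespace Cfsg.B2.Sp

open Finset
open scoped commutatorElement

variable {S : Type} [Group S]

theorem pow_mul_eq {x y c : S} (h : y * x = x * y * c) (hy : Commute c y) (n : ℕ) :
    y ^ n * x = x * y ^ n * c ^ n := by
  induction n with
  | zero => simp
  | succ n ih =>
    rw [pow_succ' y, mul_assoc, ih, ← mul_assoc, ← mul_assoc, h, pow_succ' c, mul_assoc (x * y),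
      (hy.pow_right n).eq]
    simp only [mul_assoc]

theorem mul_pow_eq {x y c : S} (h : y * x = x * y * c) (hx : Commute c x) (hy : Commute c y)
    (n : ℕ) : (x * y) ^ n = x ^ n * y ^ n * c ^ n.choose 2 := by
  induction n with
  | zero => simp
  | succ n ih =>
    have h1 := pow_mul_eq h hy n
    rw [pow_succ, ih, Nat.choose_succ_succ' n 1, Nat.choose_one_right, mul_assoc,
      ((hx.mul_right hy).pow_left _).eq, pow_succ x, pow_succ y, pow_add]
    calc x ^ n * y ^ n * (x * y * c ^ n.choose 2)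
        = x ^ n * (y ^ n * x) * y * c ^ n.choose 2 := by simp only [mul_assoc]
      _ = x ^ n * x * (y ^ n * (c ^ n * y)) * c ^ n.choose 2 := by rw [h1]; simp only [mul_assoc]
      _ = _ := by rw [(hy.pow_left n).eq]; simp only [mul_assoc]

/-- data of a Heisenberg-type subgroup above `U` -/
structure HeisData (U X : Subgroup S) (l : ℕ) (a y z : S) : Prop where
  prime : l.Prime
  normal : X.Normal
  cent : ∀ x ∈ X, ∀ u ∈ U, Commute x u
  comm : ∀ x ∈ X, ∀ x' ∈ X, x * x' * x⁻¹ * x'⁻¹ ∈ U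
  ha : a ∈ X
  hy : y ∈ X
  hz : z ∈ U
  ne : z ≠ 1
  pa : a ^ l = 1
  pz : z ^ l = 1
  rel : y * a = a * y * z

variable [Finite S]

theorem exists_heisData (hs : Group.IsSolvable S) {u : S} {U : Subgroup S} [hU : U.Normal]
    (hu : Subgroup.zpowers u = U) (hmax : ∀ M : Subgroup S, M.Normal → Comm M → U ≤ M → M ≤ U)
    (hodd : Odd (Nat.card U)) (hne : ¬ Subgroup.centralizer (U : Set S) ≤ U) :
    ∃ X l a y z, HeisData U X l a y z := by
  have hUC : U ≤ Subgroup.centralizer (U : Set S) := by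
    subst hu; exact Subgroup.le_centralizer _
  obtain ⟨X, -, ⟨hX, hUX, hXU, hXC⟩, hmin⟩ := Finite.exists_le_minimal
    (p := fun X : Subgroup S => X.Normal ∧ U ≤ X ∧ ¬ X ≤ U ∧ X ≤ Subgroup.centralizer (U : Set S))
    (a := Subgroup.centralizer (U : Set S)) ⟨inferInstance, hUC, hne, le_rfl⟩
  have key : ∀ Y : Subgroup S, Y.Normal → U ≤ Y → Y ≤ X → ¬ Y ≤ U → X ≤ Y :=
    fun Y h1 h2 h3 h4 => hmin ⟨h1, h2, h4, h3.trans hXC⟩ h3
  have cent : ∀ x ∈ X, ∀ u ∈ U, Commute x u := fun x hx u hu => (hXC hx u hu).symm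
  have comm : ∀ x ∈ X, ∀ x' ∈ X, x * x' * x⁻¹ * x'⁻¹ ∈ U := by
    have h1 : ⁅X, X⁆ ⊔ U ≤ U := by
      by_contra h1
      have h2 := Subgroup.map_mono (f := QuotientGroup.mk' U) (key _ inferInstance le_sup_right
        (sup_le (Subgroup.commutator_le_left X X) hUX) h1)
      rw [Subgroup.map_sup, QuotientGroup.map_mk'_self, sup_bot_eq, Subgroup.map_commutator] at h2
      refine (Group.IsSolvable.commutator_lt_of_ne_bot fun h3 => hXU ?_).not_ge h2
      rwa [Subgroup.map_eq_bot_iff, QuotientGroup.ker_mk'] at h3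
    exact fun x hx x' hx' => h1 (Subgroup.mem_sup_left (Subgroup.commutator_mem_commutator hx hx'))
  obtain ⟨x₁, hx₁, hx₁U⟩ := SetLike.not_le_iff_exists.1 hXU
  have h1 : orderOf (x₁ : S ⧸ U) ≠ 1 := fun e =>
    hx₁U ((QuotientGroup.eq_one_iff _).1 (orderOf_eq_one_iff.1 e))
  obtain ⟨l, hl, h2⟩ := Nat.exists_prime_and_dvd h1
  have h3 := orderOf_pow_orderOf_div (orderOf_pos _).ne' h2
  rw [← QuotientGroup.mk_pow] at h3
  let Y : Subgroup S :=
    { carrier := {x | x ∈ X ∧ (x : S ⧸ U) ^ l = 1}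
      mul_mem' := fun {x x'} hx hx' => ⟨X.mul_mem hx.1 hx'.1, by
        have h4 : Commute (x : S ⧸ U) x' := by
          rw [← commutatorElement_eq_one_iff_commute]
          exact (QuotientGroup.eq_one_iff _).2 (comm x hx.1 x' hx'.1)
        rw [QuotientGroup.mk_mul, h4.mul_pow, hx.2, hx'.2, one_mul]⟩
      one_mem' := ⟨X.one_mem, one_pow l⟩
      inv_mem' := fun hx => ⟨X.inv_mem hx.1, by rw [QuotientGroup.mk_inv, inv_pow, hx.2, inv_one]⟩ }
  have hY : ∀ x ∈ X, x ^ l ∈ U := fun x hx => (QuotientGroup.eq_one_iff _).1 (key Y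
    ⟨fun x hx g => ⟨hX.conj_mem x hx.1 g, by
      rw [QuotientGroup.mk_mul, QuotientGroup.mk_mul, QuotientGroup.mk_inv, conj_pow, hx.2, mul_one,
        mul_inv_cancel]⟩⟩
    (fun x hx => ⟨hUX hx, by rw [(QuotientGroup.eq_one_iff _).2 hx, one_pow]⟩) (fun _ hx => hx.1)
    (fun e => hl.ne_one (by
      rw [← h3, (QuotientGroup.eq_one_iff _).2 (e ⟨X.pow_mem hx₁ _,
        orderOf_dvd_iff_pow_eq_one.1 h3.dvd⟩), orderOf_one])) hx).2
  have h4 : ∀ x ∈ X, ∀ y ∈ X, ∃ z ∈ U, z ^ l = 1 ∧ y * x = x * y * z := fun x hx y hy => by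
    have h5 := comm _ (X.inv_mem hy) _ (X.inv_mem hx)
    have h6 : y * x = x * y * (y⁻¹ * x⁻¹ * y⁻¹⁻¹ * x⁻¹⁻¹) := by group
    have h7 := pow_mul_eq h6 (cent y hy _ h5).symm l
    rw [← (cent x hx _ (hY y hy)).eq] at h7
    exact ⟨_, h5, (left_eq_mul.1 h7), h6⟩
  have hnc : ¬ Comm X := fun e => hXU (hmax X hX e hUX)
  obtain ⟨x, hx, y, hy, hxy⟩ : ∃ x ∈ X, ∃ y ∈ X, x * y ≠ y * x := by
    unfold Comm at hnc; push Not at hnc; exact hnc
  have hlo : Odd l := by
    obtain ⟨z, hz, h5, h6⟩ := h4 x hx y hy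
    have := Fact.mk hl
    have h7 := orderOf_eq_prime h5 fun e => hxy (by rw [h6, e, mul_one])
    exact hodd.of_dvd_nat (h7 ▸ U.orderOf_dvd_natCard hz)
  let P : X →* S := MonoidHom.mk' (fun x => (x : S) ^ l) fun x y => by
    obtain ⟨z, hz, h5, h6⟩ := h4 x x.2 y y.2
    obtain ⟨k, hk⟩ := hl.dvd_choose_self (k := 2) two_ne_zero
      (hl.two_le.lt_of_ne fun e => absurd (e ▸ hlo) (by decide))
    rw [Subgroup.coe_mul, mul_pow_eq h6 (cent _ x.2 z hz).symm (cent _ y.2 z hz).symm, hk, pow_mul,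
      h5, one_pow, mul_one]
  have huU : u ∈ U := hu ▸ Subgroup.mem_zpowers u
  have step : ∀ x ∈ X, ∀ y ∈ X, x * y ≠ y * x → ∀ i j k m : ℤ, u ^ i = x ^ l → u ^ j = y ^ l →
      i + j * k = l * m → ∃ X l a y z, HeisData U X l a y z := by
    intro x hx y hy hxy i j k m hi hj e
    let a : X := ⟨x, hx⟩ * ⟨y, hy⟩ ^ k * (⟨u, hUX huU⟩ ^ m)⁻¹
    have h5 : P a = 1 := by
      simp only [a, map_mul, map_inv, map_zpow]
      change x ^ l * (y ^ l) ^ k * ((u ^ l) ^ m)⁻¹ = 1
      rw [← hi, ← hj, ← zpow_mul, ← zpow_add, e, zpow_mul, zpow_natCast, mul_inv_cancel]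
    obtain ⟨z, hz, h6, h7⟩ := h4 a a.2 y hy
    refine ⟨X, l, a, y, z, hl, hX, cent, comm, a.2, hy, hz, fun e => hxy ?_, h5, h6, h7⟩
    rw [e, mul_one] at h7
    have h8 : x = a * u ^ m * (y ^ k)⁻¹ := by simp [a]
    rw [h8]
    exact ((Commute.mul_right h7 ((cent y hy u huU).zpow_right m)).mul_right
      ((Commute.refl y).zpow_right k).inv_right).eq.symm
  obtain ⟨i, hi⟩ := Subgroup.mem_zpowers_iff.1 (hu.ge (hY x hx))
  obtain ⟨j, hj⟩ := Subgroup.mem_zpowers_iff.1 (hu.ge (hY y hy))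
  by_cases h5 : (l : ℤ) ∣ i
  · obtain ⟨m, hm⟩ := h5
    exact step x hx y hy hxy i j 0 m hi hj (by rw [mul_zero, add_zero, hm])
  · obtain ⟨c, d, e⟩ := (Nat.prime_iff_prime_int.1 hl).irreducible.coprime_iff_not_dvd.2 h5
    exact step y hy x hx hxy.symm j i (-j * d) (j * c) hj hi (by linear_combination -j * e)

variable {V : Type} [AddCommGroup V] [DistribMulAction S V] {b : V →+ V →+ ZMod 2}

/-- norm map -/
def nrm (V : Type) [AddCommGroup V] [DistribMulAction S V] (l : ℕ) (g : S) : V →+ V :=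
  ∑ k ∈ range l, DistribSMul.toAddMonoidHom V (g ^ k)

omit [Finite S] in
theorem nrm_apply (l : ℕ) (g : S) (v : V) : nrm V l g v = ∑ k ∈ range l, g ^ k • v := by
  simp [nrm, AddMonoidHom.finsetSum_apply]

omit [Finite S] in
theorem nrm_mem {l : ℕ} {g : S} (h : g ^ l = 1) (v : V) : nrm V l g v ∈ fix V g := by
  have h1 := (sum_range_succ (fun k => g ^ k • v) l).symm.trans (sum_range_succ' _ l)
  rw [h, pow_zero] at h1
  rw [mem_fix, nrm_apply, smul_sum, add_right_cancel h1]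
  exact sum_congr rfl fun k _ => by rw [pow_succ', mul_smul]

omit [Finite S] in
theorem Setup.nrm_one (h : Setup S b) {l : ℕ} (hl : Odd l) (v : V) : nrm V l (1 : S) v = v := by
  obtain ⟨k, rfl⟩ := hl
  simp only [nrm_apply, one_pow, one_smul, sum_const, card_range]
  rw [add_nsmul, mul_nsmul, two_nsmul, h.two, nsmul_zero, zero_add, one_nsmul]

variable [Finite V] {U X : Subgroup S} [U.Normal] {l : ℕ} {a y z : S}

theorem HeisData.order (H : HeisData U X l a y z) : orderOf z = l :=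
  have := Fact.mk H.prime
  orderOf_eq_prime H.pz H.ne

theorem HeisData.dvd (H : HeisData U X l a y z) : l ∣ Nat.card U :=
  H.order ▸ U.orderOf_dvd_natCard H.hz

theorem HeisData.conj (H : HeisData U X l a y z) (i : ℕ) : y ^ i * a * (y ^ i)⁻¹ = a * z ^ i := by
  have h1 := H.cent y H.hy z H.hz
  rw [pow_mul_eq H.rel h1.symm, mul_assoc a, (h1.pow_pow i i).eq, ← mul_assoc,
    mul_inv_cancel_right]

theorem Setup.decomp (h : Setup S b) (hc : Comm U) (H : HeisData U X l a y z) :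
    Nat.card V = Nat.card (fix V a) ^ l ∧
      ∀ g, Commute g y → (∀ v ∈ fix V a, g • v = v) → g = 1 := by
  have hl : Odd l := (h.odd hc le_rfl).of_dvd_nat H.dvd
  have haz := H.cent a H.ha z H.hz
  have h0 : ∀ g ∈ U, g ≠ 1 → g ^ l = 1 → ∀ v, nrm V l g v = 0 := fun g hg h1 h2 v =>
    h.free hc g hg h1 _ (nrm_mem h2 v)
  have h1 : ∀ i, (a * z ^ i) ^ l = 1 := fun i => by
    rw [(haz.pow_right i).mul_pow, H.pa, ← pow_mul, mul_comm, pow_mul, H.pz, one_pow, one_mul]
  have h2 : ∀ v, ∑ i : Fin l, nrm V l (a * z ^ (i : ℕ)) v = v := fun v => by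
    have h3 : ∀ k, ∑ i : Fin l, (a * z ^ (i : ℕ)) ^ k • v = a ^ k • nrm V l (z ^ k) v := fun k => by
      rw [nrm_apply, smul_sum, sum_range]
      exact sum_congr rfl fun i _ => by
        rw [(haz.pow_right i).mul_pow, mul_smul, ← pow_mul, ← pow_mul, mul_comm]
    simp only [nrm_apply l (a * _)]
    rw [sum_comm, sum_congr rfl fun k _ => h3 k, sum_eq_single 0, pow_zero, pow_zero, one_smul,
      h.nrm_one hl]
    · intro k hk h4
      rw [h0 _ (U.pow_mem H.hz k) (pow_ne_one_of_lt_orderOf h4 (H.order ▸ mem_range.1 hk))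
        (by rw [← pow_mul, mul_comm, pow_mul, H.pz, one_pow]), smul_zero]
    · exact fun e => absurd (mem_range.2 H.prime.pos) e
  have h3 : ∀ i j : ℕ, ∀ w ∈ fix V (a * z ^ j),
      nrm V l (a * z ^ i) w = nrm V l (z ^ i * (z ^ j)⁻¹) w := fun i j w hw => by
    have h4 : Commute a (z ^ i * (z ^ j)⁻¹) := (haz.pow_right i).mul_right (haz.pow_right j).inv_right
    have h5 : Commute (z ^ i * (z ^ j)⁻¹) (a * z ^ j) := h4.symm.mul_right
      (((Commute.refl z).pow_pow i j).mul_left (Commute.refl _).inv_left)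
    have h6 : a * z ^ i = z ^ i * (z ^ j)⁻¹ * (a * z ^ j) := by
      rw [← mul_assoc, ← h4.eq, mul_assoc, inv_mul_cancel_right]
    simp only [nrm_apply]
    refine sum_congr rfl fun k _ => ?_
    rw [h6, h5.mul_pow, mul_smul, MulAction.mem_stabilizer_iff.1
      ((MulAction.stabilizer S w).pow_mem hw k)]
  let e : V ≃ ∀ i : Fin l, fix V (a * z ^ (i : ℕ)) :=
    { toFun := fun v i => ⟨_, nrm_mem (h1 i) v⟩
      invFun := fun w => ∑ i, (w i : V)
      left_inv := h2
      right_inv := fun w => funext fun i => Subtype.ext (by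
        change nrm V l _ _ = _
        rw [map_sum, sum_eq_single i, h3 _ _ _ (w i).2, mul_inv_cancel, h.nrm_one hl]
        · intro j _ hj
          rw [h3 _ _ _ (w j).2]
          refine h0 _ (U.mul_mem (U.pow_mem H.hz _) (U.inv_mem (U.pow_mem H.hz _))) (fun e => ?_)
            ?_ _
          · exact hj (Fin.ext (pow_injOn_Iio_orderOf (H.order ▸ j.2) (H.order ▸ i.2)
              (mul_inv_eq_one.1 e).symm))
          · rw [((Commute.refl z).pow_pow _ _).inv_right.mul_pow, inv_pow, ← pow_mul, ← pow_mul,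
              mul_comm, mul_comm _ l, pow_mul, pow_mul, H.pz, one_pow, one_pow, inv_one, mul_one]
        · simp) }
  refine ⟨?_, fun g hg hv => h.faith g fun v => ?_⟩
  · rw [Nat.card_congr e, Nat.card_pi]
    simp only [← H.conj, card_fix_conj, prod_const, card_univ, Fintype.card_fin]
  · rw [← h2 v, smul_sum]
    refine sum_congr rfl fun i _ => ?_
    have h4 := mem_fix.1 (nrm_mem (h1 i) v)
    generalize nrm V l (a * z ^ (i : ℕ)) v = w at h4
    rw [← H.conj, mul_smul, mul_smul, smul_eq_iff_eq_inv_smul] at h4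
    have h5 := hv _ h4
    rwa [← mul_smul, (hg.pow_right i).inv_right.eq, mul_smul, smul_left_cancel_iff] at h5

theorem HeisData.card_le (H : HeisData U X l a y z) {d : ℕ}
    (hd : Nat.card ↥(Subgroup.centralizer {a} ⊓ Subgroup.centralizer {y}) ≤ d) :
    Nat.card S ≤ (Nat.card U ^ 2 * d - 1) ^ 2 * d := by
  set D := Subgroup.centralizer {a} ⊓ Subgroup.centralizer {y}
  have h1 : ∀ x ∈ X, (Subgroup.centralizer {x}).relIndex X ≤ Nat.card U := fun x hx =>
    (relIndex_centralizer_le X x (T := (· * x) '' U) (Set.toFinite _) fun g hg =>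
      ⟨_, H.comm g hg x hx, inv_mul_cancel_right _ _⟩).trans (Set.ncard_image_le (Set.toFinite _))
  have h2 : Nat.card X ≤ Nat.card U ^ 2 * d := by
    rw [← (D.subgroupOf X).index_mul_card, pow_two]
    refine Nat.mul_le_mul (Subgroup.relIndex_inf_le.trans (Nat.mul_le_mul (h1 a H.ha) (h1 y H.hy)))
      (le_trans ?_ hd)
    exact Nat.card_le_card_of_injective (fun x => ⟨x.1.1, x.2⟩) fun x x' e =>
      Subtype.ext (Subtype.ext (congrArg (Subtype.val : D → S) e))
  have h3 : ∀ x ∈ X, x ≠ 1 → (Subgroup.centralizer {x}).index ≤ Nat.card U ^ 2 * d - 1 :=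
    fun x hx h4 => by
      rw [← Subgroup.relIndex_top_right]
      refine (relIndex_centralizer_le ⊤ x (T := X \ {1}) (Set.toFinite _) fun g _ =>
        ⟨H.normal.conj_mem x hx g, fun e => h4 (by simpa using e)⟩).trans ?_
      rw [Set.ncard_diff_singleton_of_mem X.one_mem]
      exact Nat.sub_le_sub_right h2 1
  rw [← D.index_mul_card, pow_two (_ - 1)]
  refine Nat.mul_le_mul (Subgroup.index_inf_le.trans (Nat.mul_le_mul (h3 a H.ha fun e => H.ne ?_)
    (h3 y H.hy fun e => H.ne ?_))) hd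
  · simpa [e] using H.rel
  · simpa [e] using H.rel

theorem Setup.card_cent_le (h : Setup S b) (hc : Comm U) (H : HeisData U X l a y z) {k : ℕ}
    (hk : Nat.card (fix V a) = 2 ^ k) :
    Nat.card ↥(Subgroup.centralizer {a} ⊓ Subgroup.centralizer {y}) ≤ (2 ^ k) ^ k := by
  refine card_end_le (fun v => Subtype.ext (h.two v)) hk (fun g =>
    ((DistribSMul.toAddMonoidHom V g.1).comp (fix V a).subtype).codRestrict _ fun v => ?_)
    fun g g' e => Subtype.ext ?_
  · change a • g.1 • (v : V) = g.1 • (v : V)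
    rw [← mul_smul, ← Subgroup.mem_centralizer_singleton_iff.1 g.2.1, mul_smul, mem_fix.1 v.2]
  · refine inv_mul_eq_one.1 ((h.decomp hc H).2 _
      (Subgroup.mem_centralizer_singleton_iff.1 (g⁻¹ * g').2.2) fun v hv => ?_)
    rw [mul_smul, inv_smul_eq_iff]
    exact (congrArg Subtype.val (DFunLike.congr_fun e ⟨v, hv⟩)).symm

omit [U.Normal] in
theorem Free.le_of_card (hU : Free V U) {K L : AddSubgroup V} (hKL : K ≤ L) {v : V} (hv : v ∈ K)
    (h0 : v ≠ 0) (hK : ∀ u ∈ U, ∀ v ∈ K, u • v ∈ K) (hL : Nat.card L ≤ Nat.card U + 1) : K = L := by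
  have h1 : 1 < Nat.card K := (AddSubgroup.one_lt_card_iff_ne_bot K).2 fun e =>
    h0 (AddSubgroup.mem_bot.1 (e.le hv))
  have h2 := Nat.le_of_dvd (by omega) (hU.dvd K hK)
  exact AddSubgroup.eq_of_le_of_card_ge hKL (by omega)

theorem Setup.card_cent_le' (h : Setup S b) (hc : Comm U) (H : HeisData U X l a y z)
    (hk : Nat.card (fix V a) = l + 1) :
    Nat.card ↥(Subgroup.centralizer {a} ⊓ Subgroup.centralizer {y}) ≤ l := by
  obtain ⟨⟨w, hw⟩, h0⟩ := AddSubgroup.ne_bot_iff_exists_ne_zero.1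
    ((AddSubgroup.one_lt_card_iff_ne_bot (fix V a)).1 (by have := H.prime.pos; omega))
  have h1 : w ≠ 0 := fun e => h0 (Subtype.ext e)
  have h2 : ((fix V a : Set V) \ {0}).ncard = l := by
    rw [Set.ncard_diff_singleton_of_mem (fix V a).zero_mem]
    exact (congrArg (· - 1) hk).trans rfl
  rw [← h2]
  refine Nat.card_le_card_of_injective (β := ((fix V a : Set V) \ {0} : Set V))
    (fun g => ⟨g.1 • w, ?_, fun e => h1 ((smul_eq_zero_iff_eq g.1).1 e)⟩) fun g g' e => Subtype.ext ?_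
  · change a • g.1 • w = g.1 • w
    rw [← mul_smul, ← Subgroup.mem_centralizer_singleton_iff.1 g.2.1, mul_smul, mem_fix.1 hw]
  have h3 : Commute (g⁻¹ * g').1 a := Subgroup.mem_centralizer_singleton_iff.1 (g⁻¹ * g').2.1
  have h4 : Commute (g⁻¹ * g').1 y := Subgroup.mem_centralizer_singleton_iff.1 (g⁻¹ * g').2.2
  have h5 : Commute (g⁻¹ * g').1 z := by
    rw [show z = (a * y)⁻¹ * (y * a) by rw [H.rel, inv_mul_cancel_left]]
    exact (h3.mul_right h4).inv_right.mul_right (h4.mul_right h3)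
  have h6 : Subgroup.zpowers z ≤ U := Subgroup.zpowers_le.2 H.hz
  have h7 := Free.le_of_card (U := Subgroup.zpowers z) (fun u hu => h.free hc u (h6 hu))
    (inf_le_left : fix V a ⊓ fix V (g⁻¹ * g').1 ≤ _) (v := w) ⟨hw, by
      change ((g : S)⁻¹ * g') • w = w
      rw [mul_smul, inv_smul_eq_iff]; exact (congrArg Subtype.val e).symm⟩ h1
    (by
      rintro _ ⟨i, rfl⟩ v hv
      constructor
      · change a • z ^ i • v = z ^ i • v
        rw [← mul_smul, ((H.cent a H.ha z H.hz).zpow_right i).eq, mul_smul, mem_fix.1 hv.1]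
      · change (g⁻¹ * g').1 • z ^ i • v = z ^ i • v
        rw [← mul_smul, (h5.zpow_right i).eq, mul_smul, mem_fix.1 hv.2])
    (by rw [hk, Nat.card_zpowers, H.order])
  exact inv_mul_eq_one.1 ((h.decomp hc H).2 _ h4 fun v hv => (h7.ge hv).2)

end Cfsg.B2.Sp
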