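import Cfsg.Agent.B2.TensA

set_option autoImplicit false
set_option linter.style.haveILetI false

namespace Cfsg.B2

open Module

theorem Reg2.ne_zero {F V Γ : Type} [Field F] [AddCommGroup V] [Module F V] [Group Γ]
    [Nontrivial V] {ρ : Γ →* Module.End F V} (h : Reg2 ρ) :
    ∃ x y : V, x ≠ 0 ∧ ∀ g, ρ g x = x → ρ g y = y → ρ g = 1 := by
  obtain ⟨x, y, key⟩ := h
  by_cases hx : x = 0
  · by_cases hy : y = 0
    · obtain ⟨z, hz⟩ := exists_ne (0 : V)
      exact ⟨z, z, hz, fun g _ _ => key g (by rw [hx, map_zero]) (by rw [hy, map_zero])⟩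
    · exact ⟨y, x, hy, fun g h1 h2 => key g h2 h1⟩
  · exact ⟨x, y, hx, key⟩

section
variable {F V G : Type} [Field F] [AddCommGroup V] [Module F V] [Group G]
  {σ : G →* Module.End F V}

theorem spanAlg_ind {P : End F V → Prop} (h1 : ∀ a, P (σ a)) (h0 : P 0)
    (ha : ∀ r s, P r → P s → P (r + s)) (hs : ∀ (c : F) r, P r → P (c • r)) :
    ∀ r ∈ spanAlg σ, P r := by
  intro r hr
  induction hr using Submodule.span_induction with
  | mem x hx => obtain ⟨a, rfl⟩ := hx; exact h1 a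
  | zero => exact h0
  | add a b _ _ h1 h2 => exact ha a b h1 h2
  | smul c a _ h => exact hs c a h

theorem Heis.res (h : Heis σ ⊤) {U : Submodule F V} (hU0 : U ≠ ⊥) (hU : ∀ g, ∀ v ∈ U, σ g v ∈ U) :
    Heis (res σ U hU) ⊤ ∧ ∀ a b, res σ U hU (a * b) = res σ U hU (b * a) → σ (a * b) = σ (b * a) := by
  have key : ∀ a b, B2.res σ U hU (a * b) = B2.res σ U hU (b * a) → σ (a * b) = σ (b * a) := by
    intro a b hab
    obtain ⟨c, hc⟩ := h.comm a trivial b trivial
    obtain ⟨v, hv, hv0⟩ := Submodule.exists_mem_ne_zero_of_ne_bot hU0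
    have h1 : σ (a * b) v = σ (b * a) v := congrArg Subtype.val (LinearMap.congr_fun hab ⟨v, hv⟩)
    rw [hc, LinearMap.smul_apply] at h1
    have : c = 1 := smul_left_injective F (fun h => hv0 ((apply_eq_zero σ _).1 h)) (by
      show _ = (1 : F) • _
      rw [one_smul]; exact h1)
    rw [hc, this, one_smul]
  refine ⟨⟨fun a _ b _ => ?_, fun a _ ha => ?_⟩, key⟩
  · obtain ⟨c, hc⟩ := h.comm a trivial b trivial
    exact ⟨c, by ext v; rw [res_apply, hc]; rfl⟩
  · obtain ⟨c, hc⟩ := h.nondeg a trivial fun b _ => key a b (ha b trivial)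
    exact ⟨c, by ext v; rw [res_apply, hc]; rfl⟩

/-- the tensor decomposition `V = U ⊗ W` in disguise -/
theorem Heis.exists_theta [Fintype G] [Finite V] (h : Heis σ ⊤) (hc : (Fintype.card G : F) ≠ 0)
    {U : Submodule F V} (hU0 : U ≠ ⊥) (hU : ∀ g, ∀ v ∈ U, σ g v ∈ U) (hi : Irr (B2.res σ U hU) ⊤) :
    ∃ θ : End F U →ₐ[F] End F V, Function.Injective θ ∧ (∀ r, θ r ∈ spanAlg σ) ∧
      ∀ r ∈ spanAlg σ, ∃ s, θ s = r := by
  have hinv : ∀ r ∈ spanAlg σ, ∀ v ∈ U, r v ∈ U :=
    spanAlg_ind hU (by simp) (fun r s h1 h2 v hv => U.add_mem (h1 v hv) (h2 v hv))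
      (fun c r h1 v hv => U.smul_mem c (h1 v hv))
  let R : spanAlg σ →ₐ[F] End F U :=
    { toFun := fun r => (r : End F V).restrict (hinv r r.2)
      map_one' := by ext v; simp
      map_mul' := fun a b => by ext v; simp
      map_zero' := by ext v; simp
      map_add' := fun a b => by ext v; simp
      commutes' := fun c => by ext v; simp [Algebra.algebraMap_eq_smul_one] }
  have hR : Function.Bijective R := by
    constructor
    · rw [injective_iff_map_eq_zero]
      intro r hr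
      exact Subtype.ext (h.eq_zero_of_res hc hU0 hU r.2 fun v hv =>
        congrArg Subtype.val (LinearMap.congr_fun hr ⟨v, hv⟩))
    · intro s
      have hs : s ∈ spanAlg (B2.res σ U hU) :=
        (h.res hU0 hU).1.spanAlg_eq_top hc hi ▸ Algebra.mem_top
      refine spanAlg_ind (P := fun s => ∃ r, R r = s) (fun a => ⟨⟨σ a, rho_mem_spanAlg σ a⟩, rfl⟩)
        ⟨0, map_zero R⟩ ?_ ?_ s hs
      · rintro _ _ ⟨a, rfl⟩ ⟨b, rfl⟩; exact ⟨a + b, map_add R a b⟩
      · rintro c _ ⟨a, rfl⟩; exact ⟨c • a, map_smul R c a⟩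
  let e := AlgEquiv.ofBijective R hR
  refine ⟨(spanAlg σ).val.comp (e.symm : End F U →ₐ[F] spanAlg σ),
    Subtype.val_injective.comp e.symm.injective, fun r => (e.symm r).2, fun r hr =>
    ⟨e ⟨r, hr⟩, ?_⟩⟩
  show ((e.symm (e ⟨r, hr⟩) : spanAlg σ) : End F V) = r
  rw [e.symm_apply_apply]

theorem exists_conj_unit {U : Type} [AddCommGroup U] [Module F U] [Finite U]
    (θ : End F U →ₐ[F] End F V) (hθ : Function.Injective θ) (T T' : End F V) (h1 : T * T' = 1)
    (h2 : T' * T = 1) (hT : ∀ r, ∃ s, θ s = T * θ r * T') :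
    ∃ a : (End F U)ˣ, ∀ r, T * θ r = θ (a * r * ↑a⁻¹) * T := by
  haveI : Finite (End F U) := Finite.of_injective _ (DFunLike.coe_injective (F := U →ₗ[F] U))
  choose f hf using hT
  let f' : End F U →ₐ[F] End F U :=
    { toFun := f
      map_one' := hθ (by rw [hf, map_one, mul_one, h1])
      map_mul' := fun a b => hθ (by
        rw [hf, map_mul, map_mul, hf, hf]
        simp only [mul_assoc]
        rw [← mul_assoc T' T, h2, one_mul])
      map_zero' := hθ (by rw [hf, map_zero, mul_zero, zero_mul])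
      map_add' := fun a b => hθ (by rw [hf, map_add, map_add, hf, hf, mul_add, add_mul])
      commutes' := fun c => hθ (by
        rw [hf, AlgHom.commutes, ← Algebra.commutes, mul_assoc, h1, mul_one]) }
  have hinj : Function.Injective f' := fun a b hab => hθ (by
    have := congrArg (fun r => T' * θ r * T) hab
    change T' * θ (f a) * T = T' * θ (f b) * T at this
    rw [hf, hf] at this
    simpa only [← mul_assoc, h2, one_mul, mul_assoc _ T' T, mul_one] using this)
  obtain ⟨L, hL⟩ := (AlgEquiv.ofBijective f' (Finite.injective_iff_bijective.1 hinj)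
    ).eq_linearEquivConjAlgEquiv
  refine ⟨LinearMap.GeneralLinearGroup.ofLinearEquiv L, fun r => ?_⟩
  have : f r = (LinearMap.GeneralLinearGroup.ofLinearEquiv L : (End F U)ˣ) * r *
      ↑(LinearMap.GeneralLinearGroup.ofLinearEquiv L : (End F U)ˣ)⁻¹ := congrArg (fun e => e r) hL
  rw [← this, hf, mul_assoc, h2, mul_one]

end

variable {p : ℕ} {F V Γ : Type} [Field F] [Finite F] [CharP F p] [AddCommGroup V] [Module F V]
  [Finite V] [Group Γ] [Finite Γ] {ρ : Γ →* Module.End F V} {N : Subgroup Γ}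

/-- Lemma T -/
theorem reg2_of_tensor (hp : p.Prime) (ih : IH p (Module.finrank F V))
    (hs : Group.IsSolvable Γ) (hc : ¬ p ∣ Nat.card Γ) (h : Heis ρ N) (hna : ¬ N ≤ scal ρ)
    (horb : ∀ g, g ∉ Subgroup.normalizer (N : Set Γ) → ∀ a ∈ N, ∀ b ∈ N,
      ρ a * ρ (g * b * g⁻¹) = ρ (g * b * g⁻¹) * ρ a)
    (hred : ¬ Irr ρ N) : Reg2 ρ := by
  classical
  haveI := Fact.mk hp
  haveI := Fintype.ofFinite N
  haveI : Module.Finite F V := Module.Finite.of_finite
  have hcN : (Fintype.card N : F) ≠ 0 := card_ne_zero hc N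
  unfold Irr at hred
  push Not at hred
  obtain ⟨W, hW, hW0, hW1⟩ := hred
  obtain ⟨U, ⟨hU0, hU⟩, hmin⟩ := (wellFounded_lt (α := Submodule F V)).has_min
    {U | U ≠ ⊥ ∧ ∀ g ∈ N, ∀ v ∈ U, ρ g v ∈ U} ⟨W, hW0, hW⟩
  have hU1 : U ≠ ⊤ := fun h => hmin W ⟨hW0, hW⟩ (h ▸ lt_top_iff_ne_top.2 hW1)
  let σ₀ := ρ.comp N.subtype
  have hU' : ∀ g : N, ∀ v ∈ U, σ₀ g v ∈ U := fun g => hU g g.2
  let σ := res σ₀ U hU'
  have hi : Irr σ ⊤ := by
    intro X hX
    by_contra hcon
    push Not at hcon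
    refine hmin (X.map U.subtype) ⟨fun h => hcon.1 ?_, ?_⟩ ?_
    · apply Submodule.map_injective_of_injective U.injective_subtype
      rw [h, Submodule.map_bot]
    · rintro g hg _ ⟨v, hv, rfl⟩
      exact ⟨σ ⟨g, hg⟩ v, hX _ trivial v hv, rfl⟩
    · refine lt_of_le_of_ne (Submodule.map_subtype_le U X) fun h => hcon.2 ?_
      apply Submodule.map_injective_of_injective U.injective_subtype
      rw [h, Submodule.map_subtype_top]
  obtain ⟨hσ, hσc⟩ := h.sub.res hU0 hU'
  obtain ⟨θ, hθ, hθ1, hθ2⟩ := h.sub.exists_theta hcN hU0 hU' hi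
  haveI : Nontrivial U := Submodule.nontrivial_iff_ne_bot.2 hU0
  haveI : Finite (End F U) := Finite.of_injective _ (DFunLike.coe_injective (F := U →ₗ[F] U))
  have hgi : ∀ g : Γ, ρ g⁻¹ * ρ g = 1 := fun g => by rw [← map_mul, inv_mul_cancel, map_one]
  have hig : ∀ g : Γ, ρ g * ρ g⁻¹ = 1 := fun g => by rw [← map_mul, mul_inv_cancel, map_one]
  let Γ' : Subgroup (Γ × (End F U)ˣ) :=
    { carrier := {x | ∀ r, ρ x.1 * θ r = θ (x.2 * r * ↑x.2⁻¹) * ρ x.1}
      one_mem' := by simp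
      mul_mem' := fun {a b} ha hb r => by
        rw [Prod.fst_mul, map_mul, mul_assoc, hb, ← mul_assoc, ha]
        simp only [Prod.snd_mul, Units.val_mul, mul_inv_rev, mul_assoc]
      inv_mem' := fun {a} ha r => by
        have := congrArg (fun f => ρ a.1⁻¹ * f * ρ a.1⁻¹) (ha (↑a.2⁻¹ * r * a.2))
        simp only [← mul_assoc, hgi, one_mul, mul_assoc _ (ρ a.1), hig, mul_one, Units.mul_inv,
          Units.mul_inv_cancel_right] at this
        simp only [Prod.fst_inv, Prod.snd_inv, inv_inv]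
        exact this.symm }
  have hker : ∀ x ∈ Γ', x.1 = 1 → ∃ c : F, (x.2 : End F U) = c • 1 := by
    intro x hx h1
    have hx' : ∀ r, (x.2 : End F U) * r * ↑x.2⁻¹ = r := fun r => hθ (by
      have := hx r
      rw [h1, map_one, one_mul, mul_one] at this
      exact this.symm)
    refine hσ.scalar_of_comm hcN (hσ.spanAlg_eq_top hcN hi ▸ Algebra.mem_top) fun a => ?_
    conv_lhs => rw [← hx' (res σ₀ U hU' a), Units.inv_mul_cancel_right, mul_assoc, ← map_mul,
      mul_inv_cancel, map_one, mul_one]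
  have hs' : Group.IsSolvable Γ' := by
    let f : Γ' →* Γ := (MonoidHom.fst _ _).comp Γ'.subtype
    haveI : Group.IsSolvable f.ker := Group.isSolvable_of_comm fun a b => by
      obtain ⟨c, hc⟩ := hker a.1.1 a.1.2 a.2
      refine Subtype.ext (Subtype.ext (Prod.ext ?_ (Units.ext ?_)))
      · have h1 : a.1.1.1 = 1 := a.2
        show a.1.1.1 * b.1.1.1 = b.1.1.1 * a.1.1.1
        rw [h1, one_mul, mul_one]
      · show (a.1.1.2 : End F U) * b.1.1.2 = b.1.1.2 * a.1.1.2
        rw [hc, smul_mul_assoc, mul_smul_comm, one_mul, mul_one]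
    exact Group.isSolvable_of_ker_le_range f.ker.subtype f (by simp)
  have hc' : ¬ p ∣ Nat.card Γ' := by
    intro hd
    obtain ⟨x, hx⟩ := exists_prime_orderOf_dvd_card' p hd
    have h0 : x.1 ^ p = 1 := by rw [← Subgroup.coe_pow, ← hx, pow_orderOf_eq_one]; rfl
    have h1 : x.1.1 = 1 := by
      have h2 : orderOf x.1.1 ∣ p := orderOf_dvd_of_pow_eq_one (congrArg Prod.fst h0)
      rcases (Nat.dvd_prime hp).1 h2 with h | h
      · exact orderOf_eq_one_iff.1 h
      · exact absurd (h ▸ orderOf_dvd_natCard x.1.1) hc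
    obtain ⟨c, hc⟩ := hker x.1 x.2 h1
    have h2 : (x.1.2 : End F U) ^ p = 1 := by
      rw [← Units.val_pow_eq_pow_val, show x.1.2 ^ p = 1 from congrArg Prod.snd h0, Units.val_one]
    rw [hc, smul_pow, one_pow] at h2
    have h3 : c ^ p = 1 := smul_left_injective F (one_ne_zero (α := End F U)) (by
      show _ = (1 : F) • _
      rw [one_smul]; exact h2)
    have h4 : c = 1 := (frobenius F p).injective (by rw [frobenius_def, h3, map_one])
    have : x = 1 := Subtype.ext (Prod.ext h1 (Units.ext (by rw [hc, h4, one_smul]; rfl)))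
    rw [this, orderOf_one] at hx
    exact hp.one_lt.ne hx
  let α : Γ' →* End F U := (Units.coeHom _).comp ((MonoidHom.snd _ _).comp Γ'.subtype)
  obtain ⟨x₁, y, hx₁, key⟩ := (ih F U Γ' hs' hc' (Submodule.finrank_lt hU1) α).ne_zero
  obtain ⟨π, p1, p2, p3⟩ := exists_proj (p := p) (Γ := stab α x₁)
    (fun h => hc' (h.trans (Subgroup.card_subgroup_dvd_card _))) (α.comp (stab α x₁).subtype)
    (Submodule.span F {x₁}) (fun g v hv => by
      obtain ⟨c, rfl⟩ := Submodule.mem_span_singleton.1 hv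
      have : α g x₁ = x₁ := g.2
      show α g (c • x₁) ∈ _
      rw [map_smul, this]
      exact hv)
  obtain ⟨f, hf⟩ := Module.Projective.exists_dual_eq_one F hx₁
  let φ : Dual F U := f ∘ₗ π
  have hπ : φ.smulRight x₁ = π := by
    ext1 v
    obtain ⟨c, hc⟩ := Submodule.mem_span_singleton.1 (p1 v)
    rw [LinearMap.smulRight_apply, LinearMap.comp_apply, ← hc, map_smul, hf, smul_eq_mul, mul_one]
  have hφ : φ x₁ = 1 := by
    rw [LinearMap.comp_apply, p2 _ (Submodule.mem_span_singleton_self _), hf]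
  obtain ⟨y₁, hy₁, hφy, key'⟩ : ∃ y₁ : U, y₁ ≠ 0 ∧ φ y₁ = 0 ∧
      ∀ g, α g x₁ = x₁ → α g y₁ = y₁ → α g = 1 := by
    by_cases hy : y - π y = 0
    · obtain ⟨y₁, h1, h2⟩ : ∃ y₁ : U, y₁ ≠ 0 ∧ φ y₁ = 0 := by
        by_contra hcon
        push Not at hcon
        have hall : ∀ v : U, v = φ v • x₁ := fun v => by
          by_contra hv
          refine hcon _ (sub_ne_zero.2 hv) ?_
          rw [map_sub, map_smul, hφ, smul_eq_mul, mul_one, sub_self]
        refine hna fun a ha => h.nondeg a ha fun b hb => hσc ⟨a, ha⟩ ⟨b, hb⟩ ?_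
        ext1 v
        rw [hall v, map_smul, map_smul, mul_apply', mul_apply', hall (res σ₀ U hU' ⟨b, hb⟩ x₁),
          hall (res σ₀ U hU' ⟨a, ha⟩ x₁), map_smul, map_smul, hall (res σ₀ U hU' ⟨b, hb⟩ x₁),
          hall (res σ₀ U hU' ⟨a, ha⟩ x₁)]
        simp only [map_smul, hφ, smul_eq_mul, mul_one, smul_smul]
        ring_nf
      refine ⟨y₁, h1, h2, fun g hg _ => key g hg ?_⟩
      obtain ⟨c, hc⟩ := Submodule.mem_span_singleton.1 (p1 y)
      rw [sub_eq_zero.1 hy, ← hc, map_smul, hg]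
    · refine ⟨y - π y, hy, ?_, fun g hg hg' => key g hg ?_⟩
      · rw [LinearMap.comp_apply, map_sub, p2 _ (p1 y), sub_self, map_zero]
      · obtain ⟨c, hc⟩ := Submodule.mem_span_singleton.1 (p1 y)
        rw [map_sub, ← hc, map_smul, hg] at hg'
        exact sub_left_injective hg'
  have hS : ∀ x ∈ Γ', ∀ c : F, (x.2 : End F U) x₁ = c • x₁ →
      (x.2 : End F U) * φ.smulRight x₁ = φ.smulRight x₁ * x.2 ∧
        ((x.2 : End F U) y₁ = c • y₁ → (x.2 : End F U) = c • 1) := by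
    intro x hx c hc
    have hc0 : c ≠ 0 := fun h0 => hx₁ ((apply_eq_zero α ⟨x, hx⟩).1 (by
      show (x.2 : End F U) x₁ = 0
      rw [hc, h0, zero_smul]))
    let cu : (End F U)ˣ := Units.map (algebraMap F (End F U)).toMonoidHom (Units.mk0 c hc0)⁻¹
    have hcu : (cu : End F U) = c⁻¹ • 1 := Algebra.algebraMap_eq_smul_one _
    have hm : ((1, cu) : Γ × (End F U)ˣ) ∈ Γ' := fun r => by
      have : (cu : End F U) * r = r * cu := Algebra.commutes _ _
      simp only [map_one, one_mul, mul_one]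
      rw [this, Units.mul_inv_cancel_right]
    let g : Γ' := ⟨(1, cu) * x, Γ'.mul_mem hm hx⟩
    have hg : α g = c⁻¹ • (x.2 : End F U) := by
      show (cu : End F U) * x.2 = _
      rw [hcu, smul_mul_assoc, one_mul]
    have hgx : α g x₁ = x₁ := by
      rw [hg, LinearMap.smul_apply, hc, smul_smul, inv_mul_cancel₀ hc0, one_smul]
    constructor
    · have h1 : α g * π = π * α g := p3 ⟨g, hgx⟩
      rw [hg, smul_mul_assoc, mul_smul_comm] at h1
      rw [hπ]
      exact smul_right_injective _ (inv_ne_zero hc0) h1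
    · intro hy
      have := key' g hgx (by
        rw [hg, LinearMap.smul_apply, hy, smul_smul, inv_mul_cancel₀ hc0, one_smul])
      rw [← this, hg, smul_smul, mul_inv_cancel₀ hc0, one_smul]
  have hnorm : ∀ n ∈ Subgroup.normalizer (N : Set Γ), ∃ a : (End F U)ˣ, (n, a) ∈ Γ' := by
    intro n hn
    refine exists_conj_unit θ hθ (ρ n) (ρ n⁻¹) (hig n) (hgi n) fun r => hθ2 _ ?_
    refine spanAlg_ind (σ := σ₀) (P := fun s => ρ n * s * ρ n⁻¹ ∈ spanAlg σ₀) (fun a => ?_)
      (by simp) (fun r s h1 h2 => ?_) (fun c r h1 => ?_) _ (hθ1 r)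
    · have := rho_mem_spanAlg σ₀ ⟨n * a * n⁻¹, (hn a).1 a.2⟩
      convert this using 1
      show _ = ρ (n * a * n⁻¹)
      rw [map_mul, map_mul]; rfl
    · rw [mul_add, add_mul]; exact add_mem h1 h2
    · rw [mul_smul_comm, smul_mul_assoc]; exact Subalgebra.smul_mem _ h1 c
  have hcom : ∀ g, g ∉ Subgroup.normalizer (N : Set Γ) → ∀ r s,
      θ r * (ρ g * θ s * ρ g⁻¹) = (ρ g * θ s * ρ g⁻¹) * θ r := by
    intro g hg r s
    refine spanAlg_ind (σ := σ₀) (P := fun r => r * (ρ g * θ s * ρ g⁻¹) = (ρ g * θ s * ρ g⁻¹) * r)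
      (fun a => ?_) (by simp) (fun r s h1 h2 => ?_) (fun c r h1 => ?_) _ (hθ1 r)
    · refine spanAlg_ind (σ := σ₀) (P := fun s => σ₀ a * (ρ g * s * ρ g⁻¹) = (ρ g * s * ρ g⁻¹) * σ₀ a)
        (fun b => ?_) (by simp) (fun r s h1 h2 => ?_) (fun c r h1 => ?_) _ (hθ1 s)
      · have := horb g hg a a.2 b b.2
        rw [map_mul, map_mul] at this
        exact this
      · rw [mul_add, add_mul, mul_add, add_mul, h1, h2]
      · rw [mul_smul_comm, smul_mul_assoc, mul_smul_comm, smul_mul_assoc, h1]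
    · rw [mul_add, add_mul, h1, h2]
    · rw [mul_smul_comm, smul_mul_assoc, h1]
  let M := Subgroup.normalizer (N : Set Γ)
  let e : Fin (Nat.card (Γ ⧸ M)) ≃ Γ ⧸ M := (Finite.equivFin _).symm
  let t : Fin (Nat.card (Γ ⧸ M)) → Γ := fun i => (e i).out
  let cj : Γ → (End F V →ₐ[F] End F V) := fun g =>
    { toFun := fun r => ρ g * r * ρ g⁻¹
      map_one' := by rw [mul_one, hig]
      map_mul' := fun a b => by
        simp only [mul_assoc]
        rw [← mul_assoc (ρ g⁻¹) (ρ g), hgi, one_mul]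
      map_zero' := by simp
      map_add' := fun a b => by rw [mul_add, add_mul]
      commutes' := fun c => by rw [← Algebra.commutes, mul_assoc, hig, mul_one] }
  have hcj : ∀ g r, cj g r = ρ g * r * ρ g⁻¹ := fun _ _ => rfl
  refine tens_core ih hs hc hφ hφy hy₁ Nat.card_pos (fun i => (cj (t i)).comp θ)
    (fun i j hij r s => ?_) (fun g i => ?_)
  · have hg : (t i)⁻¹ * t j ∉ M := by
      rw [← QuotientGroup.eq, QuotientGroup.out_eq', QuotientGroup.out_eq']
      exact fun h => hij (e.injective h)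
    have := congrArg (cj (t i)) (hcom _ hg r s)
    have e1 : cj (t i) (ρ ((t i)⁻¹ * t j) * θ s * ρ ((t i)⁻¹ * t j)⁻¹) = cj (t j) (θ s) := by
      simp only [hcj, mul_inv_rev, inv_inv, map_mul, ← mul_assoc, hig, one_mul]
      rw [mul_assoc _ (ρ (t i)), hig, mul_one]
    rw [map_mul, map_mul (cj (t i)) _ (θ r), e1] at this
    exact this
  · let j := e.symm (g • e i)
    have hn : (t j)⁻¹ * (g * t i) ∈ M := by
      rw [← QuotientGroup.eq, QuotientGroup.out_eq', Equiv.apply_symm_apply, ← smul_eq_mul,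
        ← MulAction.Quotient.smul_coe, QuotientGroup.out_eq']
    obtain ⟨a, ha⟩ := hnorm _ hn
    refine ⟨j, a, fun r => ?_, hS _ ha⟩
    have := congrArg (fun f => ρ (t j) * f * ρ (t i)⁻¹) (ha r)
    simp only [map_mul ρ, ← mul_assoc, hig, one_mul] at this
    simp only [AlgHom.comp_apply, hcj, ← mul_assoc]
    rw [this, mul_assoc _ (ρ (t i)), hig, mul_one]

end Cfsg.B2
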