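import Cfsg.Agent.B2.Heis

set_option autoImplicit false
set_option linter.style.haveILetI false

namespace Cfsg.B2

open Module

section
variable {F V U : Type} [Field F] [AddCommGroup V] [Module F V] [AddCommGroup U] [Module F U]
  {x₁ : U} {φ : Dual F U}

theorem tens_ann (hφ : φ x₁ = 1) (θ : End F U →ₐ[F] End F V) {w : V} (hw0 : w ≠ 0)
    (hw : θ (φ.smulRight x₁) w = w) (r : End F U) : θ r w = 0 ↔ r x₁ = 0 := by
  constructor
  · intro h
    by_contra h0
    obtain ⟨f, hf⟩ := Module.Projective.exists_dual_eq_one F h0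
    have e : f.smulRight x₁ * r * φ.smulRight x₁ = φ.smulRight x₁ := by
      ext v; simp [hf]
    apply hw0
    rw [← hw, ← e, map_mul, map_mul, End.mul_apply, End.mul_apply, hw, h, map_zero]
  · intro h
    have e : r * φ.smulRight x₁ = 0 := by
      ext v; simp [h]
    rw [← hw, ← End.mul_apply, ← map_mul, e, map_zero, LinearMap.zero_apply]

theorem tens_kill [Module.Finite F U] (hφ : φ x₁ = 1) (θ : End F U →ₐ[F] End F V) (D : End F V)
    (hD : ∀ r, D * θ r = θ r * D) {w : V} (h : ∀ r, D (θ (φ.smulRight x₁) (θ r w)) = 0) :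
    D w = 0 := by
  let b := Module.finBasis F U
  have e : ∑ i, φ.smulRight (b i) * φ.smulRight x₁ * (b.coord i).smulRight x₁ = 1 := by
    ext v
    simp [LinearMap.sum_apply, hφ]
  have : w = ∑ i, θ (φ.smulRight (b i)) (θ (φ.smulRight x₁) (θ ((b.coord i).smulRight x₁) w)) := by
    conv_lhs => rw [← End.one_apply (R := F) w, ← map_one θ, ← e, map_sum, LinearMap.sum_apply]
    simp only [map_mul, End.mul_apply]
  rw [this, map_sum]
  refine Finset.sum_eq_zero fun i _ => ?_
  rw [← End.mul_apply, hD, End.mul_apply, h, map_zero]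

theorem tens_zero [Module.Finite F U] (hφ : φ x₁ = 1) {ι : Type} (θ : ι → (End F U →ₐ[F] End F V))
    (hcomm : ∀ i j, i ≠ j → ∀ r s, θ i r * θ j s = θ j s * θ i r) (D : End F V)
    (hD : ∀ i r, D * θ i r = θ i r * D) (s : Finset ι) :
    (∀ w, (∀ i ∈ s, θ i (φ.smulRight x₁) w = w) → D w = 0) → D = 0 := by
  classical
  induction s using Finset.induction_on with
  | empty => intro h; ext w; exact h w (by simp)
  | insert j s hj ih =>
    intro h
    refine ih fun w hw => tens_kill hφ (θ j) D (hD j) fun r => h _ fun i hi => ?_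
    rcases Finset.mem_insert.1 hi with rfl | hi
    · rw [← End.mul_apply, ← map_mul]
      congr 2
      ext v; simp [hφ]
    · have hij : i ≠ j := fun h => hj (h ▸ hi)
      rw [← End.mul_apply, hcomm i j hij, End.mul_apply, ← End.mul_apply (θ i _), hcomm i j hij,
        End.mul_apply, hw i hi]

end

variable {p : ℕ} {F V Γ : Type} [Field F] [Finite F] [CharP F p] [AddCommGroup V] [Module F V]
  [Finite V] [Group Γ] [Finite Γ] {ρ : Γ →* Module.End F V}

theorem tens_core (ih : IH p (Module.finrank F V)) (hs : Group.IsSolvable Γ)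
    (hc : ¬ p ∣ Nat.card Γ) {U : Type} [AddCommGroup U] [Module F U] [Module.Finite F U]
    {x₁ y₁ : U} {φ : Dual F U} (hφ : φ x₁ = 1) (hφy : φ y₁ = 0) (hy₁ : y₁ ≠ 0)
    {k : ℕ} (hk : 0 < k) (θ : Fin k → (End F U →ₐ[F] End F V))
    (hcomm : ∀ i j, i ≠ j → ∀ r s, θ i r * θ j s = θ j s * θ i r)
    (hmove : ∀ g i, ∃ j, ∃ a : (End F U)ˣ, (∀ r, ρ g * θ i r = θ j (a * r * ↑a⁻¹) * ρ g) ∧
      ∀ c : F, (a : End F U) x₁ = c • x₁ → (a : End F U) * φ.smulRight x₁ = φ.smulRight x₁ * a ∧
        ((a : End F U) y₁ = c • y₁ → (a : End F U) = c • 1)) : Reg2 ρ := by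
  classical
  rcases subsingleton_or_nontrivial V with hV | hV
  · exact ⟨0, 0, fun g _ _ => Subsingleton.elim _ _⟩
  set E : End F U := φ.smulRight x₁ with hE
  set u : End F U := φ.smulRight y₁ with hu
  have hux : u x₁ = y₁ := by simp [hu, hφ]
  have hEu : E * u = 0 := by ext v; simp [hE, hu, hφy]
  have hx₁ : x₁ ≠ 0 := fun h => by rw [h, map_zero] at hφ; exact zero_ne_one hφ
  let V₀ : Submodule F V := ⨅ i, LinearMap.eqLocus (θ i E) 1
  have hV₀ : ∀ w, w ∈ V₀ ↔ ∀ i, θ i E w = w := fun w => by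
    simp only [V₀, Submodule.mem_iInf, LinearMap.mem_eqLocus, End.one_apply]
  have hV0 : V₀ ≠ ⊥ := fun h => one_ne_zero (tens_zero hφ θ hcomm 1 (fun i r => by simp)
    Finset.univ fun w hw => by
      have : w ∈ V₀ := (hV₀ w).2 fun i => hw i (Finset.mem_univ i)
      rw [h] at this
      exact this)
  have hV1 : V₀ ≠ ⊤ := fun h => by
    obtain ⟨w, hw⟩ := exists_ne (0 : V)
    have h1 := (tens_ann hφ (θ ⟨0, hk⟩) hw ((hV₀ w).1 (h ▸ Submodule.mem_top) _) u).1 (by
      rw [← (hV₀ (θ ⟨0, hk⟩ u w)).1 (h ▸ Submodule.mem_top) ⟨0, hk⟩, ← End.mul_apply, ← map_mul,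
        hEu, map_zero, LinearMap.zero_apply])
    exact hy₁ (hux ▸ h1)
  let Γ₀ : Subgroup Γ :=
    { carrier := {g | ∀ i, ρ g * θ i E = θ i E * ρ g}
      one_mem' := by simp
      mul_mem' := fun {a b} ha hb i => by rw [map_mul, mul_assoc, hb, ← mul_assoc, ha, mul_assoc]
      inv_mem' := fun {a} ha i => by
        have := congrArg (fun f => ρ a⁻¹ * f * ρ a⁻¹) (ha i)
        simp only [← mul_assoc] at this
        rw [← map_mul, inv_mul_cancel, map_one, one_mul, mul_assoc _ (ρ a), ← map_mul,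
          mul_inv_cancel, map_one, mul_one] at this
        exact this.symm }
  obtain ⟨x₀, hx₀, y₀, hy₀, hx0, key⟩ := ih.sub hs hc ρ Γ₀ V₀ hV0 hV1 (fun g hg v hv =>
    (hV₀ _).2 fun i => by rw [← End.mul_apply, ← hg i, End.mul_apply, (hV₀ v).1 hv])
  let z : ℕ → V := fun l => Nat.rec x₀ (fun l w => if h : l < k then θ ⟨l, h⟩ u w else 0) l
  have z0 : z 0 = x₀ := rfl
  have zs : ∀ l : Fin k, z (l + 1) = θ l u (z l) := fun l => dif_pos l.2
  have z1 : ∀ l, l ≤ k → ∀ i : Fin k, l ≤ i → θ i E (z l) = z l := by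
    intro l
    induction l with
    | zero => intro _ i _; exact (hV₀ _).1 hx₀ i
    | succ l ih =>
      intro hl i hi
      have hne : i ≠ ⟨l, hl⟩ := fun h => by rw [h] at hi; simp at hi
      rw [zs ⟨l, hl⟩, ← End.mul_apply, hcomm _ _ hne, End.mul_apply, ih (by omega) i (by omega)]
  have z2 : ∀ l, l ≤ k → ∀ i : Fin k, i < l → θ i E (z l) = 0 := by
    intro l
    induction l with
    | zero => intro _ i hi; omega
    | succ l ih =>
      intro hl i hi
      rw [zs ⟨l, hl⟩, ← End.mul_apply]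
      by_cases hne : i = ⟨l, hl⟩
      · rw [hne, ← map_mul, hEu, map_zero, LinearMap.zero_apply]
      · have : (i : ℕ) ≠ l := fun h => hne (Fin.ext h)
        rw [hcomm _ _ hne, End.mul_apply, ih (by omega) i (by omega), map_zero]
  have z3 : ∀ l, l ≤ k → z l ≠ 0 := by
    intro l
    induction l with
    | zero => intro _; exact hx0
    | succ l ih =>
      intro hl h
      rw [zs ⟨l, hl⟩, tens_ann hφ _ (ih (by omega)) (z1 l (by omega) ⟨l, hl⟩ le_rfl), hux] at h
      exact hy₁ h
  have z4 : ∀ l ∈ Finset.range k, ∀ i : Fin k,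
      θ i E (z (l + 1)) = if l + 1 ≤ i then z (l + 1) else 0 := by
    intro l hl i
    rw [Finset.mem_range] at hl
    split_ifs with h
    · exact z1 _ hl i h
    · exact z2 _ hl i (by omega)
  let S : ℕ → V := fun j => ∑ l ∈ Finset.range k, if j ≤ l then z (l + 1) else 0
  have hS0 : S 0 = ∑ l ∈ Finset.range k, z (l + 1) := by simp [S]
  have hS : ∀ j : Fin k, S j = (y₀ + S 0) - θ j E (y₀ + S 0) := by
    intro j
    rw [map_add, (hV₀ _).1 hy₀, add_sub_add_left_eq_sub, hS0, map_sum, ← Finset.sum_sub_distrib]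
    refine Finset.sum_congr rfl fun l hl => ?_
    rw [z4 l hl]
    by_cases h : (j : ℕ) ≤ l
    · rw [if_pos h, if_neg (by omega), sub_zero]
    · rw [if_neg h, if_pos (by omega), sub_self]
  have hSz : ∀ j, j < k → z (j + 1) = S j - S (j + 1) := by
    intro j hj
    rw [← Finset.sum_sub_distrib, Finset.sum_eq_single j]
    · rw [if_pos le_rfl, if_neg (by omega), sub_zero]
    · intro l _ hl
      by_cases h : j ≤ l
      · rw [if_pos h, if_pos (by omega), sub_self]
      · rw [if_neg h, if_neg (by omega), sub_self]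
    · intro h; exact absurd (Finset.mem_range.2 hj) h
  have hES : ∀ i j : Fin k, θ i E (S j) = 0 ↔ i ≤ j := by
    intro i j
    have e : θ i E (S j) =
        ∑ l ∈ Finset.range k, if (j : ℕ) ≤ l ∧ l + 1 ≤ i then z (l + 1) else 0 := by
      rw [map_sum]
      refine Finset.sum_congr rfl fun l hl => ?_
      by_cases h : (j : ℕ) ≤ l
      · rw [if_pos h, z4 l hl]; simp [h]
      · simp [h]
    constructor
    · intro h
      by_contra hij
      have hij' : (j : ℕ) < i := not_le.1 hij
      have hj1 : (j : ℕ) + 1 < k := by omega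
      have h1 := congrArg (θ ⟨j + 1, hj1⟩ E) h
      rw [e, map_zero, map_sum, Finset.sum_eq_single (j : ℕ)] at h1
      · rw [if_pos ⟨le_rfl, hij'⟩, z1 (j + 1) hj1.le ⟨j + 1, hj1⟩ le_rfl] at h1
        exact z3 _ hj1.le h1
      · intro l hl hlj
        split_ifs with h2
        · exact z2 _ (Finset.mem_range.1 hl) _ (by simp only; omega)
        · exact map_zero _
      · intro h; exact absurd (Finset.mem_range.2 j.2) h
    · intro h
      have h' : (i : ℕ) ≤ j := h
      rw [e]
      exact Finset.sum_eq_zero fun l _ => if_neg (by omega)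
  refine ⟨x₀, y₀ + S 0, fun g hx hy => ?_⟩
  choose π a ha ha' using hmove g
  have hline : ∀ i, ∃ c : F, (a i : End F U) x₁ = c • x₁ := by
    intro i
    have h1 := LinearMap.congr_fun (ha i (1 - E)) x₀
    rw [End.mul_apply, End.mul_apply, hx, map_sub, map_one, LinearMap.sub_apply, End.one_apply,
      (hV₀ _).1 hx₀, sub_self, map_zero, eq_comm, tens_ann hφ _ hx0 ((hV₀ _).1 hx₀ _),
      End.mul_apply, End.mul_apply, LinearMap.sub_apply, map_sub, End.one_apply, ← End.mul_apply,
      Units.mul_inv, End.one_apply, sub_eq_zero, hE, LinearMap.smulRight_apply, map_smul] at h1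
    have h2 : φ ((↑(a i)⁻¹ : End F U) x₁) ≠ 0 := fun h => hx₁ (by rw [h1, h, zero_smul])
    exact ⟨_, by conv_rhs => rw [h1, smul_smul, inv_mul_cancel₀ h2, one_smul]⟩
  choose c hc using hline
  have hgE : ∀ i, ρ g * θ i E = θ (π i) E * ρ g := fun i => by
    rw [ha, (ha' i _ (hc i)).1, mul_assoc, Units.mul_inv, mul_one]
  have hgS : ∀ j : Fin k, ρ g (S j) = S (π j) := fun j => by
    rw [hS, hS (π j), map_sub, hy, ← End.mul_apply, hgE, End.mul_apply, hy]
  have hπ : ∀ i, π i = i := by
    have : StrictMono π := fun i j hij => by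
      by_contra h
      have h1 := (hES (π j) (π i)).2 (not_lt.1 h)
      rw [← hgS, ← End.mul_apply, ← hgE, End.mul_apply, apply_eq_zero, hES] at h1
      exact absurd hij (not_lt.2 h1)
    exact fun i => this.apply_eq
  have hgS' : ∀ j, ρ g (S j) = S j := fun j => by
    by_cases hj : j < k
    · have := hgS ⟨j, hj⟩
      rwa [hπ] at this
    · have : S j = 0 := Finset.sum_eq_zero fun l hl => if_neg (by
        rw [Finset.mem_range] at hl; omega)
      rw [this, map_zero]
  have hgz : ∀ l, l ≤ k → ρ g (z l) = z l := by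
    intro l hl
    cases l with
    | zero => exact hx
    | succ l => rw [hSz l hl, map_sub, hgS', hgS']
  have hg0 : g ∈ Γ₀ := fun i => by rw [hgE, hπ]
  have hy0 : ρ g y₀ = y₀ := by
    rw [map_add, hgS'] at hy
    exact add_right_cancel hy
  have hsc : ∀ i, (a i : End F U) = c i • 1 := fun i => by
    refine (ha' i _ (hc i)).2 ?_
    have h1 := LinearMap.congr_fun (ha i u) (z i)
    rw [End.mul_apply, End.mul_apply, ← zs, hgz _ i.2, hgz _ i.2.le, zs, hπ, ← sub_eq_zero,
      ← LinearMap.sub_apply, ← map_sub, tens_ann hφ _ (z3 _ i.2.le) (z1 _ i.2.le i le_rfl),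
      LinearMap.sub_apply, hux, sub_eq_zero, End.mul_apply, End.mul_apply] at h1
    have h2 : c i • (↑(a i)⁻¹ : End F U) x₁ = x₁ := by
      rw [← map_smul, ← hc, ← End.mul_apply, Units.inv_mul, End.one_apply]
    conv_rhs => rw [h1, ← map_smul, ← map_smul, h2, hux]
  have hD := tens_zero hφ θ hcomm (ρ g - 1) (fun i r => by
    have : (a i : End F U) * r * ↑(a i)⁻¹ = r := by
      have h1 : (a i : End F U) * r = r * a i := by rw [hsc, smul_mul_assoc, mul_smul_comm]; simp
      rw [h1, mul_assoc, Units.mul_inv, mul_one]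
    rw [sub_mul, mul_sub, ha, hπ, this, one_mul, mul_one]) Finset.univ (fun w hw => by
    rw [LinearMap.sub_apply, End.one_apply,
      key g hg0 hx hy0 w ((hV₀ w).2 fun i => hw i (Finset.mem_univ i)), sub_self])
  exact sub_eq_zero.1 hD

end Cfsg.B2
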