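import Cfsg.Agent.B2.TwoA
import Cfsg.Agent.B2.Tens

set_option autoImplicit false
set_option linter.style.haveILetI false

namespace Cfsg.B2

open Module
open scoped Pointwise

/-- the counting statement for symplectic chief factors -/
def SympStmt : Prop :=
  ∀ {Γ : Type} [Group Γ] [Finite Γ] (_ : Group.IsSolvable Γ) {W : Subgroup Γ}
    [W.Normal] (b : Γ → Γ → ZMod 2) {n p : ℕ} (_ : ∀ x ∈ W, x * x = 1)
    (_ : ∀ Y ≤ W, Y.Normal → Y = ⊥ ∨ Y = W)
    (_ : Subgroup.centralizer (W : Set Γ) ≤ W)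
    (_ : ∀ x ∈ W, ∀ y ∈ W, ∀ z ∈ W, b (x * y) z = b x z + b y z)
    (_ : ∀ x ∈ W, ∀ y ∈ W, b x y = b y x) (_ : ∀ x ∈ W, b x x = 0)
    (_ : ∀ x ∈ W, (∀ y ∈ W, b x y = 0) → x = 1)
    (_ : ∀ g, ∀ x ∈ W, ∀ y ∈ W, b (g * x * g⁻¹) (g * y * g⁻¹) = b x y)
    (_ : ∀ Y : Subgroup Γ, Y < W → Y ≠ ⊥ → (∀ x ∈ Y, (∀ y ∈ Y, b x y = 0) → x = 1) →
      ∃ g, MulAut.conj g • Y ≠ Y ∧ ∃ x ∈ Y, ∃ y ∈ Y, b x (g * y * g⁻¹) ≠ 0)
    (_ : Nat.card W = 4 ^ n) (_ : 2 ≤ n) (_ : p.Prime) (_ : p ≠ 2)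
    (_ : ¬ p ∣ Nat.card Γ),
    6 * Nat.card Γ + 4 * {g | g ∉ W ∧ g * g = 1 ∧ ∀ w ∈ W, b w (g * w * g⁻¹) = 0}.ncard *
        p ^ 2 ^ (n - 1) ≤ 3 * (p ^ 2 ^ (n - 1)) ^ 2 ∨
      (n = 2 ∧ p = 3 ∧ (∀ g, g * g = 1 → (∀ w ∈ W, b w (g * w * g⁻¹) = 0) → g ∈ W) ∧
        Nat.card Γ ≤ 320 ∧ {g : Γ | g * g = 1}.ncard ≤ 36 ∧
        ∀ l, l.Prime → l ∣ Nat.card Γ → l = 2 ∨ l = 5)

theorem mono_ineq {a c P Q : ℕ} (hP : 0 < P) (hPQ : P ≤ Q) (h : a + c * P ≤ 3 * P ^ 2) :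
    a + c * Q ≤ 3 * Q ^ 2 := by
  obtain ⟨d, rfl⟩ := Nat.exists_eq_add_of_le hPQ
  have : c ≤ 3 * P := by
    by_contra h'
    push Not at h'
    nlinarith
  nlinarith [Nat.mul_le_mul_right d this]

theorem mul_ncard_biUnion_le {ι α : Type} [Finite ι] (s : Set ι) (f : ι → Set α) {k B : ℕ}
    (h : ∀ i ∈ s, k * (f i).ncard ≤ B) : k * (⋃ i ∈ s, f i).ncard ≤ s.ncard * B := by
  have hs : s.Finite := Set.toFinite s
  lift s to Finset ι using hs
  have h1 := s.set_ncard_biUnion_le f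
  rw [Set.ncard_coe_finset]
  refine (Nat.mul_le_mul_left k h1).trans ?_
  rw [Finset.mul_sum]
  exact Finset.sum_le_card_nsmul s _ B h

section
variable {F V Γ : Type} [Field F] [AddCommGroup V] [Module F V] [Group Γ]
  {ρ : Γ →* Module.End F V}

theorem rel_of_mk_eq {a a' : Γ} (h : (a : Γ ⧸ scal ρ) = a') : ∃ c : F, ρ a' = c • ρ a := by
  obtain ⟨c, hc⟩ : a⁻¹ * a' ∈ scal ρ := QuotientGroup.eq.1 h
  exact ⟨c, by rw [← mul_inv_cancel_left a a', map_mul, hc, mul_smul_comm, mul_one]⟩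

theorem commute_of_mk_eq {a a' b b' : Γ} (ha : (a : Γ ⧸ scal ρ) = a') (hb : (b : Γ ⧸ scal ρ) = b')
    (h : Commute (ρ a) (ρ b)) : Commute (ρ a') (ρ b') := by
  obtain ⟨c, hc⟩ := rel_of_mk_eq ha
  obtain ⟨d, hd⟩ := rel_of_mk_eq hb
  rw [hc, hd]
  exact (h.smul_left c).smul_right d

open Classical in
/-- the commutator form -/
noncomputable def cform (ρ : Γ →* Module.End F V) (x y : Γ ⧸ scal ρ) : ZMod 2 :=
  if Commute (ρ x.out) (ρ y.out) then 0 else 1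

open Classical in
theorem cform_mk (a b : Γ) :
    cform ρ (a : Γ ⧸ scal ρ) b = if Commute (ρ a) (ρ b) then 0 else 1 := by
  unfold cform
  congr 1
  exact propext ⟨commute_of_mk_eq (QuotientGroup.out_eq' _) (QuotientGroup.out_eq' _),
    commute_of_mk_eq (QuotientGroup.out_eq' _).symm (QuotientGroup.out_eq' _).symm⟩

theorem cform_eq_zero {a b : Γ} : cform ρ (a : Γ ⧸ scal ρ) b = 0 ↔ Commute (ρ a) (ρ b) := by
  rw [cform_mk]
  split_ifs with h <;> simp [h]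

theorem mem_pairs_out {g : Γ} {x y : V} (hx : ρ g x = x) (hy : ρ g y = y) (h0 : (x, y) ≠ 0) :
    (x, y) ∈ pairs (ρ (g : Γ ⧸ scal ρ).out) := by
  obtain ⟨c, hc⟩ := rel_of_mk_eq (QuotientGroup.out_eq' (g : Γ ⧸ scal ρ)).symm
  exact ⟨h0, c, by rw [hc, LinearMap.smul_apply, hx], by rw [hc, LinearMap.smul_apply, hy]⟩

theorem eq_one_of_scal {g : Γ} {x y : V} (hx : ρ g x = x) (hy : ρ g y = y) (h0 : (x, y) ≠ 0)
    (hg : g ∈ scal ρ) : ρ g = 1 := by
  obtain ⟨c, hc⟩ := hg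
  rw [hc, LinearMap.smul_apply, End.one_apply] at hx hy
  have : c = 1 := smul_left_injective F h0 (by
    show c • (x, y) = (1 : F) • (x, y)
    rw [one_smul, Prod.smul_mk, hx, hy])
  rw [hc, this, one_smul]

end

variable {p : ℕ} {F V Γ : Type} [Field F] [Finite F] [CharP F p] [AddCommGroup V] [Module F V]
  [Finite V] [Group Γ] [Finite Γ] {ρ : Γ →* Module.End F V} {N : Subgroup Γ}

/-- the core for `2`-groups of symplectic type -/
theorem reg2_two (hp : p.Prime) (hp2 : p ≠ 2) (ih : IH p (Module.finrank F V))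
    (hs : Group.IsSolvable Γ) (hc : ¬ p ∣ Nat.card Γ) (hE : SympStmt) [hN : N.Normal]
    (h : Heis ρ N) (hi : Irr ρ N) (hna : ¬ N ≤ scal ρ) (hsq : ∀ a ∈ N, a * a ∈ scal ρ)
    (hmin : ∀ Y : Subgroup Γ, Y.Normal → Y ≤ N → Y ≤ scal ρ ∨ Y = N) : Reg2 ρ := by
  classical
  rcases subsingleton_or_nontrivial V with hV | hV
  · exact ⟨0, 0, fun g _ _ => Subsingleton.elim _ _⟩
  by_contra hR
  haveI := Fact.mk hp
  haveI : Module.Finite F V := Module.Finite.of_finite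
  have h2 : (2 : F) ≠ 0 := by
    intro h
    have := (CharP.cast_eq_zero_iff F p 2).1 (by exact_mod_cast h)
    exact hp2 ((Nat.prime_dvd_prime_iff_eq hp Nat.prime_two).1 this)
  let π : Γ →* Γ ⧸ scal ρ := QuotientGroup.mk' _
  let W : Subgroup (Γ ⧸ scal ρ) := N.map π
  haveI hW : W.Normal := hN.map π (QuotientGroup.mk'_surjective _)
  have hWN : ∀ a ∈ N, (a : Γ ⧸ scal ρ) ∈ W := fun a ha => ⟨a, ha, rfl⟩
  -- `N` may be replaced by the preimage of `W`
  have anti : ∀ a b : Γ, (a : Γ ⧸ scal ρ) ∈ W → (b : Γ ⧸ scal ρ) ∈ W → ¬ Commute (ρ a) (ρ b) →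
      ρ a * ρ b = -(ρ b * ρ a) := by
    rintro a b ⟨a', ha, ha'⟩ ⟨b', hb, hb'⟩ hab
    obtain ⟨c, hc⟩ := rel_of_mk_eq (ρ := ρ) ha'
    obtain ⟨d, hd⟩ := rel_of_mk_eq (ρ := ρ) hb'
    obtain ⟨κ, hκ⟩ := h.comm a' ha b' hb
    have h1 := comm_pow_left hκ 2
    obtain ⟨s, hs⟩ := hsq a' ha
    rw [sq, map_mul, map_mul ρ b', hs, smul_mul_assoc, mul_smul_comm, one_mul, mul_one] at h1
    have h0 : s • ρ b' ≠ 0 := by
      have := rho_ne_zero (ρ := ρ) (a' * a' * b')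
      rwa [map_mul, hs, smul_mul_assoc, one_mul] at this
    have h3 : κ ^ 2 = 1 := (smul_left_injective F h0 (by
      show (1 : F) • _ = κ ^ 2 • _
      rw [one_smul]; exact h1)).symm
    rw [map_mul, map_mul] at hκ
    rcases sq_eq_one_iff.1 h3 with h4 | h4
    · exact absurd (commute_of_mk_eq ha' hb' (by rw [h4, one_smul] at hκ; exact hκ)) hab
    · rw [hc, hd, smul_mul_smul_comm, smul_mul_smul_comm, hκ, h4, neg_one_smul, smul_neg,
        mul_comm c d]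
  have hW2 : ∀ x ∈ W, x * x = 1 := by
    rintro _ ⟨a, ha, rfl⟩
    rw [← map_mul]
    exact (QuotientGroup.eq_one_iff _).2 (hsq a ha)
  have hminW : ∀ Y ≤ W, Y.Normal → Y = ⊥ ∨ Y = W := by
    intro Y hY hYn
    rcases hmin (Y.comap π ⊓ N) inferInstance inf_le_right with h1 | h1
    · left
      refine eq_bot_iff.2 fun y hy => ?_
      obtain ⟨a, ha, rfl⟩ := hY hy
      exact (QuotientGroup.eq_one_iff _).2 (h1 ⟨hy, ha⟩)
    · right
      refine le_antisymm hY ?_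
      rintro _ ⟨a, ha, rfl⟩
      rw [← h1] at ha
      exact ha.1
  have hC : Subgroup.centralizer (W : Set (Γ ⧸ scal ρ)) ≤ W := by
    intro g hg
    obtain ⟨g, rfl⟩ := QuotientGroup.mk_surjective g
    obtain ⟨s, hs, hgs⟩ := h.mem_of_comm hc hi (g := g) fun a ha =>
      rel_of_mk_eq (by rw [QuotientGroup.mk_mul, QuotientGroup.mk_mul, hg _ (hWN a ha)])
    have : (g : Γ ⧸ scal ρ) = s := by
      rw [← inv_mul_cancel_right g s, QuotientGroup.mk_mul, (QuotientGroup.eq_one_iff _).2 hgs,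
        one_mul]
    rw [this]
    exact hWN s hs
  have badd : ∀ x ∈ W, ∀ y ∈ W, ∀ z ∈ W, cform ρ (x * y) z = cform ρ x z + cform ρ y z := by
    intro x hx y hy z hz
    obtain ⟨a, rfl⟩ := QuotientGroup.mk_surjective x
    obtain ⟨b, rfl⟩ := QuotientGroup.mk_surjective y
    obtain ⟨c, rfl⟩ := QuotientGroup.mk_surjective z
    have hne : ∀ u : Γ, ρ u ≠ -ρ u := fun u hu => rho_ne_zero u (by
      have : (2 : F) • ρ u = 0 := by rw [two_smul]; nth_rw 2 [hu]; exact add_neg_cancel _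
      exact (smul_eq_zero.1 this).resolve_left h2)
    rw [← QuotientGroup.mk_mul, cform_mk, cform_mk, cform_mk, map_mul]
    by_cases h1 : Commute (ρ a) (ρ c) <;> by_cases h3 : Commute (ρ b) (ρ c)
    · rw [if_pos (h1.mul_left h3), if_pos h1, if_pos h3, add_zero]
    · rw [if_pos h1, if_neg h3, if_neg, zero_add]
      intro h4
      apply hne (c * a * b)
      rw [map_mul, map_mul]
      conv_lhs => rw [mul_assoc, ← h4.eq, mul_assoc, anti b c hy hz h3, mul_neg, ← mul_assoc,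
        h1.eq]
    · rw [if_neg h1, if_pos h3, if_neg, add_zero]
      intro h4
      apply hne (c * a * b)
      rw [map_mul, map_mul]
      conv_lhs => rw [mul_assoc, ← h4.eq, mul_assoc, h3.eq, ← mul_assoc, anti a c hx hz h1,
        neg_mul]
    · rw [if_neg h1, if_neg h3, if_pos]
      · rfl
      · show _ * _ = _ * _
        rw [mul_assoc, anti b c hy hz h3, mul_neg, ← mul_assoc, anti a c hx hz h1, neg_mul,
          neg_neg, mul_assoc]
  have bsymm : ∀ x ∈ W, ∀ y ∈ W, cform ρ x y = cform ρ y x := fun x _ y _ => by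
    unfold cform
    congr 1
    exact propext ⟨Commute.symm, Commute.symm⟩
  have balt : ∀ x ∈ W, cform ρ x x = 0 := fun x _ => if_pos (Commute.refl _)
  have bnd : ∀ x ∈ W, (∀ y ∈ W, cform ρ x y = 0) → x = 1 := by
    rintro _ ⟨a, ha, rfl⟩ hx
    refine (QuotientGroup.eq_one_iff _).2 (h.nondeg a ha fun b hb => ?_)
    rw [map_mul, map_mul]
    exact cform_eq_zero.1 (hx b (hWN b hb))
  have hconj : ∀ g a b : Γ, Commute (ρ a) (ρ b) → Commute (ρ (g * a * g⁻¹)) (ρ (g * b * g⁻¹)) := by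
    intro g a b hab
    show _ * _ = _ * _
    rw [← map_mul, ← map_mul, conj_mul, conj_mul, map_mul, map_mul, map_mul ρ a, hab.eq,
      ← map_mul ρ b, ← map_mul, ← map_mul]
  have binv : ∀ g, ∀ x ∈ W, ∀ y ∈ W, cform ρ (g * x * g⁻¹) (g * y * g⁻¹) = cform ρ x y := by
    intro g x _ y _
    obtain ⟨a, rfl⟩ := QuotientGroup.mk_surjective x
    obtain ⟨b, rfl⟩ := QuotientGroup.mk_surjective y
    obtain ⟨g, rfl⟩ := QuotientGroup.mk_surjective g
    rw [← QuotientGroup.mk_inv, ← QuotientGroup.mk_mul, ← QuotientGroup.mk_mul,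
      ← QuotientGroup.mk_mul, ← QuotientGroup.mk_mul, cform_mk, cform_mk]
    congr 1
    refine propext ⟨fun h => ?_, hconj g a b⟩
    have := hconj g⁻¹ _ _ h
    simpa [mul_assoc] using this
  have hcardW : Nat.card W = finrank F V ^ 2 := by
    rw [← h.relIndex_eq hc hi, ← Subgroup.relIndex_ker, QuotientGroup.ker_mk']
  have hprim : ∀ Y : Subgroup (Γ ⧸ scal ρ), Y < W → Y ≠ ⊥ →
      (∀ x ∈ Y, (∀ y ∈ Y, cform ρ x y = 0) → x = 1) →
      ∃ g, MulAut.conj g • Y ≠ Y ∧ ∃ x ∈ Y, ∃ y ∈ Y, cform ρ x (g * y * g⁻¹) ≠ 0 := by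
    intro Y hY hY0 hnd
    by_contra hcon
    push Not at hcon
    have h1 : Heis ρ (Y.comap π) := by
      refine ⟨fun a ha b hb => ?_, fun a ha hab => ?_⟩
      · rw [map_mul, map_mul]
        by_cases h3 : Commute (ρ a) (ρ b)
        · exact ⟨1, by rw [h3.eq, one_smul]⟩
        · exact ⟨-1, by rw [anti a b (hY.le ha) (hY.le hb) h3, neg_one_smul]⟩
      · refine (QuotientGroup.eq_one_iff _).1 (hnd a ha fun y hy => ?_)
        obtain ⟨b, rfl⟩ := QuotientGroup.mk_surjective y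
        have := hab b hy
        rw [map_mul, map_mul] at this
        exact cform_eq_zero.2 this
    refine hR (reg2_of_tensor hp ih hs hc h1 (fun hle => hY0 (eq_bot_iff.2 fun y hy => ?_))
      (fun g hg a ha b hb => ?_) (fun hi' => ?_))
    · obtain ⟨b, rfl⟩ := QuotientGroup.mk_surjective y
      exact (QuotientGroup.eq_one_iff _).2 (hle hy)
    · refine cform_eq_zero.1 (hcon g (fun hg' => hg fun n => ?_) a ha b hb)
      show (n : Γ ⧸ scal ρ) ∈ Y ↔ MulAut.conj (g : Γ ⧸ scal ρ) • (n : Γ ⧸ scal ρ) ∈ Y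
      conv_rhs => rw [← hg']
      exact Subgroup.smul_mem_pointwise_smul_iff.symm
    · have h3 := h1.relIndex_eq hc hi'
      have h4 := Subgroup.relIndex_ker (K := Y.comap π) π
      rw [QuotientGroup.ker_mk', h3, ← hcardW,
        Subgroup.map_comap_eq_self_of_surjective (QuotientGroup.mk'_surjective _)] at h4
      exact hY.ne (Subgroup.eq_of_le_of_card_ge hY.le h4.le)
  obtain ⟨n, hn⟩ : ∃ n, finrank F V = 2 ^ n := by
    have : IsPGroup 2 W := fun x => ⟨1, Subtype.ext (by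
      rw [pow_one, sq]; exact hW2 x x.2)⟩
    obtain ⟨k, hk⟩ := IsPGroup.iff_card.1 this
    obtain ⟨n, -, hn⟩ := (Nat.dvd_prime_pow Nat.prime_two).1
      (show finrank F V ∣ 2 ^ k by rw [← hk, hcardW]; exact dvd_pow_self _ two_ne_zero)
    exact ⟨n, hn⟩
  have hn4 : Nat.card W = 4 ^ n := by rw [hcardW, hn, ← pow_mul, mul_comm, pow_mul]; rfl
  have hn2 : 2 ≤ n := by
    by_contra hlt
    have : n = 0 ∨ n = 1 := by omega
    rcases this with rfl | rfl
    · apply hna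
      intro a ha
      have := (Subgroup.eq_bot_iff_card W).2 hn4
      have h3 := hWN a ha
      rw [this] at h3
      exact (QuotientGroup.eq_one_iff _).1 h3
    · exact hR (reg2_of_finrank_two hn)
  have hG : ¬ p ∣ Nat.card (Γ ⧸ scal ρ) := fun h =>
    hc (h.trans (Subgroup.card_quotient_dvd_card _))
  have E := hE inferInstance (cform ρ) hW2 hminW hC badd bsymm balt bnd binv hprim hn4 hn2 hp hp2 hG
  -- dimensions of eigenspaces
  have eigW : ∀ g : Γ, (g : Γ ⧸ scal ρ) ∈ W → (g : Γ ⧸ scal ρ) ≠ 1 → ∀ c,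
      2 * finrank F ((ρ g).eigenspace c) ≤ finrank F V := by
    intro g hg hg1 c
    have : ¬ ∀ y ∈ W, cform ρ g y = 0 := fun h => hg1 (bnd _ hg h)
    push Not at this
    obtain ⟨y, hy, hy'⟩ := this
    obtain ⟨ε, rfl⟩ := QuotientGroup.mk_surjective y
    exact eig_le_of_anti h2 (anti g ε hg hy (mt cform_eq_zero.2 hy')) c
  let tame : Set (Γ ⧸ scal ρ) := {g | g ≠ 1 ∧ (g ∈ W ∨ ∃ w ∈ W, cform ρ w (g * w * g⁻¹) ≠ 0)}
  have eigT : ∀ g ∈ tame, ∀ c, 2 * finrank F ((ρ g.out).eigenspace c) ≤ finrank F V := by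
    rintro g ⟨hg1, hg | ⟨_, ⟨w, hw, rfl⟩, hw'⟩⟩ c
    · exact eigW _ (by rwa [QuotientGroup.out_eq']) (by rwa [QuotientGroup.out_eq']) c
    · refine eig_le_of_tame h2 (hsq w hw) (anti _ _ (hWN w hw) (hWN _ (hN.conj_mem w hw _))
        fun h => hw' ?_) c
      rw [← QuotientGroup.out_eq' g]
      exact cform_eq_zero.2 h
  have eigA : ∀ g : Γ ⧸ scal ρ, g ∉ W → ∀ c,
      4 * finrank F ((ρ g.out).eigenspace c) ≤ 3 * finrank F V := by
    intro g hg c
    have : ¬ ∀ w ∈ (W : Set (Γ ⧸ scal ρ)), w * g = g * w := fun h => hg (hC h)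
    push Not at this
    obtain ⟨_, ⟨w, hw, rfl⟩, hw'⟩ := this
    have h3 := eig_le (ρ := ρ) g.out w c
    have h4 := eigW (g.out⁻¹ * w * g.out * w⁻¹) (hWN _ (N.mul_mem (by
      simpa using hN.conj_mem w hw g.out⁻¹) (N.inv_mem hw))) (fun h => hw' (by
        rw [QuotientGroup.mk_mul, QuotientGroup.mk_mul, QuotientGroup.mk_mul, QuotientGroup.mk_inv,
          QuotientGroup.mk_inv, QuotientGroup.out_eq', mul_inv_eq_one, mul_assoc,
          inv_mul_eq_iff_eq_mul] at h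
        exact h)) 1
    omega
  obtain ⟨m, rfl⟩ := Nat.exists_eq_add_of_le' hn2
  set Q := Nat.card F ^ 2 ^ (m + 1) with hQ
  have hQ0 : 0 < Q := pow_pos Nat.card_pos _
  have hVQ : Nat.card V ^ 2 = Q ^ 4 := by
    rw [Module.natCard_eq_pow_finrank (K := F), hn, hQ, ← pow_mul, ← pow_mul]
    congr 1; ring
  have pT : ∀ g ∈ tame, (pairs (ρ g.out)).ncard ≤ 2 * (Q ^ 2 - 1) := fun g hg => by
    have := pairs_bound (ρ g.out) (D := 2 ^ (m + 1)) fun c => by
      have := eigT g hg c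
      rw [hn, pow_succ] at this
      omega
    rw [hn, ← pow_mul, mul_comm 2, pow_mul, ← hQ, pow_succ 2 (m + 1), mul_assoc] at this
    exact Nat.le_of_mul_le_mul_left this (by positivity)
  have pA : ∀ g : Γ ⧸ scal ρ, g ∉ W → 3 * (pairs (ρ g.out)).ncard ≤ 4 * (Q ^ 3 - 1) := fun g hg => by
    have := pairs_bound (ρ g.out) (D := 2 ^ m * 3) fun c => by
      have := eigA g hg c
      rw [hn, pow_add] at this
      omega
    have e : (Nat.card F ^ 2) ^ (2 ^ m * 3) = Q ^ 3 := by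
      rw [hQ, ← pow_mul, ← pow_mul]
      congr 1; ring
    rw [hn, e, pow_add, mul_assoc, mul_assoc] at this
    exact Nat.le_of_mul_le_mul_left this (by positivity)
  let A : Set (Γ ⧸ scal ρ) := {g | g ∉ W ∧ g * g = 1 ∧ ∀ w ∈ W, cform ρ w (g * w * g⁻¹) = 0}
  have main : ¬ 6 * Nat.card (Γ ⧸ scal ρ) + 4 * A.ncard * Q ≤ 3 * Q ^ 2 := by
    intro hle
    refine hR (reg2_of_count ((⋃ g ∈ tame, pairs (ρ g.out)) ∪ ⋃ g ∈ A, pairs (ρ g.out)) ?_ ?_)
    · have h3 := Set.ncard_union_le (⋃ g ∈ tame, pairs (ρ g.out)) (⋃ g ∈ A, pairs (ρ g.out))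
      have h4 := mul_ncard_biUnion_le tame (fun g => pairs (ρ g.out)) (k := 1)
        (B := 2 * (Q ^ 2 - 1)) fun g hg => by rw [one_mul]; exact pT g hg
      have h5 := mul_ncard_biUnion_le A (fun g => pairs (ρ g.out)) fun g hg => pA g hg.1
      have h6 : tame.ncard ≤ Nat.card (Γ ⧸ scal ρ) := Set.ncard_le_card _
      have h7 : 0 < Nat.card (Γ ⧸ scal ρ) := Nat.card_pos
      have h8 := Nat.mul_le_mul_right (2 * (Q ^ 2 - 1)) h6
      have h9 := Nat.mul_le_mul_right (Q ^ 2) hle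
      obtain ⟨Q2, hQ2⟩ := Nat.exists_eq_add_of_le' (Nat.one_le_pow 2 Q hQ0)
      have h10 : A.ncard * (4 * (Q ^ 3 - 1)) ≤ A.ncard * (4 * Q ^ 3) :=
        Nat.mul_le_mul_left _ (by omega)
      rw [hVQ]
      rw [hQ2, Nat.add_sub_cancel] at h4 h8
      have e1 : (6 * Nat.card (Γ ⧸ scal ρ) + 4 * A.ncard * Q) * Q ^ 2 =
          3 * (Nat.card (Γ ⧸ scal ρ) * (2 * Q2)) + 6 * Nat.card (Γ ⧸ scal ρ) +
            A.ncard * (4 * Q ^ 3) := by
        rw [add_mul, show 4 * A.ncard * Q * Q ^ 2 = A.ncard * (4 * Q ^ 3) by ring, hQ2]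
        ring
      have e2 : 3 * Q ^ 2 * Q ^ 2 = 3 * Q ^ 4 := by ring
      omega
    · intro g x y hx hy hg h0
      have hg1 : (g : Γ ⧸ scal ρ) ≠ 1 := fun h =>
        hg (eq_one_of_scal hx hy h0 ((QuotientGroup.eq_one_iff _).1 h))
      by_cases ht : (g : Γ ⧸ scal ρ) ∈ tame
      · exact Or.inl (Set.mem_biUnion ht (mem_pairs_out hx hy h0))
      have ht' : (g : Γ ⧸ scal ρ) ∉ W ∧ ∀ w ∈ W, cform ρ w (g * w * (g : Γ ⧸ scal ρ)⁻¹) = 0 := by
        by_contra hcon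
        refine ht ⟨hg1, ?_⟩
        by_contra hcon'
        push Not at hcon'
        exact hcon hcon'
      by_cases hg2 : (g : Γ ⧸ scal ρ) * g = 1
      · exact Or.inr (Set.mem_biUnion (s := A) ⟨ht'.1, hg2, ht'.2⟩ (mem_pairs_out hx hy h0))
      · have : ((g * g : Γ) : Γ ⧸ scal ρ) ∈ tame :=
          ⟨hg2, Or.inl (sq_mem_of_typeA (cform ρ) hW2 hC badd bsymm bnd binv ht'.2)⟩
        exact Or.inl (Set.mem_biUnion this (mem_pairs_out (by rw [mul_apply', hx, hx])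
          (by rw [mul_apply', hy, hy]) h0))
  haveI := Fintype.ofFinite F
  obtain ⟨k, -, hk⟩ := FiniteField.card F p
  rw [← Nat.card_eq_fintype_card] at hk
  rcases E with E | ⟨hm, hp3, hA, hle, hinv, hl⟩
  · refine main (mono_ineq (pow_pos hp.pos _) ?_ E)
    refine Nat.pow_le_pow_left ?_ _
    rw [hk]
    exact Nat.le_self_pow k.ne_zero p
  have hA0 : A = ∅ := Set.eq_empty_of_forall_notMem fun g hg => hg.1 (hA g hg.2.1 hg.2.2)
  have hm0 : m = 0 := by omega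
  subst hm0 hp3
  by_cases hq : Nat.card F = 3
  swap
  · apply main
    have : 9 ≤ Nat.card F := by
      rw [hk] at hq ⊢
      have : (k : ℕ) ≠ 1 := fun h => hq (by rw [h, pow_one])
      have := k.pos
      exact Nat.pow_le_pow_right (n := 3) (i := 2) (by norm_num) (by omega)
    have : 9 ^ 2 ≤ Q := Nat.pow_le_pow_left this _
    rw [hA0, Set.ncard_empty]
    nlinarith
  have hQ9 : Q = 9 := by rw [hQ, hq]; rfl
  let I : Set (Γ ⧸ scal ρ) := {g | g * g = 1 ∧ g ≠ 1}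
  have hIT : ∀ g ∈ I, g ∈ tame := fun g hg => ⟨hg.2, by
    by_contra hcon
    push Not at hcon
    exact hcon.1 (hA g hg.1 hcon.2)⟩
  refine hR (reg2_of_count (⋃ g ∈ I, pairs (ρ g.out)) ?_ ?_)
  · have h4 := mul_ncard_biUnion_le I (fun g => pairs (ρ g.out)) (k := 1)
      (B := 2 * (Q ^ 2 - 1)) fun g hg => by rw [one_mul]; exact pT g (hIT g hg)
    have h5 : I.ncard ≤ 36 := (Set.ncard_le_ncard (fun g hg => hg.1)).trans hinv
    rw [hVQ, hQ9]
    rw [hQ9] at h4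
    omega
  · intro g x y hx hy hg h0
    have hg1 : (g : Γ ⧸ scal ρ) ≠ 1 := fun h =>
      hg (eq_one_of_scal hx hy h0 ((QuotientGroup.eq_one_iff _).1 h))
    obtain ⟨l, hl1, hl2⟩ := Nat.exists_prime_and_dvd (mt orderOf_eq_one_iff.1 hg1)
    have ho := orderOf_pow_orderOf_div (orderOf_pos (g : Γ ⧸ scal ρ)).ne' hl2
    set j := orderOf (g : Γ ⧸ scal ρ) / l
    rw [← QuotientGroup.mk_pow] at ho
    have hx' := pow_apply_fix ρ hx j
    have hy' := pow_apply_fix ρ hy j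
    have h1 : ((g ^ j : Γ) : Γ ⧸ scal ρ) ≠ 1 := fun h => by
      rw [h, orderOf_one] at ho
      exact hl1.one_lt.ne ho
    have h3 := pow_orderOf_eq_one ((g ^ j : Γ) : Γ ⧸ scal ρ)
    rw [ho] at h3
    rcases hl l hl1 (hl2.trans (orderOf_dvd_natCard _)) with rfl | rfl
    · exact Set.mem_biUnion (s := I) ⟨by rwa [← sq], h1⟩ (mem_pairs_out hx' hy' h0)
    · exfalso
      have h4 := eq_one_of_scal (pow_apply_fix ρ hx' 5) (pow_apply_fix ρ hy' 5) h0
        ((QuotientGroup.eq_one_iff _).1 h3)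
      rw [map_pow] at h4
      have h5 : ρ (g ^ j) ≠ 1 := fun h =>
        h1 ((QuotientGroup.eq_one_iff _).2 ⟨1, by rw [h, one_smul]⟩)
      exact h0 (Prod.ext (fix_order_five hq hn h4 h5 hx') (fix_order_five hq hn h4 h5 hy'))

end Cfsg.B2
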