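import Cfsg.Agent.B2.Lin

set_option autoImplicit false
set_option linter.style.haveILetI false

namespace Cfsg.B2

open Module

theorem chord_bound {Q d D : ℕ} (hQ : 1 ≤ Q) (h : d ≤ D) : D * (Q ^ d - 1) ≤ d * (Q ^ D - 1) := by
  obtain ⟨P, rfl⟩ := Nat.exists_eq_add_of_le' hQ
  have e : ∀ n, (P + 1) ^ n - 1 = (∑ i ∈ Finset.range n, (P + 1) ^ i) * P := fun n => by
    rw [← geom_sum_mul_add P n, Nat.add_sub_cancel]
  rw [e, e, ← mul_assoc, ← mul_assoc]
  refine Nat.mul_le_mul_right _ ?_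
  induction D, h using Nat.le_induction with
  | base => exact le_rfl
  | succ D hD ih =>
    have : ∑ i ∈ Finset.range d, (P + 1) ^ i ≤ d * (P + 1) ^ D := by
      have := Finset.sum_le_card_nsmul (Finset.range d) (fun i => (P + 1) ^ i) ((P + 1) ^ D)
        fun i hi => Nat.pow_le_pow_right (by omega) (by rw [Finset.mem_range] at hi; omega)
      rwa [Finset.card_range, smul_eq_mul] at this
    rw [Finset.sum_range_succ, mul_add, add_mul, one_mul]
    omega

variable {F V : Type} [Field F] [AddCommGroup V] [Module F V]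

/-- non-zero pairs of vectors in a common eigenspace -/
def pairs (T : End F V) : Set (V × V) := {z | z ≠ 0 ∧ ∃ c : F, T z.1 = c • z.1 ∧ T z.2 = c • z.2}

theorem pairs_bound [Finite F] [Finite V] (T : End F V) {D : ℕ}
    (hD : ∀ c, finrank F (T.eigenspace c) ≤ D) :
    D * (pairs T).ncard ≤ finrank F V * ((Nat.card F ^ 2) ^ D - 1) := by
  classical
  haveI := Fintype.ofFinite F
  haveI : Module.Finite F V := Module.Finite.of_finite
  have hsum : ∑ c, finrank F (T.eigenspace c) ≤ finrank F V := by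
    rw [← Module.finrank_directSum]
    exact LinearMap.finrank_le_finrank_of_injective
      (f := DirectSum.coeLinearMap fun c => T.eigenspace c)
      T.eigenspaces_iSupIndep.dfinsupp_lsum_injective
  have hsub : pairs T ⊆ ⋃ c : F, ((T.eigenspace c : Set V) ×ˢ (T.eigenspace c : Set V)) \ {0} := by
    rintro z ⟨h0, c, h1, h2⟩
    exact Set.mem_iUnion.2 ⟨c, ⟨End.mem_eigenspace_iff.2 h1, End.mem_eigenspace_iff.2 h2⟩, h0⟩
  have h1 := (Set.ncard_le_ncard hsub).trans (Set.ncard_iUnion_le_of_fintype _)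
  have h2 : ∀ c : F, (((T.eigenspace c : Set V) ×ˢ (T.eigenspace c : Set V)) \ {0}).ncard =
      (Nat.card F ^ 2) ^ finrank F (T.eigenspace c) - 1 := fun c => by
    rw [Set.ncard_diff_singleton_of_mem (Set.mem_prod.2 ⟨Submodule.zero_mem _, Submodule.zero_mem _⟩),
      Set.ncard_prod, ← Nat.card_coe_set_eq, ← pow_mul, mul_comm 2, pow_mul, sq,
      ← Module.natCard_eq_pow_finrank]
    rfl
  simp only [h2] at h1
  have hq : 1 ≤ Nat.card F ^ 2 := Nat.one_le_pow _ _ Nat.card_pos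
  calc D * (pairs T).ncard ≤ D * ∑ c, ((Nat.card F ^ 2) ^ finrank F (T.eigenspace c) - 1) :=
        Nat.mul_le_mul_left _ h1
    _ ≤ ∑ c, finrank F (T.eigenspace c) * ((Nat.card F ^ 2) ^ D - 1) := by
        rw [Finset.mul_sum]
        exact Finset.sum_le_sum fun c _ => chord_bound hq (hD c)
    _ ≤ _ := by rw [← Finset.sum_mul]; exact Nat.mul_le_mul_right _ hsum

variable {Γ : Type} [Group Γ] {ρ : Γ →* Module.End F V}

theorem eig_le [Finite V] (g ε : Γ) (c : F) : 2 * finrank F ((ρ g).eigenspace c) ≤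
    finrank F V + finrank F ((ρ (g⁻¹ * ε * g * ε⁻¹)).eigenspace 1) := by
  haveI : Module.Finite F V := Module.Finite.of_finite
  have hinj : Function.Injective (ρ ε) := fun v w h => by
    rw [← inv_apply_apply ρ ε v, h, inv_apply_apply]
  have h1 := Submodule.finrank_sup_add_finrank_inf_eq ((ρ g).eigenspace c)
    (((ρ g).eigenspace c).map (ρ ε))
  rw [← (Submodule.equivMapOfInjective _ hinj _).finrank_eq] at h1
  have h2 := Submodule.finrank_le ((ρ g).eigenspace c ⊔ ((ρ g).eigenspace c).map (ρ ε))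
  have h3 : (ρ g).eigenspace c ⊓ ((ρ g).eigenspace c).map (ρ ε) ≤
      (ρ (g⁻¹ * ε * g * ε⁻¹)).eigenspace 1 := by
    rintro v ⟨hv, w, hw, rfl⟩
    rw [SetLike.mem_coe, End.mem_eigenspace_iff] at hv hw
    rw [End.mem_eigenspace_iff, one_smul, mul_apply', mul_apply', mul_apply', inv_apply_apply, hw,
      map_smul, ← hv, inv_apply_apply]
  have h4 := Submodule.finrank_mono h3
  omega

theorem eig_one_eq_bot (h2 : (2 : F) ≠ 0) {c : Γ} (hc : ρ c * ρ c = -1 ∨ ρ c = -1) :
    finrank F ((ρ c).eigenspace 1) = 0 := by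
  have : (ρ c).eigenspace 1 = ⊥ := eq_bot_iff.2 fun v hv => by
    rw [End.mem_eigenspace_iff, one_smul] at hv
    have h1 : v = -v := by
      rcases hc with hc | hc
      · have := LinearMap.congr_fun hc v
        rwa [End.mul_apply, hv, hv] at this
      · have := LinearMap.congr_fun hc v
        rwa [hv] at this
    have : (2 : F) • v = 0 := by rw [two_smul]; nth_rw 2 [h1]; exact add_neg_cancel v
    exact (smul_eq_zero.1 this).resolve_left h2
  rw [this, finrank_bot]

theorem eig_le_of_anti [Finite V] (h2 : (2 : F) ≠ 0) {g ε : Γ} (h : ρ g * ρ ε = -(ρ ε * ρ g))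
    (c : F) : 2 * finrank F ((ρ g).eigenspace c) ≤ finrank F V := by
  have := eig_le (ρ := ρ) g ε c
  rwa [eig_one_eq_bot h2 (Or.inr (by
    rw [map_mul, mul_assoc g⁻¹, map_mul, map_mul, ← neg_neg (ρ ε * ρ g), ← h, mul_neg, neg_mul,
      ← map_mul, ← map_mul, ← map_mul, inv_mul_cancel_left, mul_inv_cancel, map_one])),
    add_zero] at this

theorem eig_le_of_tame [Finite V] (h2 : (2 : F) ≠ 0) {g w : Γ} (hw : w * w ∈ scal ρ)
    (h : ρ w * ρ (g * w * g⁻¹) = -(ρ (g * w * g⁻¹) * ρ w)) (c : F) :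
    2 * finrank F ((ρ g).eigenspace c) ≤ finrank F V := by
  have := eig_le (ρ := ρ) g (g * w * g⁻¹) c
  rwa [eig_one_eq_bot h2 (Or.inl (by
    obtain ⟨s, hs⟩ := hw
    set ε := g * w * g⁻¹ with hε
    have e1 : g⁻¹ * ε * g = w := by rw [hε]; group
    have e2 : ρ (ε * ε) = ρ (w * w) := by
      rw [show ε * ε = g * (w * w) * g⁻¹ by rw [hε]; group, map_mul, map_mul, hs, mul_smul_comm,
        mul_one, smul_mul_assoc, ← map_mul, mul_inv_cancel, map_one]
    have e3 : ρ ε⁻¹ * ρ w = -(ρ w * ρ ε⁻¹) := by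
      have := congrArg (fun f => ρ ε⁻¹ * f * ρ ε⁻¹) h
      simp only [mul_neg, neg_mul, ← map_mul] at this
      rw [← map_mul, ← map_mul]
      simpa only [mul_assoc, mul_inv_cancel, mul_one, inv_mul_cancel_left] using this
    rw [e1, map_mul, mul_assoc, ← mul_assoc (ρ ε⁻¹), e3, neg_mul, mul_neg, ← mul_assoc,
      ← mul_assoc, ← map_mul, ← e2, ← map_mul, ← map_mul]
    simp)), add_zero] at this

theorem reg2_of_count [Finite V] (S : Set (V × V)) (hS : S.ncard + 1 < Nat.card V ^ 2)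
    (h : ∀ g x y, ρ g x = x → ρ g y = y → ρ g ≠ 1 → (x, y) ≠ 0 → (x, y) ∈ S) : Reg2 ρ := by
  by_contra hcon
  unfold Reg2 at hcon
  push Not at hcon
  have : (Set.univ : Set (V × V)) ⊆ insert 0 S := by
    rintro ⟨x, y⟩ -
    obtain ⟨g, h1, h2, h3⟩ := hcon x y
    by_cases h0 : (x, y) = 0
    · exact Or.inl h0
    · exact Or.inr (h g x y h1 h2 h3 h0)
  have h1 := (Set.ncard_le_ncard this).trans (Set.ncard_insert_le _ _)
  rw [Set.ncard_univ, Nat.card_prod, ← sq] at h1
  omega

theorem reg2_of_finrank_two (h : finrank F V = 2) : Reg2 ρ := by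
  haveI : Module.Finite F V := Module.finite_of_finrank_pos (by omega)
  let b := Module.finBasisOfFinrankEq F V h
  refine ⟨b 0, b 1, fun g h0 h1 => b.ext fun i => ?_⟩
  fin_cases i
  · exact h0
  · exact h1

theorem fix_order_five [Finite F] [Finite V] (hq : Nat.card F = 3) (he : finrank F V = 4)
    {T : End F V} (hT : T ^ 5 = 1) (hT1 : T ≠ 1) {x : V} (hx : T x = x) : x = 0 := by
  classical
  haveI := Fintype.ofFinite V
  haveI : Module.Finite F V := Module.Finite.of_finite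
  haveI : Fact (Nat.Prime 5) := ⟨by norm_num⟩
  have h1 := Equiv.Perm.card_fixedPoints_modEq (α := V) (f := (T : V → V)) (p := 5) (n := 1) (by
    funext v
    have := LinearMap.congr_fun hT v
    rw [End.pow_apply] at this
    exact this)
  have h2 : Fintype.card (Function.fixedPoints (T : V → V)) = Nat.card (T.eigenspace 1) := by
    rw [← Nat.card_eq_fintype_card]
    exact Nat.card_congr (Equiv.subtypeEquivRight fun v => by
      rw [End.mem_eigenspace_iff, one_smul]; rfl)
  rw [h2, ← Nat.card_eq_fintype_card, Module.natCard_eq_pow_finrank (K := F) (V := V),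
    Module.natCard_eq_pow_finrank (K := F) (V := T.eigenspace 1), hq, he] at h1
  have h3 : finrank F (T.eigenspace 1) < 4 := he ▸ Submodule.finrank_lt fun h => hT1 (by
    ext v
    have : v ∈ T.eigenspace 1 := h ▸ Submodule.mem_top
    rwa [End.mem_eigenspace_iff, one_smul] at this)
  have h4 : finrank F (T.eigenspace 1) = 0 := by
    generalize finrank F (T.eigenspace 1) = d at h1 h3
    interval_cases d
    · rfl
    all_goals exact absurd h1 (by decide)
  have : x ∈ T.eigenspace 1 := by rw [End.mem_eigenspace_iff, one_smul, hx]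
  rwa [Submodule.finrank_eq_zero.1 h4] at this

/-- an automorphism with `b w (g w) = 0` for all `w` has order at most two -/
theorem sq_mem_of_typeA {G : Type} [Group G] {W : Subgroup G} [hW : W.Normal]
    (b : G → G → ZMod 2) (hW2 : ∀ x ∈ W, x * x = 1)
    (hC : Subgroup.centralizer (W : Set G) ≤ W)
    (badd : ∀ x ∈ W, ∀ y ∈ W, ∀ z ∈ W, b (x * y) z = b x z + b y z)
    (bsymm : ∀ x ∈ W, ∀ y ∈ W, b x y = b y x)
    (bnd : ∀ x ∈ W, (∀ y ∈ W, b x y = 0) → x = 1)
    (binv : ∀ g, ∀ x ∈ W, ∀ y ∈ W, b (g * x * g⁻¹) (g * y * g⁻¹) = b x y) {g : G}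
    (hg : ∀ w ∈ W, b w (g * w * g⁻¹) = 0) : g * g ∈ W := by
  have cm : ∀ (g : G), ∀ x ∈ W, g * x * g⁻¹ ∈ W := fun g x hx => hW.conj_mem x hx g
  have pol : ∀ w ∈ W, ∀ v ∈ W, b w (g * v * g⁻¹) + b v (g * w * g⁻¹) = 0 := by
    intro w hw v hv
    have h1 := hg _ (W.mul_mem hw hv)
    rw [show g * (w * v) * g⁻¹ = (g * w * g⁻¹) * (g * v * g⁻¹) by group,
      badd _ hw _ hv _ (W.mul_mem (cm g w hw) (cm g v hv)),
      bsymm _ hw _ (W.mul_mem (cm g w hw) (cm g v hv)),
      bsymm _ hv _ (W.mul_mem (cm g w hw) (cm g v hv)), badd _ (cm g w hw) _ (cm g v hv) _ hw,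
      badd _ (cm g w hw) _ (cm g v hv) _ hv, bsymm _ (cm g w hw) _ hw, bsymm _ (cm g v hv) _ hv,
      hg w hw, hg v hv, zero_add, add_zero, bsymm _ (cm g v hv) _ hw,
      bsymm _ (cm g w hw) _ hv] at h1
    exact h1
  refine hC fun w hw => ?_
  have hw' := cm g _ (cm g w hw)
  have h1 := bnd _ (W.mul_mem hw hw') fun u hu => by
    have hv := cm g⁻¹ u hu
    have h2 := pol w hw _ hv
    rw [badd _ hw _ hw' _ hu]
    have e : g * (g⁻¹ * u * g⁻¹⁻¹) * g⁻¹ = u := by group
    rw [e, bsymm _ hv _ (cm g w hw), ← binv g _ (cm g w hw) _ hv, e] at h2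
    exact h2
  have h3 : g * (g * w * g⁻¹) * g⁻¹ = w := by
    rw [eq_inv_of_mul_eq_one_right h1, ← eq_inv_of_mul_eq_one_right (hW2 w hw)]
  conv_lhs => rw [← h3]
  group

end Cfsg.B2
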